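import Cfsg.Agent.ThLocal.Glue

/-!
The centraliser is determined up to isomorphism.
-/

set_option autoImplicit false
set_option maxRecDepth 100000

open Cfsg Cfsg.Agent.ThreeTrans.OrthCohom Cfsg.Agent.Classical.Quad QuadraticMap Cfsg.Agent.LargeExtra
open Cfsg.Agent.CoOneType

namespace Cfsg.Agent.ThLocal

variable {G H : Type*} [Group G] [Finite G] [Group H] [Finite H] {z : G} {w : H}

/-- Over a product of two transpositions there is an element of square `z`. -/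
theorem ThS.exists_root {S : ThS z} {x : G} (F : S.Pair x) {y : G} (hyz : y * z = z * y)
    (hy : S.sig y = u1) : ∃ c, c * z = z * c ∧ S.sig c = u1 ∧ c * c = z := by
  have hsp := F.sp_true
  have hyy : (y * y) * z = z * (y * y) := (Commute.mul_left hyz hyz).eq
  have ha : y * y ∈ oc z := (S.sig_one_iff hyy).1 (by rw [S.sig_mul hyz hyz, hy, u1_sq])
  have hact : S.act y = S.ρ (wg [0, 1]) := by rw [u1_word]; exact S.act_sig hyz hy
  have hfix : wap true [0, 1] (cd (S.pr (y * y))).val = (cd (S.pr (y * y))).val := by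
    rw [← ThS.cd_act hsp hact, ← S.act_spec y hyz _ ha]
    congr 3
    group
  obtain ⟨himg, hU, hfixU, -⟩ := u1_code
  obtain ⟨-, -, v, hv⟩ := hU _ (hfixU _ hfix)
  obtain ⟨b, hb, hbe⟩ := S.pr_surj (dc v.val)
  have hbz := S.comm hb
  have hcz : b * y * z = z * (b * y) := (Commute.mul_left hbz hyz).eq
  have hcs : S.sig (b * y) = u1 := by
    rw [S.sig_mul hbz hyz, (S.sig_one_iff hbz).2 hb, one_mul, hy]
  refine ⟨b * y, hcz, hcs, ?_⟩
  have hm : b * (y * b * y⁻¹) ∈ oc z := mul_mem hb (S.nrm hyz hb)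
  have he : b * y * (b * y) = b * (y * b * y⁻¹) * (y * y) := by group
  have h0 : S.pr (b * y * (b * y)) = 0 := by
    rw [he, S.pr_mul _ hm _ ha, S.pr_mul _ hb _ (S.nrm hyz hb), S.act_spec y hyz b hb, hbe, hact,
      S.ρ_wap _ _ v.isLt, hsp, ← dc_xor, Nat.xor_comm, hv, dc_cd, v_add_self]
  have hne : b * y * (b * y) ≠ 1 := fun e =>
    S.no_invol_u1 F hcz e (by rw [hcs])
  exact (S.pr_ker _ (he ▸ mul_mem hm ha) h0).resolve_left hne

/-- The two centralisers are isomorphic, with `z` going to `w`. -/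
theorem cent_iso {S : ThS z} {T : ThS w} {x : G} {x' : H} (F : S.Pair x) (F' : T.Pair x') :
    ∃ ψ : ↥(Subgroup.centralizer ({z} : Set G)) ≃* ↥(Subgroup.centralizer ({w} : Set H)),
      ∀ c : ↥(Subgroup.centralizer ({z} : Set G)), (c : G) = z → (ψ c : H) = w := by
  classical
  obtain ⟨D, hD⟩ := exists_diag S T
  have hS := F.sp_true
  have hT := F'.sp_true
  set N := pairN S T D
  have hN : ∀ u : ↥N, u.1.1 * z = z * u.1.1 ∧ u.1.2 * w = w * u.1.2 ∧
      S.sig u.1.1 = T.sig u.1.2 ∧ ∀ d, d ∈ D ↔ u.1 * d * u.1⁻¹ ∈ D := fun u => u.2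
  set Dn : Subgroup ↥N := D.subgroupOf N
  have : Dn.Normal := ⟨fun d hd u => (hN u).2.2.2 d.1 |>.1 hd⟩
  let sN : ↥N →* A9 := MonoidHom.mk' (fun u => S.sig u.1.1) fun u v => S.sig_mul (hN u).1 (hN v).1
  have hDker : Dn ≤ sN.ker := fun u hu => MonoidHom.mem_ker.2
    ((S.sig_one_iff (hN u).1).2 (hD.le hu).1)
  let π : ↥N ⧸ Dn →* A9 := QuotientGroup.lift Dn sN hDker
  have hπs : Function.Surjective π := fun σ => by
    obtain ⟨c, hc, hca⟩ := S.act_surj σ
    obtain ⟨c', hc'⟩ := hD.pairN_surj hS hT hc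
    exact ⟨QuotientGroup.mk ⟨(c, c'), hc'⟩, S.sig_eq hc hca⟩
  set e : ↥N := ⟨(z, 1), hD.e_mem⟩
  have he : (QuotientGroup.mk e : ↥N ⧸ Dn) ≠ 1 := fun h => hD.nmem ((QuotientGroup.eq_one_iff e).1 h : e ∈ Dn)
  have hker : ∀ q, π q = 1 ↔ q = 1 ∨ q = QuotientGroup.mk e := by
    intro q
    obtain ⟨u, rfl⟩ := QuotientGroup.mk_surjective q
    constructor
    · intro h
      have hu1 : u.1.1 ∈ oc z := (S.sig_one_iff (hN u).1).1 h
      obtain ⟨b, hb⟩ := hD.exists_left hu1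
      set d : ↥N := ⟨(u.1.1, b), hD.le_pairN hb⟩
      have hd : d ∈ Dn := hb
      have hmk : (QuotientGroup.mk u : ↥N ⧸ Dn) = QuotientGroup.mk (d⁻¹ * u) := by
        rw [QuotientGroup.mk_mul, QuotientGroup.mk_inv, (QuotientGroup.eq_one_iff d).2 hd, inv_one, one_mul]
      have hval : (d⁻¹ * u).1 = ((1, b⁻¹ * u.1.2) : G × H) := Prod.ext (inv_mul_cancel u.1.1) rfl
      rcases hD.pairN_right (c := b⁻¹ * u.1.2) (hval ▸ (d⁻¹ * u).2) with e1 | e1
      · left
        rw [hmk, QuotientGroup.eq_one_iff]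
        show (d⁻¹ * u).1 ∈ D
        rw [hval, e1]; exact one_mem D
      · right
        rw [hmk, QuotientGroup.eq]
        show ((d⁻¹ * u)⁻¹ * e).1 ∈ D
        rw [Subgroup.coe_mul, Subgroup.coe_inv, hval, e1]
        convert hD.zw using 1
        exact Prod.ext (by simp [e]) (by simp [e, inv_eq_of_mul_eq_one_right T.zz])
    · rintro (h | h) <;> rw [h]
      · exact map_one π
      · exact (S.sig_one_iff rfl).2 S.zmem
  have hinv : ∀ q, IsConj (π q) u1 → q * q = 1 := by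
    obtain ⟨r, hr, hra⟩ := S.act_surj u1
    obtain ⟨c, hc, hcs, hcc⟩ := S.exists_root F hr (S.sig_eq hr hra)
    obtain ⟨c', hc'⟩ := hD.pairN_surj hS hT hc
    obtain ⟨-, hc'w, hsig, -⟩ := hN ⟨(c, c'), hc'⟩
    have hsq : c' * c' = w := by
      have h2 : ((c, c') : G × H) * (c, c') * (z, w)⁻¹ ∈ N :=
        mul_mem (mul_mem hc' hc') (inv_mem (hD.le_pairN hD.zw))
      rw [show ((c, c') : G × H) * (c, c') * (z, w)⁻¹ = (1, c' * c' * w⁻¹) from
        Prod.ext (by show c * c * z⁻¹ = 1; rw [hcc, mul_inv_cancel]) rfl] at h2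
      have hne : c' * c' ≠ 1 := fun h => T.no_invol_u1 F' hc'w h (by rw [← hsig, hcs])
      rcases hD.pairN_right h2 with h | h
      · exact mul_inv_eq_one.1 h
      · exact absurd (by rw [mul_inv_eq_iff_eq_mul.1 h, T.zz]) hne
    set q₀ : ↥N ⧸ Dn := QuotientGroup.mk ⟨(c, c'), hc'⟩
    have hq₀ : q₀ * q₀ = 1 := by
      rw [← QuotientGroup.mk_mul, QuotientGroup.eq_one_iff]
      show ((c, c') : G × H) * (c, c') ∈ D
      rw [show ((c, c') : G × H) * (c, c') = (z, w) from Prod.ext hcc hsq]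
      exact hD.zw
    intro q hq
    obtain ⟨σ, hσ⟩ := isConj_iff.1 hq
    obtain ⟨g, rfl⟩ := hπs σ
    have hee : (QuotientGroup.mk e : ↥N ⧸ Dn) * QuotientGroup.mk e = 1 := by
      rw [← QuotientGroup.mk_mul, QuotientGroup.eq_one_iff]
      show ((z, 1) : G × H) * (z, 1) ∈ D
      rw [show ((z, 1) : G × H) * (z, 1) = 1 from Prod.ext S.zz (one_mul 1)]
      exact one_mem D
    have hec : ∀ t : ↥N ⧸ Dn, t * QuotientGroup.mk e = QuotientGroup.mk e * t := by
      intro t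
      rcases (hker (t * QuotientGroup.mk e * t⁻¹)).1 (by
        rw [map_mul, map_mul, (hker _).2 (Or.inr rfl), mul_one, map_inv, mul_inv_cancel]) with h | h
      · exact absurd (conj_eq_one_iff.1 h) he
      · exact mul_inv_eq_iff_eq_mul.1 h
    have hπ0 : π q₀ = u1 := hcs
    rcases (hker (g * q * g⁻¹ * q₀⁻¹)).1 (by
      rw [map_mul, map_mul, map_mul, map_inv, map_inv, hσ, hπ0, mul_inv_cancel]) with h | h
    · have h' := mul_inv_eq_one.1 h
      rw [show q = g⁻¹ * (g * q * g⁻¹) * g by group, h',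
        show g⁻¹ * q₀ * g * (g⁻¹ * q₀ * g) = g⁻¹ * (q₀ * q₀) * g by group, hq₀]
      group
    · have h' := mul_inv_eq_iff_eq_mul.1 h
      rw [show q = g⁻¹ * (g * q * g⁻¹) * g by group, h',
        show g⁻¹ * (QuotientGroup.mk e * q₀) * g * (g⁻¹ * (QuotientGroup.mk e * q₀) * g) =
          g⁻¹ * (QuotientGroup.mk e * (q₀ * QuotientGroup.mk e) * q₀) * g by group,
        hec, ← mul_assoc (QuotientGroup.mk e : ↥N ⧸ Dn), hee, one_mul, hq₀]
      group
  obtain ⟨M, heM, hMπ⟩ := split_central π hπs _ hker he hinv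
  set Mt : Subgroup ↥N := M.comap (QuotientGroup.mk' Dn)
  let p₁ : ↥Mt →* ↥(Subgroup.centralizer ({z} : Set G)) := MonoidHom.mk'
    (fun u => ⟨u.1.1.1, Subgroup.mem_centralizer_singleton_iff.2 (hN u.1).1⟩) fun _ _ => rfl
  let p₂ : ↥Mt →* ↥(Subgroup.centralizer ({w} : Set H)) := MonoidHom.mk'
    (fun u => ⟨u.1.1.2, Subgroup.mem_centralizer_singleton_iff.2 (hN u.1).2.1⟩) fun _ _ => rfl
  have hDM : ∀ u : ↥N, u ∈ Dn → u ∈ Mt := fun u hu => by
    show (QuotientGroup.mk u : ↥N ⧸ Dn) ∈ M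
    rw [(QuotientGroup.eq_one_iff u).2 hu]; exact one_mem M
  set zw : ↥N := ⟨(z, w), hD.le_pairN hD.zw⟩
  have hzwM : zw ∈ Mt := hDM zw hD.zw
  have heMt : e ∉ Mt := heM
  have i₁ : Function.Injective p₁ := by
    rw [injective_iff_map_eq_one]
    intro u hu
    have hu1 : u.1.1.1 = 1 := congrArg Subtype.val hu
    have hv : u.1.1 = ((1, u.1.1.2) : G × H) := Prod.ext hu1 rfl
    rcases hD.pairN_right (c := u.1.1.2) (hv ▸ u.1.2) with h | h
    · exact Subtype.ext (Subtype.ext (hv.trans (by rw [h]; rfl)))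
    · exfalso
      refine heMt ?_
      have he' : e = zw * u.1 := Subtype.ext (Prod.ext (by simp [e, zw, hu1]) (by simp [e, zw, h, T.zz]))
      rw [he']; exact mul_mem hzwM u.2
  have i₂ : Function.Injective p₂ := by
    rw [injective_iff_map_eq_one]
    intro u hu
    have hu2 : u.1.1.2 = 1 := congrArg Subtype.val hu
    have hsig := (hN u.1).2.2.1
    rw [hu2, (T.sig_one_iff (Commute.one_left w).eq).2 (one_mem _)] at hsig
    have hm : u.1.1.1 ∈ oc z := (S.sig_one_iff (hN u.1).1).1 hsig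
    obtain ⟨b, hb⟩ := hD.exists_left hm
    have hbw := hD.pairN_right (c := b) (by
      have h := mul_mem (hD.le_pairN hb) (inv_mem u.1.2)
      rwa [show ((u.1.1.1, b) : G × H) * u.1.1⁻¹ = (1, b) from
        Prod.ext (mul_inv_cancel u.1.1.1) (by simp [hu2])] at h)
    rcases hbw with h | h
    · have h1 := hD.left_unique (h ▸ hb)
      exact Subtype.ext (Subtype.ext (Prod.ext h1 hu2))
    · exfalso
      subst h
      have h1 : ((z, 1) : G × H) * (u.1.1.1, 1) ∈ D := by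
        rw [show ((z, 1) : G × H) * (u.1.1.1, 1) = (z, b) * (u.1.1.1, b) from
          Prod.ext rfl (show (1 : H) * 1 = b * b by rw [one_mul, T.zz])]
        exact mul_mem hD.zw hb
      have h2 : (e * u.1) ∈ Dn := by
        show ((z, 1) : G × H) * u.1.1 ∈ D
        rwa [show u.1.1 = ((u.1.1.1, 1) : G × H) from Prod.ext rfl hu2]
      refine heMt ?_
      have := mul_mem (hDM _ h2) (inv_mem u.2)
      rwa [mul_inv_cancel_right] at this
  have s₁ : Function.Surjective p₁ := by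
    rintro ⟨c, hc⟩
    have hc' := Subgroup.mem_centralizer_singleton_iff.1 hc
    obtain ⟨c', hcc'⟩ := hD.pairN_surj hS hT hc'
    set u : ↥N := ⟨(c, c'), hcc'⟩
    obtain ⟨m, hm, hme⟩ : π (QuotientGroup.mk u) ∈ M.map π := hMπ ▸ Subgroup.mem_top _
    rcases (hker (m⁻¹ * QuotientGroup.mk u)).1 (by rw [map_mul, map_inv, hme, inv_mul_cancel]) with h | h
    · exact ⟨⟨u, show (QuotientGroup.mk u : ↥N ⧸ Dn) ∈ M by rwa [← inv_mul_eq_one.1 h]⟩, rfl⟩
    · have hu : (QuotientGroup.mk (u * e⁻¹) : ↥N ⧸ Dn) ∈ M := by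
        rw [QuotientGroup.mk_mul, QuotientGroup.mk_inv, inv_mul_eq_iff_eq_mul.1 h, mul_inv_cancel_right]
        exact hm
      refine ⟨⟨u * e⁻¹ * zw, mul_mem hu hzwM⟩, Subtype.ext ?_⟩
      show c * z⁻¹ * z = c
      group
  let ψ₁ := MulEquiv.ofBijective p₁ ⟨i₁, s₁⟩
  have hcard : Nat.card ↥(Subgroup.centralizer ({w} : Set H)) = Nat.card ↥Mt := by
    rw [T.cent_card, ← S.cent_card]
    exact (Nat.card_congr ψ₁.toEquiv).symm
  let ψ₂ := MulEquiv.ofBijective p₂ ((Nat.bijective_iff_injective_and_card p₂).2 ⟨i₂, hcard.symm⟩)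
  refine ⟨ψ₁.symm.trans ψ₂, fun c hc => ?_⟩
  have h1 : ψ₁.symm c = ⟨zw, hzwM⟩ := by
    rw [MulEquiv.symm_apply_eq]
    exact Subtype.ext hc
  show ((p₂ (ψ₁.symm c) : ↥(Subgroup.centralizer ({w} : Set H))) : H) = w
  rw [h1]
  rfl

end Cfsg.Agent.ThLocal
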