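import Cfsg.Agent.ThLocal.Hyp
import Cfsg.Agent.ThCent.Final
import Cfsg.Agent.DCoset.Th.Big
import Cfsg.Agent.Fusion.Extraspecial

/-!
The presented Thompson group satisfies the hypotheses at the first generator.
-/

set_option autoImplicit false
set_option maxRecDepth 100000

open Cfsg Cfsg.Agent.ThCent Subgroup

namespace Cfsg.Agent.ThLocal

/-- The involution of the model. -/
noncomputable def za0 : Spor.Th := ThCent.toTh (PresentedGroup.of 0)

theorem th_fin : Finite Spor.Th := DCoset.Th.th_finite.1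

/-- The presented centraliser onto the centraliser in the model. -/
noncomputable def toCent : PC →* ↥(centralizer ({za0} : Set Spor.Th)) :=
  ThCent.toTh.codRestrict _ fun x => by
    have h := (thCfg DCoset.Th.big).range_le_centralizer ⟨x, rfl⟩
    have e : za0 = (thCfg DCoset.Th.big).ι (thCfg DCoset.Th.big).P.za := (thCfg DCoset.Th.big).φ_a
    rw [e]; exact h

theorem toCent_surj : Function.Surjective toCent := by
  have := th_fin
  have e : za0 = (thCfg DCoset.Th.big).ι (thCfg DCoset.Th.big).P.za := (thCfg DCoset.Th.big).φ_a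
  have hle : Nat.card ↥(centralizer ({za0} : Set Spor.Th)) ≤ 92897280 := by
    rw [e]; exact (thCfg DCoset.Th.big).card_centralizer_le
  have hR : 92897280 ≤ Nat.card toCent.range := card_ge ((thCfg DCoset.Th.big).image toCent.rangeRestrict
    ((centralizer ({za0} : Set Spor.Th)).subtype.comp toCent.range.subtype) (fun _ => rfl)
    ((centralizer ({za0} : Set Spor.Th)).subtype_injective.comp toCent.range.subtype_injective)
    toCent.rangeRestrict_surjective)
  rw [← MonoidHom.range_eq_top]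
  exact Subgroup.eq_top_of_card_eq _ (le_antisymm (Subgroup.card_le_card_group _) (hle.trans hR))

theorem toCent_image : Image toCent :=
  (thCfg DCoset.Th.big).image toCent (centralizer ({za0} : Set Spor.Th)).subtype (fun _ => rfl)
    (Subgroup.subtype_injective _) toCent_surj

theorem za0_ord : orderOf za0 = 2 := by
  have := th_fin
  rw [show za0 = (thCfg DCoset.Th.big).ι (thCfg DCoset.Th.big).P.za from (thCfg DCoset.Th.big).φ_a]
  exact (thCfg DCoset.Th.big).structure_centralizer.1

theorem thGen_sq : ∀ i : Fin 7, 1 ≤ i.val → i.val ≤ 3 → [(i, true), (i, true)] ∈ CPC.relWords := by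
  decide +kernel

/-- Conjugating the second involution by the generators `d` and `e`. -/
theorem qC_step : qC 0 = PresentedGroup.of 1 ∧
    qC 1 = (PresentedGroup.of 2)⁻¹ * PresentedGroup.of 1 * PresentedGroup.of 2 ∧
    qC 2 = (PresentedGroup.of 2 * PresentedGroup.of 3)⁻¹ * PresentedGroup.of 1 *
      (PresentedGroup.of 2 * PresentedGroup.of 3) := by
  refine ⟨?_, ?_, ?_⟩
  · show (PresentedGroup.mk _ (FreeGroup.mk []))⁻¹ * PresentedGroup.of 1 * PresentedGroup.mk _ (FreeGroup.mk []) = _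
    rw [← FreeGroup.one_eq_mk, map_one]; group
  · rfl
  · show (PresentedGroup.mk _ (FreeGroup.mk [((2 : Fin 7), true), (3, true)]))⁻¹ * _ *
      PresentedGroup.mk _ (FreeGroup.mk [((2 : Fin 7), true), (3, true)]) = _
    rw [show PresentedGroup.mk (CosetCert.wordRels CPC.relWords)
        (FreeGroup.mk [((2 : Fin 7), true), (3, true)]) = PresentedGroup.of 2 * PresentedGroup.of 3 by
      rw [PresentedGroup.of, PresentedGroup.of, ← map_mul, FreeGroup.of, FreeGroup.of, FreeGroup.mul_mk]
      rfl]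

theorem pair_ne (i j : Fin 8) (hij : i ≠ j) : toCent (qC i) * toCent (qC j) ≠ toCent (qC j) * toCent (qC i) :=
  fun h => by
  have h' := toCent_image.pair i j hij
  rw [h] at h'
  exact toCent_image.ne (mul_eq_right.1 h'.symm)

/-- The generators `c`, `d`, `e` map to involutions. -/
theorem gen_invol (i : Fin 7) (h1 : 1 ≤ i.val) (h3 : i.val ≤ 3) :
    ThCent.toTh (PresentedGroup.of i) * ThCent.toTh (PresentedGroup.of i) = 1 ∧
      ThCent.toTh (PresentedGroup.of i) ≠ 1 := by
  refine ⟨?_, fun h => ?_⟩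
  · rw [← map_mul]
    have h := PresentedGroup.one_of_mem (rels := CosetCert.wordRels CPC.relWords)
      (List.mem_map_of_mem (thGen_sq i h1 h3))
    exact (congrArg ThCent.toTh h).trans (map_one _)
  have h' : toCent (PresentedGroup.of i) = 1 := Subtype.ext h
  obtain ⟨q0, q1, q2⟩ := qC_step
  have hi : i = 1 ∨ i = 2 ∨ i = 3 := by
    rcases (by omega : i.val = 1 ∨ i.val = 2 ∨ i.val = 3) with e | e | e
    exacts [Or.inl (Fin.ext e), Or.inr (Or.inl (Fin.ext e)), Or.inr (Or.inr (Fin.ext e))]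
  rcases hi with rfl | rfl | rfl
  · refine pair_ne 0 1 (by decide) ?_
    rw [q0, h']; simp
  · refine pair_ne 0 1 (by decide) ?_
    rw [q1, q0]; simp [h']
  · refine pair_ne 1 2 (by decide) ?_
    rw [q2, q1]; simp [h', mul_assoc]

/-- The hypotheses hold in the model. -/
theorem hyp_th : Hyp za0 := by
  have := th_fin
  haveI : IsSimpleGroup Spor.Th := DCoset.Th.simple_of_big DCoset.Th.big
  haveI : Fact (Nat.Prime 2) := ⟨Nat.prime_two⟩
  set I := toCent_image
  have hn := ThCent.normal I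
  obtain ⟨e⟩ := quotient_iso I hn
  have hle : Nat.card ↥(centralizer ({za0} : Set Spor.Th)) ≤ 92897280 := by
    rw [show za0 = (thCfg DCoset.Th.big).ι (thCfg DCoset.Th.big).P.za from (thCfg DCoset.Th.big).φ_a]
    exact (thCfg DCoset.Th.big).card_centralizer_le
  have h := Subgroup.card_eq_card_quotient_mul_card_subgroup (K.map toCent)
  rw [Nat.card_congr e.toEquiv, card_alt9] at h
  have h2 := (eight I).card_ge
  have h3 := Subgroup.card_le_of_le (Q0_le (f := toCent))
  have heq : Q0 toCent = K.map toCent := Subgroup.eq_of_le_of_card_ge Q0_le (by omega)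
  have h4 := (eight I).isExtraspecial (by omega)
  set Q := K.map toCent
  haveI : Q.Normal := hn
  have hcard : Nat.card Q = 2 ^ 9 := by rw [← heq, h4.1]; norm_num
  refine Hyp.of_simple za0_ord Q (heq ▸ h4.2) hcard ?_ e
  let f : ↥(centralizer ({za0} : Set Spor.Th)) →* A9 := e.toMonoidHom.comp (QuotientGroup.mk' Q)
  have hf : Function.Surjective f := e.surjective.comp (QuotientGroup.mk'_surjective Q)
  have hker : f.ker = Q := by ext x; simp [f, MonoidHom.mem_ker]
  have hcn : (centralizer (Q : Set ↥(centralizer ({za0} : Set Spor.Th)))).Normal := inferInstance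
  rcases a9_simple.eq_bot_or_eq_top_of_normal _ (Subgroup.Normal.map hcn f hf) with hb | hb
  · exact ((Subgroup.map_eq_bot_iff _).1 hb).trans hker.le
  exfalso
  obtain ⟨u, hu, hue⟩ := hb ▸ Subgroup.mem_top (f (toCent (PresentedGroup.of 2)))
  obtain ⟨q0, q1, -⟩ := qC_step
  have hq : toCent (PresentedGroup.of 2) * u⁻¹ ∈ Q := by
    rw [← hker, MonoidHom.mem_ker, map_mul, map_inv, hue, mul_inv_cancel]
  set d := toCent (PresentedGroup.of 2)
  set c := toCent (PresentedGroup.of 1) with hc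
  have hcQ : c ∈ Q := by
    have := Subgroup.mem_map_of_mem toCent (qC_mem 0)
    rwa [q0] at this
  refine pair_ne 0 1 (by decide) ?_
  rw [q0, q1, map_mul, map_mul, map_inv]
  set r := d * u⁻¹
  have hd : d = r * u := by simp [r]
  have hcu : u⁻¹ * (r⁻¹ * c * r) * u = r⁻¹ * c * r := by
    have hm : r⁻¹ * c * r ∈ Q := mul_mem (mul_mem (inv_mem hq) hcQ) hq
    rw [mul_assoc u⁻¹, Subgroup.mem_centralizer_iff.1 hu _ hm, inv_mul_cancel_left]
  show c * (d⁻¹ * c * d) = d⁻¹ * c * d * c
  rw [hd, show (r * u)⁻¹ * c * (r * u) = u⁻¹ * (r⁻¹ * c * r) * u by group, hcu]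
  by_contra hne
  -- the commutator would be central and equal to `za0`
  obtain ⟨x, y, hx, hy, hxy⟩ : ∃ x y, x ∈ Q ∧ y ∈ Q ∧ x = c ∧ y = r := ⟨c, r, hcQ, hq, rfl, rfl⟩
  have hcm : ∀ a ∈ Q, ∀ b ∈ Q, a * b * a⁻¹ * b⁻¹ ∈ Subgroup.centralizer (Q : Set ↥(centralizer ({za0} : Set Spor.Th))) := by
    intro a ha b hb
    refine Subgroup.mem_centralizer_iff.2 fun q hq' => ?_
    have hz := Fusion.es_commutator_mem (heq ▸ h4.2 : Cfsg.IsExtraspecial 2 ↥Q) (⟨a, ha⟩ : ↥Q) ⟨b, hb⟩
    exact congrArg Subtype.val (Subgroup.mem_center_iff.1 hz ⟨q, hq'⟩)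
  refine hne ?_
  have h5 := Subgroup.mem_centralizer_iff.1 (hcm c hcQ r⁻¹ (inv_mem hq)) c hcQ
  calc c * (r⁻¹ * c * r) = c * (r⁻¹ * c * r * c⁻¹) * c := by group
    _ = c * (c * r⁻¹ * c⁻¹ * r⁻¹⁻¹)⁻¹ * c := by group
    _ = (c * r⁻¹ * c⁻¹ * r⁻¹⁻¹)⁻¹ * c * c := by
      rw [(Commute.inv_right (show Commute c (c * r⁻¹ * c⁻¹ * r⁻¹⁻¹) from h5)).eq]
    _ = r⁻¹ * c * r * c := by group

end Cfsg.Agent.ThLocal
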