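import Cfsg.Agent.ThLocal.Fusion
import Cfsg.Agent.ThLocal.CentIso
import Cfsg.Agent.ThLocal.ModelTh

/-!
The centraliser of the involution as an image of the presented centraliser of the Thompson group.
-/

set_option autoImplicit false

open Cfsg

namespace Cfsg.Agent.ThLocal

variable {G : Type*} [Group G] [Finite G] {z : G}

/-- The centraliser is the image of the presented centraliser, with one class of involutions. -/
theorem exists_centraliser_map (h : Hyp z) : ∃ f : ThCent.PC →* G,
    f (PresentedGroup.of 0) = z ∧ f.range = Subgroup.centralizer ({z} : Set G) ∧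
    f.ker = ThCent.toTh.ker ∧ IsConj z (f (PresentedGroup.of 1)) ∧
    IsConj z (f (PresentedGroup.of 2)) ∧ IsConj z (f (PresentedGroup.of 3)) := by
  have := th_fin
  obtain ⟨S, x, F⟩ := exists_pair h
  obtain ⟨T, x', F'⟩ := exists_pair hyp_th
  obtain ⟨ψ, hψ⟩ := cent_iso F' F
  let g : ↥(Subgroup.centralizer ({za0} : Set Spor.Th)) →* G :=
    (Subgroup.centralizer ({z} : Set G)).subtype.comp ψ.toMonoidHom
  have hg : Function.Injective g := (Subgroup.subtype_injective _).comp ψ.injective
  have hker : (g.comp toCent).ker = ThCent.toTh.ker := by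
    rw [MonoidHom.ker_comp_of_injective _ _ hg]
    exact MonoidHom.ker_codRestrict _ _ _
  have hconj : ∀ i : Fin 7, 1 ≤ i.val → i.val ≤ 3 → IsConj z (g (toCent (PresentedGroup.of i))) := by
    intro i h1 h3
    obtain ⟨hsq, hne⟩ := gen_invol i h1 h3
    refine (conj_of_involution h _ (orderOf_eq_prime ?_ ?_)).symm
    · rw [pow_two, ← map_mul, show toCent (PresentedGroup.of i) * toCent (PresentedGroup.of i) = 1 from
        Subtype.ext hsq, map_one]
    · exact fun e => hne (congrArg Subtype.val (hg (e.trans (map_one g).symm)))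
  refine ⟨g.comp toCent, hψ _ rfl, ?_, hker, hconj 1 (by decide) (by decide),
    hconj 2 (by decide) (by decide), hconj 3 (by decide) (by decide)⟩
  rw [MonoidHom.range_comp, MonoidHom.range_eq_top.2 toCent_surj, ← MonoidHom.range_eq_map,
    MonoidHom.range_comp, MonoidHom.range_eq_top.2 ψ.surjective, ← MonoidHom.range_eq_map,
    Subgroup.range_subtype]

/-- All involutions of the presented Thompson group are conjugate to the first generator. -/
theorem th_conj : ∀ x : Spor.Th, orderOf x = 2 → IsConj x (PresentedGroup.of Spor.Th.Gen.a) := by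
  have := th_fin
  have e : za0 = (PresentedGroup.of Spor.Th.Gen.a : Spor.Th) := ThCent.toTh_of 0
  intro x hx
  exact e ▸ conj_of_involution hyp_th x hx

end Cfsg.Agent.ThLocal
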