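import Cfsg.Agent.ThLocal.Nine
import Cfsg.Agent.Core.PCore
import Cfsg.Prelude.Def_CaseTheorems
import Cfsg.Prelude.Def_Transfer

/-!
The hypotheses on the centraliser of the involution.
-/

set_option autoImplicit false

open Cfsg

namespace Cfsg.Agent.ThLocal

variable {G : Type*} [Group G]

/-- An involution whose centraliser is an extraspecial group of order `2^9` extended by `A₉`. -/
structure Hyp (z : G) : Prop where
  ord : orderOf z = 2
  not_core : Subgroup.centralizer ({z} : Set G) ⊔ oddCore G ≠ ⊤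
  extra : IsExtraspecial 2 ↥(pCore 2 ↥(Subgroup.centralizer ({z} : Set G)))
  card : Nat.card ↥(pCore 2 ↥(Subgroup.centralizer ({z} : Set G))) = 2 ^ 9
  self : Subgroup.centralizer ((pCore 2 ↥(Subgroup.centralizer ({z} : Set G))) :
    Set ↥(Subgroup.centralizer ({z} : Set G))) ≤ pCore 2 ↥(Subgroup.centralizer ({z} : Set G))
  quot : Nonempty ((↥(Subgroup.centralizer ({z} : Set G)) ⧸
    pCore 2 ↥(Subgroup.centralizer ({z} : Set G))) ≃* A9)

theorem a9_simple : IsSimpleGroup A9 := alternatingGroup.isSimpleGroup (by simp)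

/-- The hypotheses with a named normal subgroup in a simple group. -/
theorem Hyp.of_simple [Finite G] [IsSimpleGroup G] {t : G} (ht : orderOf t = 2)
    (Q : Subgroup (Subgroup.centralizer ({t} : Set G))) [Q.Normal] (hQ : IsExtraspecial 2 Q)
    (hcard : Nat.card Q = 2 ^ 9)
    (h2c : Subgroup.centralizer (Q : Set (Subgroup.centralizer ({t} : Set G))) ≤ Q)
    (e : (Subgroup.centralizer ({t} : Set G)) ⧸ Q ≃* A9) : Hyp t := by
  haveI : Fact (Nat.Prime 2) := ⟨Nat.prime_two⟩
  have hP : pCore 2 ↥(Subgroup.centralizer ({t} : Set G)) = Q := by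
    refine le_antisymm ?_ (Core.le_pCore (IsPGroup.of_card hcard))
    let f : ↥(Subgroup.centralizer ({t} : Set G)) →* A9 := e.toMonoidHom.comp (QuotientGroup.mk' Q)
    have hf : Function.Surjective f := e.surjective.comp (QuotientGroup.mk'_surjective Q)
    have hker : f.ker = Q := by
      ext x
      simp [f, MonoidHom.mem_ker]
    have hn : ((pCore 2 ↥(Subgroup.centralizer ({t} : Set G))).map f).Normal := Subgroup.Normal.map inferInstance f hf
    rcases a9_simple.eq_bot_or_eq_top_of_normal _ hn with h | h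
    · exact hker ▸ (Subgroup.map_eq_bot_iff _).1 h
    · exfalso
      obtain ⟨n, hn⟩ := IsPGroup.iff_card.1 ((Core.pCore_isPGroup (p := 2) (G := ↥(Subgroup.centralizer ({t} : Set G)))).map f)
      rw [h, Subgroup.card_top, card_a9] at hn
      have h3 : 3 ∣ 2 ^ n := hn ▸ (by norm_num)
      exact absurd (Nat.prime_three.dvd_of_dvd_pow h3) (by norm_num)
  refine ⟨ht, fun h => ?_, ?_, ?_, ?_, ?_⟩
  · have hbot : oddCore G = ⊥ := by
      refine (Subgroup.Normal.eq_bot_or_eq_top inferInstance).resolve_right fun htop => ?_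
      have hc := Core.coprime_card_pPrimeCore (p := 2) (G := G)
      rw [show pPrimeCore 2 G = ⊤ from htop, Subgroup.card_top] at hc
      exact absurd (ht ▸ orderOf_dvd_natCard t)
        (fun h2 => absurd (Nat.Coprime.eq_one_of_dvd (Nat.Coprime.symm hc) h2) (by norm_num))
    rw [hbot, sup_bot_eq] at h
    have hcen : Subgroup.center G = ⊤ := by
      refine (Subgroup.Normal.eq_bot_or_eq_top inferInstance).resolve_left fun hb => ?_
      have : t ∈ Subgroup.center G := Subgroup.mem_center_iff.2 fun g =>
        Subgroup.mem_centralizer_singleton_iff.1 (h ▸ Subgroup.mem_top g)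
      rw [hb, Subgroup.mem_bot] at this
      rw [this, orderOf_one] at ht
      omega
    have hcomm : ∀ a b : ↥(Subgroup.centralizer ({t} : Set G)), a * b = b * a := fun a b => Subtype.ext
      (Subgroup.mem_center_iff.1 (hcen ▸ Subgroup.mem_top (a : G)) (b : G)).symm
    obtain ⟨x, hx⟩ := e.surjective.comp (QuotientGroup.mk'_surjective Q) (a9 0)
    obtain ⟨y, hy⟩ := e.surjective.comp (QuotientGroup.mk'_surjective Q) (a9 1)
    have : a9 0 * a9 1 = a9 1 * a9 0 := by
      rw [← hx, ← hy]
      show e.toMonoidHom.comp (QuotientGroup.mk' Q) x * e.toMonoidHom.comp (QuotientGroup.mk' Q) y = _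
      rw [← map_mul, hcomm, map_mul]
      rfl
    exact absurd this (by decide +kernel)
  · rw [hP]; exact hQ
  · rw [hP]; exact hcard
  · rw [hP]; exact h2c
  · exact ⟨(QuotientGroup.quotientMulEquivOfEq hP).trans e⟩

end Cfsg.Agent.ThLocal
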