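import Cfsg.Agent.ThLocal.Model

/-!
Orbit transversals of the two modules.
-/

set_option autoImplicit false
set_option maxRecDepth 100000

open Cfsg.Agent.CoOneType

namespace Cfsg.Agent.ThLocal

/-- Words carrying the base vectors to all codes of the spin module. -/
def wdB : List (List (Fin 7)) := [
    [], [], [5], [4], [5, 4, 6], [4, 5, 6], [6], [6, 6], [5, 5, 6], [4, 6], [4, 6, 6], [6, 5],
    [5, 6, 6], [6, 4], [5, 6], [4, 4, 6], [5, 2, 6], [], [3, 1, 6], [6, 2, 5], [5, 1, 6], [0, 1],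
    [0, 2, 6], [1, 0, 3], [5, 0, 6], [6, 4], [1, 3, 6], [4, 1, 0], [5, 3, 6], [5, 4, 0],
    [2, 0, 6], [2, 3, 0], [5, 2, 6, 0], [3, 4, 6, 0], [6, 2, 3], [4], [5, 3, 6, 1], [2, 4, 6, 1],
    [2, 5], [5, 5, 0], [5, 4, 6, 1], [0, 3, 6, 1], [2, 3, 1], [4, 0, 1], [5, 4, 6, 0],
    [1, 2, 6, 0], [5, 3], [6, 6], [5, 2, 6, 1], [5, 0, 3], [4, 4], [3, 3, 6, 0], [5, 5, 6, 0],
    [1, 0], [0, 1, 3], [1, 5, 6, 1], [5, 3, 6, 0], [5, 3, 4], [6, 6, 4], [2, 2, 6, 1],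
    [5, 5, 6, 1], [2, 3], [6], [0, 5, 6, 0], [4, 0], [2, 0], [3, 1], [4, 1], [3, 6, 2],
    [6, 6, 0], [3, 1], [2, 2, 1], [3, 2, 6, 1], [0, 5, 6, 1], [1, 5, 6, 0], [2, 3, 6, 0], [1, 3],
    [5, 5, 2], [4, 2], [4, 0, 0], [1, 4, 6, 1], [2, 0], [4, 4, 6, 0], [0, 2], [5, 3, 3],
    [2, 2, 6, 0], [3, 0, 0], [4, 3, 6, 1], [4, 2, 6, 0], [3, 4, 1], [3, 3, 6, 1], [3, 6],
    [4, 1, 1], [4, 4, 6, 1], [6, 6, 1], [0, 4, 6, 0], [0, 0, 6], [1, 6], [4, 1, 5], [6, 6, 2],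
    [6, 2, 1], [2, 1, 1], [0, 6], [1, 1, 6], [2, 6], [3, 3, 6], [0, 6], [5, 5], [4, 0],
    [4, 2, 2], [2, 2, 6], [3, 6], [2, 5, 6], [1, 6], [2, 1, 3], [6, 3, 0], [1, 2, 2], [6, 5, 0],
    [0, 5, 6], [5, 0, 1], [6, 2, 1], [0, 6, 1], [5], [3, 5, 6], [3, 3, 0], [1, 5, 6], [6, 5, 1],
    [4, 1], [0], [1], [3], [2], [3, 2, 6], [2, 3, 6], [0, 1, 6], [1, 0, 6], [2, 3, 4], [0, 0],
    [5, 4, 2], [2], [5, 3, 1], [0, 1, 1], [3, 1, 0], [2, 2, 3], [0, 4, 6], [6, 4, 2], [6, 4, 0],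
    [1, 5], [6, 2, 0], [5, 4], [3, 4, 6], [2, 1, 0], [0], [6, 3, 1], [2, 2], [2, 4, 6],
    [1, 0, 0], [1, 4, 6], [3, 0, 1], [6, 4, 1], [2, 5, 6, 0], [4, 3, 6, 0], [1, 5, 2], [3, 3],
    [4, 2, 6, 1], [3, 5, 6, 1], [4, 0, 3], [4, 6, 0], [3, 4, 0], [1], [1, 3, 6, 0], [4, 5, 6, 0],
    [6, 2, 0], [1, 1, 0], [4, 5, 6, 1], [0, 2, 6, 1], [1, 3, 6, 1], [6, 5], [3], [4, 6, 0],
    [2, 6, 0], [4, 2, 1], [2, 3, 3], [3, 4, 6, 1], [1, 1], [0, 2, 6, 0], [4, 6, 1], [6, 4, 1],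
    [0, 0, 1], [3, 6, 1], [2, 4, 6, 0], [5, 0], [3, 0], [5, 0], [2, 1], [5, 1], [4, 1, 3],
    [5, 0, 0], [5, 2], [1, 3, 0], [6, 5, 0], [2, 2, 0], [3, 6, 0], [0, 2, 2], [3, 2, 6, 0],
    [1, 4, 6, 0], [2, 3, 6, 1], [0, 4, 6, 1], [2, 5, 6, 1], [3, 4], [3, 6, 0], [6, 5, 4],
    [2, 6, 1], [5, 6, 0], [4, 4, 1], [1, 2, 6, 1], [0, 0, 2], [0, 3, 6, 0], [2, 0, 0], [5, 6, 1],
    [2, 6, 1], [6, 0], [3, 5, 6, 0], [0, 3], [1, 6, 6], [6, 0], [4, 0, 2], [6, 0, 0], [3, 0],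
    [0, 5, 2], [0, 6, 6], [6, 1], [6, 2], [1, 1, 5], [6, 3], [2, 6, 6], [6, 2], [3, 6, 6],
    [2, 1], [3, 3, 1], [0, 3, 6], [1, 5, 0], [3, 3, 4], [4, 1, 6], [4, 4, 0], [2, 1, 6],
    [4, 3, 6], [6, 1], [5, 2, 0], [4, 0, 6], [1, 2, 6], [5, 0, 2], [4, 2, 6], [4, 0, 6],
    [1, 1, 3], [3, 0, 6]]

/-- Words carrying the base vectors to the singular codes of the permutation module. -/
def wdA : List (List (Fin 7)) := [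
    [], [], [4, 2, 3, 0], [3, 2], [4, 2, 1, 1], [1, 0], [3, 1, 4], [2, 3, 1, 0], [],
    [5, 4, 2, 3, 1, 0], [5, 1, 2], [4, 5, 1, 0], [5, 3, 0], [4, 5, 3, 2], [2, 2, 5, 0], [5, 4],
    [1], [], [2, 3, 1], [], [1, 1, 0], [], [3, 2, 1, 1, 0], [], [4, 5, 3, 2, 1, 1, 0], [],
    [5, 4, 1, 1, 0], [], [5, 4, 2, 3, 1], [], [4, 5, 1], [], [2, 2, 3, 0], [3, 4], [], [],
    [3, 1, 2], [4, 3, 1, 0], [], [], [5, 1, 4], [2, 5, 1, 0], [], [], [4, 2, 5, 0], [5, 2], [],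
    [], [4, 3, 1], [], [], [0], [3, 4, 1, 1, 0], [], [], [1, 1], [5, 2, 1, 1, 0], [], [],
    [5, 3, 4, 2, 1, 1], [2, 5, 1], [], [], [4, 2, 5, 3, 0], [3, 1, 0], [4, 3, 1, 2],
    [2, 1, 1, 0], [1, 4], [], [], [], [], [4, 2, 5, 1], [5, 0], [5, 3, 4], [2, 5, 3, 0], [], [],
    [], [], [3, 4, 2, 1, 1], [], [4, 1, 1], [], [], [3, 1], [], [2], [2, 5, 0], [],
    [5, 2, 2, 3, 0], [], [], [4, 2, 5, 1, 0], [], [5, 3, 4, 1, 1, 0], [4, 1, 1, 0], [1, 2], [],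
    [], [], [], [4, 2, 3, 1], [3, 0], [5, 3, 2], [4, 5, 3, 0], [], [], [], [], [5, 1, 0],
    [4, 5, 1, 2], [2, 1, 1], [], [], [4, 2, 3, 1, 0], [], [4], [2, 3, 0], [], [5, 4, 2, 3, 0],
    [], [], [5, 1], [], [5, 3, 2, 1, 1, 0], [5, 4, 2, 1, 1], [], [5, 0, 6], [6, 4, 2, 3, 1, 0],
    [6, 1, 2], [4, 6, 1, 0], [6, 3, 0], [4, 6, 3, 2], [2, 2, 6, 0], [6, 4], [], [], [], [], [],
    [], [], [], [4, 6, 3, 2, 1, 1, 0], [], [6, 4, 1, 1, 0], [], [6, 4, 2, 3, 1], [], [4, 6, 1],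
    [], [], [4, 2, 6, 5, 0], [], [6, 5, 4, 2, 3, 0], [], [6, 5, 4, 2, 1, 1], [], [4, 0, 6],
    [6, 1, 4], [2, 6, 1, 0], [], [], [4, 2, 6, 0], [6, 2], [], [], [], [], [6, 5, 0],
    [4, 6, 5, 2], [], [], [3, 0, 6], [6, 4, 2, 5, 1, 0], [6, 2, 1, 1, 0], [], [],
    [6, 3, 4, 2, 1, 1], [2, 6, 1], [], [], [4, 2, 6, 3, 0], [], [6, 5, 2, 2, 3, 0],
    [6, 4, 2, 5, 1], [], [], [2, 0, 6], [4, 6, 5, 2, 1, 1, 0], [], [4, 2, 6, 1], [6, 0],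
    [6, 3, 4], [2, 6, 3, 0], [], [], [], [], [], [], [], [], [1, 0, 6], [6, 4, 2, 5, 3, 0],
    [6, 5, 2], [4, 6, 5, 0], [2, 6, 0], [], [6, 2, 2, 3, 0], [], [], [4, 2, 6, 1, 0], [],
    [6, 3, 4, 1, 1, 0], [], [0, 0, 6], [], [6, 5, 2, 1, 1, 0], [4, 6, 5, 2, 2, 3, 0], [],
    [6, 4, 2, 5, 0], [], [6, 3, 2], [4, 6, 3, 0], [], [], [], [], [6, 1, 0], [4, 6, 1, 2], [],
    [], [6, 5, 4, 2, 3, 1, 0], [0, 6], [6, 5, 4], [2, 6, 5, 0], [], [], [6, 4, 2, 3, 0], [], [],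
    [6, 1], [], [6, 3, 2, 1, 1, 0], [6, 4, 2, 1, 1], [], [], [6, 5, 4, 1, 1, 0], [6], [],
    [6, 2, 2, 5, 0], [], [], [6, 5, 4, 2, 3, 1]]

/-- The word of a code. -/
def wdOf (sp : Bool) (v : ℕ) : List (Fin 7) := (if sp then wdB else wdA).getD v []

theorem orbitB_code : ∀ v : Fin 256, v.val ≠ 0 →
    wap true (wdOf true v.val) (if qn v.val then 17 else 1) = v.val := by decide +kernel

theorem orbitA_code : ∀ v : Fin 256, v.val ≠ 0 → qn v.val = false →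
    wap false (wdOf false v.val) 1 = v.val ∨ wap false (wdOf false v.val) 8 = v.val := by
  decide +kernel

end Cfsg.Agent.ThLocal
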