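import Cfsg.Agent.ThLocal.Perm
import Cfsg.Agent.ThLocal.Orbits

/-!
When the three-cycles have no non-zero fixed vector, the module is the spin module.
-/

set_option autoImplicit false
set_option maxRecDepth 100000

open Cfsg.Agent.CoOneType Cfsg.Agent.ThreeTrans.OrthCohom Cfsg.Agent.Classical.Quad

namespace Cfsg.Agent.ThLocal

/-- The operators on codes in terms of the six combinations. -/
def dOp (k : Fin 6) : List ℕ := dB.getD k.val []

/-- The named operators on codes. -/
def nOp (k : Fin 6) : List ℕ := opB.getD k.val []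

/-- The code of a standard basis vector. -/
def bCode (k : Fin 8) : ℕ := basB.getD k.val 0

theorem opB_code : ∀ v : Fin 256,
    nOp 0 = dOp 0 ∧ nOp 1 = dOp 1 ∧
    lap (nOp 2) v.val = lap (dOp 0) v.val ^^^ lap (dOp 1) v.val ^^^ lap (dOp 2) v.val ^^^
      lap (dOp 3) v.val ^^^ lap (dOp 4) v.val ∧
    lap (nOp 3) v.val = lap (dOp 0) v.val ^^^ lap (dOp 1) v.val ^^^ lap (dOp 2) v.val ^^^
      lap (dOp 3) v.val ^^^ lap (dOp 5) v.val ∧
    lap (nOp 4) v.val = lap (dOp 0) v.val ^^^ lap (dOp 1) v.val ^^^ lap (dOp 2) v.val ∧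
    lap (nOp 5) v.val = lap (dOp 0) v.val ^^^ lap (dOp 1) v.val ^^^ lap (dOp 3) v.val := by
  decide +kernel

theorem a0_code : ∀ v : Fin 256, (∀ k : Fin 6,
    lap (gen true 0) (lap (nOp k) v.val) ^^^ lap (nOp k) (lap (gen true 0) v.val) = lap (nOp k) v.val ∧
    lap (nOp k) v.val < 256) ∧
    (∀ i : Fin 6, lap (gen true i.succ) v.val = lap (dOp i) v.val ^^^ lap (gen true 0) v.val ^^^ v.val) ∧
    (lap (nOp 0) v.val = 0 → lap (nOp 2) v.val = 0 → lap (nOp 4) v.val = v.val →
      v.val = 0 ∨ v.val = 1) := by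
  decide +kernel

theorem basB_code : (∀ k : Fin 8, bCode k < 256) ∧ bCode 0 = 1 ∧
    lap (nOp 1) (bCode 0) = bCode 1 ∧ lap (nOp 3) (bCode 0) = bCode 2 ∧
    lap (nOp 3) (bCode 1) = bCode 3 ∧ lap (nOp 5) (bCode 0) = bCode 4 ∧
    lap (nOp 1) (bCode 4) = bCode 5 ∧ lap (nOp 3) (bCode 4) = bCode 6 ∧
    lap (nOp 3) (bCode 5) = bCode 7 := by
  decide +kernel

/-- The combination of the standard basis with the coefficients given by the bits. -/
def comb (c : Fin 8 → Bool) : ℕ :=
  (((if c 0 then bCode 0 else 0) ^^^ (if c 1 then bCode 1 else 0)) ^^^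
    ((if c 2 then bCode 2 else 0) ^^^ (if c 3 then bCode 3 else 0))) ^^^
  (((if c 4 then bCode 4 else 0) ^^^ (if c 5 then bCode 5 else 0)) ^^^
    ((if c 6 then bCode 6 else 0) ^^^ (if c 7 then bCode 7 else 0)))

theorem comb_code : ∀ v : Fin 256, ∃ n : Fin 256, comb (fun k => n.val.testBit k.val) = v.val := by
  decide +kernel

theorem reach_code : ∀ v : Fin 256, v.val ≠ 0 → ∃ a b c : Bool,
    (fun w => if c then lap (nOp 5) w ^^^ w else w) ((fun w => if b then lap (nOp 2) w else w)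
      (if a then lap (nOp 0) v.val else v.val)) = 1 ∨
    (fun w => if c then lap (nOp 4) w ^^^ w else w) ((fun w => if b then lap (nOp 2) w else w)
      (if a then lap (nOp 0) v.val else v.val)) = 1 := by
  decide +kernel

theorem gen_sq : ∀ i, ∀ v : Fin 256,
    lap (gen true i) (lap (gen true i) v.val) = lap (gen true i) v.val ^^^ v.val := by
  decide +kernel

theorem genB_q : ∀ i, ∀ v : Fin 256, qn (lap (gen true i) v.val) = qn v.val := by decide +kernel

theorem swap_conj : ∀ i : Fin 7,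
    Equiv.swap (0 : Fin 9) 1 * (a9 i : Equiv.Perm (Fin 9)) * (Equiv.swap (0 : Fin 9) 1)⁻¹ =
      (a9 i : Equiv.Perm (Fin 9)) * (a9 i : Equiv.Perm (Fin 9)) := by
  decide +kernel

section Op

variable {W : Type*} [AddCommGroup W] [Module (ZMod 2) W]

theorem w_four' (w : W) : (4 : ℤ) • w = 0 := by
  rw [show (4 : ℤ) = 2 * 2 from rfl, mul_zsmul, two_zsmul, w_self]

theorem w_four (w : W) : (4 : ℕ) • w = 0 := by
  rw [show (4 : ℕ) = 2 * 2 from rfl, mul_nsmul, two_nsmul, w_self]

/-- The symmetrised product. -/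
def sym (P Q : W →ₗ[ZMod 2] W) : W →ₗ[ZMod 2] W := P ∘ₗ Q + Q ∘ₗ P

theorem sym_apply (P Q : W →ₗ[ZMod 2] W) (w : W) : sym P Q w = P (Q w) + Q (P w) := rfl

theorem sym_comm (P Q : W →ₗ[ZMod 2] W) : sym P Q = sym Q P := add_comm _ _

theorem sym_add (P P' Q : W →ₗ[ZMod 2] W) : sym (P + P') Q = sym P Q + sym P' Q := by
  simp only [sym, LinearMap.add_comp, LinearMap.comp_add]; abel

theorem sym_add' (P Q Q' : W →ₗ[ZMod 2] W) : sym P (Q + Q') = sym P Q + sym P Q' := by
  rw [sym_comm, sym_add, sym_comm Q, sym_comm Q']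

theorem end_self (P : W →ₗ[ZMod 2] W) : P + P = 0 := LinearMap.ext fun w => w_self (P w)

theorem sym_self (P : W →ₗ[ZMod 2] W) : sym P P = 0 := end_self _

theorem add_sq (P Q : W →ₗ[ZMod 2] W) :
    (P + Q) ∘ₗ (P + Q) = P ∘ₗ P + Q ∘ₗ Q + sym P Q := by
  simp only [sym, LinearMap.add_comp, LinearMap.comp_add]; abel

end Op

variable {W : Type*} [AddCommGroup W] [Module (ZMod 2) W] [Finite W]

/-- The normal form of the spin module. -/
theorem spin_model (φ : A9 →* (W ≃ₗ[ZMod 2] W)) (hcard : Nat.card W = 256)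
    (F : Form W) (hq : ∀ σ w, F.q (φ σ w) = F.q w) (hfpf : ∀ i w, mv (φ (a9 i)) w = w) :
    ∃ (L : W ≃ₗ[ZMod 2] V) (ψ : A9 →* (W ≃ₗ[ZMod 2] W)), (∀ w, qP 4 (L w) = F.q w) ∧
      ψ.range = φ.range ∧ ∀ i w, L (ψ (a9 i) w) = dc (lap (gen true i) (cd (L w)).val) := by
  classical
  have happ : ∀ a b : A9, ∀ w, φ (a * b) w = φ a (φ b w) := fun a b w => by rw [map_mul]; rfl
  set t : Fin 7 → (W →ₗ[ZMod 2] W) := fun i => (φ (a9 i)).toLinearMap
  have h3 : ∀ i w, t i (t i (t i w)) = w := fun i w => by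
    simp only [t, LinearEquiv.coe_coe]; rw [← happ, ← happ, a9_cube, map_one]; rfl
  have hsq : ∀ i, t i ∘ₗ t i = t i + LinearMap.id := fun i => LinearMap.ext fun w => mv_sq (hfpf i w)
  have hpair : ∀ i j, i ≠ j → sym (t i) (t j) = t i + t j + LinearMap.id := by
    intro i j hij
    refine LinearMap.ext fun w => ?_
    have e := congrArg (fun σ => φ σ w) (show a9 i * a9 j = (a9 j * a9 j) * (a9 i * a9 i) by
      calc a9 i * a9 j = a9 i * a9 j * (a9 i * a9 j) * ((a9 j)⁻¹ * (a9 i)⁻¹) := by group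
        _ = (a9 j * a9 j) * (a9 i * a9 i) := by
          rw [a9_pair i j hij, one_mul, inv_eq_of_mul_eq_one_right (by
            rw [← mul_assoc]; exact a9_cube j), inv_eq_of_mul_eq_one_right (by
            rw [← mul_assoc]; exact a9_cube i)])
    simp only [happ] at e
    change t i (t j w) = t j (t j (t i (t i w))) at e
    rw [show t j (t j (t i (t i w))) = t j (t i (t i w)) + t i (t i w) from mv_sq (hfpf j _),
      show t i (t i w) = t i w + w from mv_sq (hfpf i w)] at e
    simp only [sym_apply, LinearMap.add_apply, LinearMap.id_apply]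
    rw [e, map_add]
    calc t j (t i w) + t j w + (t i w + w) + t j (t i w)
        = t i w + t j w + w + (t j (t i w) + t j (t i w)) := by abel
      _ = t i w + t j w + w := by rw [w_self, add_zero]
  set D : Fin 6 → (W →ₗ[ZMod 2] W) := fun k => t k.succ + t 0 + LinearMap.id with hD
  have hsym1 : ∀ P : W →ₗ[ZMod 2] W, sym P LinearMap.id = 0 := fun P => by
    simp only [sym, LinearMap.comp_id, LinearMap.id_comp, end_self]
  have hD2 : ∀ k, D k ∘ₗ D k = 0 := by
    intro k
    simp only [D, add_sq, hsq, sym_add, hsym1, add_zero, hpair k.succ 0 (Fin.succ_ne_zero k),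
      LinearMap.id_comp]
    rw [show t k.succ + LinearMap.id + (t 0 + LinearMap.id) + (t k.succ + t 0 + LinearMap.id) + LinearMap.id
        = (t k.succ + t k.succ) + (t 0 + t 0) + ((LinearMap.id + LinearMap.id) +
          (LinearMap.id + LinearMap.id)) by abel]
    simp only [end_self, add_zero]
  have hD0 : ∀ k, sym (t 0) (D k) = D k := by
    intro k
    simp only [D, sym_add', hsym1, sym_self, add_zero, hpair 0 k.succ (Fin.succ_ne_zero k).symm]
    abel
  have hDD : ∀ k l, k ≠ l → sym (D k) (D l) = LinearMap.id := by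
    intro k l hkl
    have e1 : sym (D k) (t 0) = D k := by rw [sym_comm, hD0]
    have e2 : sym (t k.succ) (t l.succ) = t k.succ + t l.succ + LinearMap.id :=
      hpair _ _ fun e => hkl (Fin.succ_injective _ e)
    show sym (D k) (t l.succ + t 0 + LinearMap.id) = _
    rw [sym_add', sym_add', hsym1, add_zero, e1]
    show sym (t k.succ + t 0 + LinearMap.id) (t l.succ) + _ = _
    rw [sym_add, sym_add, sym_comm LinearMap.id, hsym1, add_zero, e2,
      hpair 0 l.succ (Fin.succ_ne_zero l).symm]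
    simp only [D]
    rw [show t k.succ + t l.succ + LinearMap.id + (t 0 + t l.succ + LinearMap.id) +
        (t k.succ + t 0 + LinearMap.id) = (t k.succ + t k.succ) + (t l.succ + t l.succ) +
          (t 0 + t 0) + ((LinearMap.id + LinearMap.id) + LinearMap.id) by abel]
    simp only [end_self, zero_add]
  set n0 := D 0
  set m0 := D 1
  obtain ⟨n1, hn1⟩ : ∃ P, P = D 0 + D 1 + D 2 + D 3 + D 4 := ⟨_, rfl⟩
  obtain ⟨m1, hm1⟩ : ∃ P, P = D 0 + D 1 + D 2 + D 3 + D 5 := ⟨_, rfl⟩
  obtain ⟨g, hg⟩ : ∃ P, P = D 0 + D 1 + D 2 := ⟨_, rfl⟩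
  obtain ⟨h, hh⟩ : ∃ P, P = D 0 + D 1 + D 3 := ⟨_, rfl⟩
  have hsD : ∀ k l : Fin 6, sym (D k) (D l) = if k = l then 0 else LinearMap.id := fun k l => by
    split_ifs with e
    · rw [e, sym_self]
    · exact hDD k l e
  have hred : ∀ (P : W →ₗ[ZMod 2] W), P + (P + P) = P := fun P => by rw [end_self, add_zero]
  -- the commutation rules
  have c1 : sym n0 m0 = LinearMap.id := hDD 0 1 (by decide)
  have c2 : sym n1 m1 = LinearMap.id := by
    simp only [hn1, hm1, sym_add, sym_add', hsD, Fin.reduceEq, ↓reduceIte, add_zero, zero_add,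
      end_self]
  have c3 : sym g h = LinearMap.id := by
    simp only [hg, hh, sym_add, sym_add', hsD, Fin.reduceEq, ↓reduceIte, add_zero, zero_add, end_self]
  have c4 : sym n0 n1 = 0 ∧ sym n0 m1 = 0 ∧ sym n0 g = 0 ∧ sym n0 h = 0 ∧ sym m0 n1 = 0 ∧
      sym m0 m1 = 0 ∧ sym m0 g = 0 ∧ sym m0 h = 0 := by
    simp only [n0, m0, hn1, hm1, hg, hh, sym_add', hsD, Fin.reduceEq, ↓reduceIte, add_zero, zero_add,
      end_self, and_self]
  have c5 : sym n1 g = 0 ∧ sym n1 h = 0 ∧ sym m1 g = 0 ∧ sym m1 h = 0 := by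
    simp only [hn1, hm1, hg, hh, sym_add, sym_add', hsD, Fin.reduceEq, ↓reduceIte, add_zero, zero_add,
      end_self, and_self]
  have s1 : n1 ∘ₗ n1 = 0 ∧ m1 ∘ₗ m1 = 0 := by
    simp only [hn1, hm1, add_sq, hD2, sym_add, hsD, Fin.reduceEq, ↓reduceIte, add_zero, zero_add,
      end_self, and_self]
  have s2 : g ∘ₗ g = LinearMap.id ∧ h ∘ₗ h = LinearMap.id := by
    simp only [hg, hh, add_sq, hD2, sym_add, hsD, Fin.reduceEq, ↓reduceIte, add_zero, zero_add,
      end_self, and_self]
  have hswap : ∀ {P Q : W →ₗ[ZMod 2] W}, sym P Q = 0 → ∀ w, P (Q w) = Q (P w) := fun e w =>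
    w_eq (LinearMap.congr_fun e w)
  have hswap1 : ∀ {P Q : W →ₗ[ZMod 2] W}, sym P Q = LinearMap.id → ∀ w, P (Q w) = Q (P w) + w :=
    fun {P Q} e w => by
      have e1 : P (Q w) + Q (P w) = w := LinearMap.congr_fun e w
      conv_rhs => arg 2; rw [← e1]
      rw [add_left_comm, w_self, add_zero]
  obtain ⟨q1, q2, q3, q4, q5, q6, q7, q8⟩ := c4
  obtain ⟨r1, r2, r3, r4⟩ := c5
  have z0 : ∀ w, n0 (n0 w) = 0 := fun w => LinearMap.congr_fun (hD2 0) w
  have z1 : ∀ w, m0 (m0 w) = 0 := fun w => LinearMap.congr_fun (hD2 1) w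
  have z2 : ∀ w, n1 (n1 w) = 0 := fun w => LinearMap.congr_fun s1.1 w
  have z3 : ∀ w, m1 (m1 w) = 0 := fun w => LinearMap.congr_fun s1.2 w
  have z4 : ∀ w, g (g w) = w := fun w => LinearMap.congr_fun s2.1 w
  have z5 : ∀ w, h (h w) = w := fun w => LinearMap.congr_fun s2.2 w
  -- a common fixed vector
  obtain ⟨v, hv0, hv1, hv2, hv3⟩ : ∃ v, n0 v = 0 ∧ n1 v = 0 ∧ g v = v ∧ v ≠ 0 := by
    obtain ⟨w, hw⟩ : ∃ w : W, w ≠ 0 := by
      by_contra hno
      push Not at hno
      haveI : Subsingleton W := ⟨fun a b => (hno a).trans (hno b).symm⟩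
      rw [Nat.card_unique] at hcard
      norm_num at hcard
    obtain ⟨a, ha0, ha⟩ : ∃ a, n0 a = 0 ∧ a ≠ 0 := by
      by_cases e : n0 w = 0
      exacts [⟨w, e, hw⟩, ⟨_, z0 w, e⟩]
    obtain ⟨b, hb0, hb1, hb⟩ : ∃ b, n0 b = 0 ∧ n1 b = 0 ∧ b ≠ 0 := by
      by_cases e : n1 a = 0
      exacts [⟨a, ha0, e, ha⟩, ⟨_, by rw [hswap q1, ha0, map_zero], z2 a, e⟩]
    by_cases e : g b = b
    · exact ⟨b, hb0, hb1, e, hb⟩
    · refine ⟨g b + b, ?_, ?_, ?_, fun e' => e (w_eq e')⟩
      · rw [map_add, hswap q3, hb0, map_zero, add_zero]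
      · rw [map_add, hswap r1, hb1, map_zero, add_zero]
      · rw [map_add, z4, add_comm]
  let bs : Fin 8 → W := ![v, m0 v, m1 v, m1 (m0 v), h v, m0 (h v), m1 (h v), m1 (m0 (h v))]
  let G0 : (Fin 8 → ZMod 2) →ₗ[ZMod 2] W := Fintype.linearCombination (ZMod 2) bs
  let E0 : (Fin 8 → ZMod 2) →ₗ[ZMod 2] V := Fintype.linearCombination (ZMod 2) fun k => dc (bCode k)
  obtain ⟨hb256, hb0, hb1, hb2, hb3, hb4, hb5, hb6, hb7⟩ := basB_code
  have hEb : Function.Bijective E0 := by
    refine Function.Surjective.bijective_of_nat_card_le (fun x => ?_) (by simp)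
    obtain ⟨n, hn⟩ := comb_code (cd x)
    refine ⟨fun k => if n.val.testBit k.val then 1 else 0, ?_⟩
    rw [← dc_cd x, ← hn]
    simp only [E0, Fintype.linearCombination_apply, Fin.sum_univ_eight, comb, dc_xor, apply_ite dc,
      dc_zero, ite_smul, one_smul, zero_smul]
    abel
  let eE := LinearEquiv.ofBijective E0 hEb
  let J : V →ₗ[ZMod 2] W := G0 ∘ₗ eE.symm.toLinearMap
  have hJb : ∀ k, J (dc (bCode k)) = bs k := by
    intro k
    have e : dc (bCode k) = eE (Pi.single k 1) := by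
      show _ = E0 (Pi.single k 1)
      simp [E0, Fintype.linearCombination_apply, Pi.single_apply]
    show G0 (eE.symm (dc (bCode k))) = bs k
    rw [e, LinearEquiv.symm_apply_apply]
    simp [G0, Fintype.linearCombination_apply, Pi.single_apply]
  let Lm : List ℕ → (V →ₗ[ZMod 2] V) := fun m => (AddMonoidHom.mk' (fun x => dc (lap m (cd x).val))
    fun x y => by
      rw [← dc_xor, ← lap_xor]
      congr 2
      refine dc_inj (cd _).isLt (xor_lt (cd x).isLt (cd y).isLt) ?_
      rw [dc_cd, dc_xor, dc_cd, dc_cd]).toZModLinearMap 2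
  have hLm : ∀ m x, Lm m x = dc (lap m (cd x).val) := fun _ _ => rfl
  have hLd : ∀ m (i : ℕ), i < 256 → Lm m (dc i) = dc (lap m i) := fun m i hi => by
    rw [hLm, show (cd (dc i)).val = i from congrArg Fin.val (cd_dc ⟨i, hi⟩)]
  let op : Fin 6 → (W →ₗ[ZMod 2] W) := ![n0, m0, n1, m1, g, h]
  have hJop : ∀ k, ∀ x, J (Lm (nOp k) x) = op k (J x) := by
    intro k
    have hbase : ∀ l, J (Lm (nOp k) (dc (bCode l))) = op k (bs l) := by
      intro l
      rw [hLd _ _ (hb256 l)]
      have key : ∀ (k : Fin 6) (l : Fin 8), lap (nOp k) (bCode l) =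
          ![![0, bCode 0, 0, bCode 2, 0, bCode 4, 0, bCode 6],
            ![bCode 1, 0, bCode 3, 0, bCode 5, 0, bCode 7, 0],
            ![0, 0, bCode 0, bCode 1, 0, 0, bCode 4, bCode 5],
            ![bCode 2, bCode 3, 0, 0, bCode 6, bCode 7, 0, 0],
            ![bCode 0, bCode 1, bCode 2, bCode 3, bCode 4 ^^^ bCode 0, bCode 5 ^^^ bCode 1,
              bCode 6 ^^^ bCode 2, bCode 7 ^^^ bCode 3],
            ![bCode 4, bCode 5, bCode 6, bCode 7, bCode 0, bCode 1, bCode 2, bCode 3]] k l := by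
        decide +kernel
      rw [key k l]
      fin_cases k <;> fin_cases l <;>
        simp [op, bs, dc_xor, dc_zero, hJb, map_add, hswap1 c1, hswap1 c2, hswap1 c3, hswap q1,
          hswap q2, hswap q3, hswap q4, hswap r1, hswap r2, (hswap q5 _).symm, (hswap q6 _).symm,
          (hswap q7 _).symm, (hswap q8 _).symm, (hswap r3 _).symm, (hswap r4 _).symm, z0, z1, z2, z3,
          z4, z5, hv0, hv1, hv2]
    intro x
    obtain ⟨c, rfl⟩ := hEb.2 x
    simp only [E0, Fintype.linearCombination_apply, map_sum, map_smul, hbase, hJb]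
  have hJinj : Function.Injective J := by
    rw [← LinearMap.ker_eq_bot, LinearMap.ker_eq_bot']
    intro x hx
    by_contra hne
    obtain ⟨a, b, c, habc⟩ := reach_code (cd x) fun e => hne (by rw [← dc_cd x, e, dc_zero])
    have key : ∀ (k : Fin 6) (i : ℕ), i < 256 → J (dc i) = 0 →
        J (dc (lap (nOp k) i)) = 0 ∧ lap (nOp k) i < 256 := by
      intro k i hi h0
      exact ⟨by rw [← hLd _ _ hi, hJop, h0, map_zero], ((a0_code ⟨i, hi⟩).1 k).2⟩
    obtain ⟨i, hi, hi0, hfin⟩ : ∃ i, i < 256 ∧ J (dc i) = 0 ∧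
        ((if c then lap (nOp 5) i ^^^ i else i) = 1 ∨ (if c then lap (nOp 4) i ^^^ i else i) = 1) := by
      have h1 : (if a then lap (nOp 0) (cd x).val else (cd x).val) < 256 ∧
          J (dc (if a then lap (nOp 0) (cd x).val else (cd x).val)) = 0 := by
        cases a
        · exact ⟨(cd x).isLt, by rw [if_neg (by simp), dc_cd, hx]⟩
        · exact (key 0 _ (cd x).isLt (by rw [dc_cd, hx])).symm
      refine ⟨_, ?_, ?_, habc⟩
      · cases b
        · exact h1.1
        · exact (key 2 _ h1.1 h1.2).2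
      · cases b
        · exact h1.2
        · exact (key 2 _ h1.1 h1.2).1
    have hone : J (dc 1) = 0 := by
      have hxor : ∀ k, J (dc (lap (nOp k) i ^^^ i)) = 0 := fun k => by
        rw [dc_xor, map_add, (key k i hi hi0).1, hi0, add_zero]
      cases c <;> rcases hfin with e | e <;>
        simp only [Bool.false_eq_true, if_false, if_true] at e <;> rw [← e]
      exacts [hi0, hi0, hxor 5, hxor 4]
    exact hv3 (by rw [← hb0, hJb] at hone; exact hone)
  have hJbij : Function.Bijective J := hJinj.bijective_of_nat_card_le (by simp [hcard])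
  let L : W ≃ₗ[ZMod 2] V := (LinearEquiv.ofBijective J hJbij).symm
  have hLJ : ∀ x, L (J x) = x := fun x => (LinearEquiv.ofBijective J hJbij).symm_apply_apply x
  have hJL : ∀ w, J (L w) = w := fun w => (LinearEquiv.ofBijective J hJbij).apply_symm_apply w
  have hLop : ∀ k w, L (op k w) = Lm (nOp k) (L w) := fun k w => by
    conv_lhs => rw [← hJL w, ← hJop, hLJ]
  -- the combinations
  have hcd : ∀ (m : List ℕ) (i : Fin 256), lap m i.val < 256 → (cd (dc (lap m i.val))).val = lap m i.val :=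
    fun m i hi => congrArg Fin.val (cd_dc ⟨_, hi⟩)
  have hDop : ∀ k w, L (D k w) = Lm (dOp k) (L w) := by
    have hd : D 0 = op 0 ∧ D 1 = op 1 ∧ D 2 = op 4 + op 0 + op 1 ∧ D 3 = op 5 + op 0 + op 1 ∧
        D 4 = op 2 + op 4 + op 5 + op 0 + op 1 ∧ D 5 = op 3 + op 4 + op 5 + op 0 + op 1 := by
      refine ⟨rfl, rfl, LinearMap.ext fun w => ?_, LinearMap.ext fun w => ?_,
        LinearMap.ext fun w => ?_, LinearMap.ext fun w => ?_⟩ <;>
        (simp only [op, hn1, hm1, hg, hh, n0, m0, Matrix.cons_val, LinearMap.add_apply]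
         refine w_eq ?_
         abel_nf
         simp [two_nsmul, two_zsmul, w_self, w_four, w_four'])
    obtain ⟨d0, d1, d2, d3, d4, d5⟩ := hd
    intro k w
    have hm : ∀ (v : Fin 256), lap (dOp 2) v.val = lap (nOp 4) v.val ^^^ lap (nOp 0) v.val ^^^ lap (nOp 1) v.val ∧
        lap (dOp 3) v.val = lap (nOp 5) v.val ^^^ lap (nOp 0) v.val ^^^ lap (nOp 1) v.val ∧
        lap (dOp 4) v.val = lap (nOp 2) v.val ^^^ lap (nOp 4) v.val ^^^ lap (nOp 5) v.val ^^^
          lap (nOp 0) v.val ^^^ lap (nOp 1) v.val ∧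
        lap (dOp 5) v.val = lap (nOp 3) v.val ^^^ lap (nOp 4) v.val ^^^ lap (nOp 5) v.val ^^^
          lap (nOp 0) v.val ^^^ lap (nOp 1) v.val := by decide +kernel
    obtain ⟨m2, m3, m4, m5⟩ := hm (cd (L w))
    obtain ⟨o0, o1, -⟩ := opB_code (cd (L w))
    fin_cases k
    · show L (D 0 w) = _; rw [d0, hLop, o0]; rfl
    · show L (D 1 w) = _; rw [d1, hLop, o1]; rfl
    · show L (D 2 w) = Lm (dOp 2) (L w)
      rw [d2, hLm, m2]; simp only [LinearMap.add_apply, map_add, hLop, hLm, dc_xor]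
    · show L (D 3 w) = Lm (dOp 3) (L w)
      rw [d3, hLm, m3]; simp only [LinearMap.add_apply, map_add, hLop, hLm, dc_xor]
    · show L (D 4 w) = Lm (dOp 4) (L w)
      rw [d4, hLm, m4]; simp only [LinearMap.add_apply, map_add, hLop, hLm, dc_xor]
    · show L (D 5 w) = Lm (dOp 5) (L w)
      rw [d5, hLm, m5]; simp only [LinearMap.add_apply, map_add, hLop, hLm, dc_xor]
  -- the difference of the first generator and the standard one is a scalar
  have hA : ∀ k, sym (t 0) (op k) = op k := by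
    intro k
    fin_cases k <;> simp [op, hn1, hm1, hg, hh, n0, m0, sym_add', hD0]
  let X : V →ₗ[ZMod 2] V := L.toLinearMap ∘ₗ t 0 ∘ₗ L.symm.toLinearMap + Lm (gen true 0)
  have hX : ∀ k x, X (Lm (nOp k) x) = Lm (nOp k) (X x) := by
    intro k x
    obtain ⟨w, rfl⟩ := L.surjective x
    have e1 := congrArg L (LinearMap.congr_fun (hA k) w)
    rw [sym_apply, map_add, hLop, hLop] at e1
    have h1 := (a0_code (cd (L w))).1 k
    have e2 : Lm (gen true 0) (Lm (nOp k) (L w)) + Lm (nOp k) (Lm (gen true 0) (L w)) =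
        Lm (nOp k) (L w) := by
      rw [hLm (nOp k) (L w), hLd _ _ h1.2, hLm (gen true 0) (L w), hLd _ _ (gen_lt true 0 _), ← dc_xor,
        h1.1]
    simp only [X, LinearMap.add_apply, LinearMap.comp_apply, LinearEquiv.coe_coe,
      LinearEquiv.symm_apply_apply, map_add]
    rw [← hLop k w, LinearEquiv.symm_apply_apply, hLop k w]
    refine w_eq ?_
    rw [show ∀ a b c d : V, a + b + (c + d) = (a + c) + (b + d) from fun a b c d => add_add_add_comm a b c d,
      e1, e2, w_self]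
  obtain ⟨c, hc⟩ : ∃ c : ZMod 2, X (dc 1) = c • dc 1 := by
    have h1 : (1 : ℕ) < 256 := by norm_num
    have hfix : lap (nOp 0) 1 = 0 ∧ lap (nOp 2) 1 = 0 ∧ lap (nOp 4) 1 = 1 := by decide +kernel
    have e0 := hX 0 (dc 1)
    have e2 := hX 2 (dc 1)
    have e4 := hX 4 (dc 1)
    rw [hLd _ _ h1, hfix.1, dc_zero, map_zero, hLm] at e0
    rw [hLd _ _ h1, hfix.2.1, dc_zero, map_zero, hLm] at e2
    rw [hLd _ _ h1, hfix.2.2, hLm] at e4
    have hz : ∀ k, ∀ v : Fin 256, lap (nOp k) v.val < 256 := fun k v => ((a0_code v).1 k).2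
    rcases (a0_code (cd (X (dc 1)))).2.2
        (dc_inj (hz 0 _) (by norm_num) (e0.symm.trans dc_zero.symm))
        (dc_inj (hz 2 _) (by norm_num) (e2.symm.trans dc_zero.symm))
        (dc_inj (hz 4 _) (cd _).isLt (by rw [← e4, dc_cd])) with e | e
    · exact ⟨0, by rw [zero_smul, ← dc_cd (X (dc 1)), e, dc_zero]⟩
    · exact ⟨1, by rw [one_smul, ← dc_cd (X (dc 1)), e]⟩
  have hXall : ∀ x, X x = c • x := by
    have step : ∀ k i j, lap (nOp k) i = j → i < 256 → X (dc i) = c • dc i → X (dc j) = c • dc j := by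
      intro k i j e hi hxi
      rw [← e, ← hLd _ _ hi, hX, hxi, map_smul]
    have g0 : X (dc (bCode 0)) = c • dc (bCode 0) := by rw [hb0]; exact hc
    have g1 := step 1 _ _ hb1 (hb256 0) g0
    have g4 := step 5 _ _ hb4 (hb256 0) g0
    have g5 := step 1 _ _ hb5 (hb256 4) g4
    have hbasis : ∀ k, X (dc (bCode k)) = c • dc (bCode k) := by
      intro k
      fin_cases k
      exacts [g0, g1, step 3 _ _ hb2 (hb256 0) g0, step 3 _ _ hb3 (hb256 1) g1, g4, g5,
        step 3 _ _ hb6 (hb256 4) g4, step 3 _ _ hb7 (hb256 5) g5]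
    intro x
    obtain ⟨a, rfl⟩ := hEb.2 x
    simp only [E0, Fintype.linearCombination_apply, map_sum, map_smul, hbasis, Finset.smul_sum,
      smul_comm c]
  have hgenL : ∀ (i : Fin 7) w, L (t i w) = Lm (gen true i) (L w) + c • L w := by
    have h0 : ∀ w, L (t 0 w) = Lm (gen true 0) (L w) + c • L w := by
      intro w
      have e := hXall (L w)
      simp only [X, LinearMap.add_apply, LinearMap.comp_apply, LinearEquiv.coe_coe,
        LinearEquiv.symm_apply_apply] at e
      rw [← e, add_comm (L (t 0 w)), ← add_assoc, w_self, zero_add]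
    intro i w
    refine Fin.cases (h0 w) (fun j => ?_) i
    have e : t j.succ w = D j w + t 0 w + w := by
      simp only [D, LinearMap.add_apply, LinearMap.id_apply]
      calc t j.succ w = t j.succ w + ((t 0 w + t 0 w) + (w + w)) := by
            rw [w_self, w_self, add_zero, add_zero]
        _ = _ := by abel
    rw [e, map_add, map_add, hDop, h0, hLm (gen true j.succ), (a0_code (cd (L w))).2.1 j, dc_xor, dc_xor,
      dc_cd, ← hLm, ← hLm]
    abel
  -- composing with an outer automorphism if necessary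
  obtain ⟨ψ, hψr, hψ⟩ : ∃ ψ : A9 →* (W ≃ₗ[ZMod 2] W), ψ.range = φ.range ∧
      ∀ i w, L (ψ (a9 i) w) = dc (lap (gen true i) (cd (L w)).val) := by
    rcases z2_cases c with rfl | rfl
    · exact ⟨φ, rfl, fun i w => by rw [show φ (a9 i) w = t i w from rfl, hgenL, zero_smul, add_zero]; rfl⟩
    let α : MulAut A9 := MulAut.conjNormal (Equiv.swap (0 : Fin 9) 1)
    refine ⟨φ.comp α.toMonoidHom, ?_, fun i w => ?_⟩
    · rw [MonoidHom.range_comp,
        MonoidHom.range_eq_top.2 (show Function.Surjective α.toMonoidHom from α.surjective),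
        MonoidHom.range_eq_map]
    have e : α (a9 i) = a9 i * a9 i := Subtype.ext (by rw [MulAut.conjNormal_apply]; exact swap_conj i)
    show L (φ (α (a9 i)) w) = _
    rw [e, happ, show φ (a9 i) (φ (a9 i) w) = t i w + w from mv_sq (hfpf i w), map_add, hgenL, one_smul,
      w_cancel]
    rfl
  refine ⟨L, ψ, ?_, hψr, hψ⟩
  -- the form is forced
  let f : ℕ → ZMod 2 := fun i => F.q (L.symm (dc i))
  have hstep : ∀ i : Fin 7, ∀ v : Fin 256, f (lap (gen true i) v.val) = f v.val := by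
    intro i v
    obtain ⟨σ, hσ⟩ : ψ (a9 i) ∈ φ.range := hψr ▸ ⟨_, rfl⟩
    have e := hψ i (L.symm (dc v.val))
    rw [LinearEquiv.apply_symm_apply, cd_dc] at e
    show F.q (L.symm (dc (lap (gen true i) v.val))) = _
    rw [← e, LinearEquiv.symm_apply_apply, ← hσ, hq]
  have horb : ∀ (w : List (Fin 7)) (i : ℕ), i < 256 → f (wap true w i) = f i := by
    intro w
    induction w with
    | nil => exact fun _ _ => rfl
    | cons a w ih => exact fun i hi => (hstep a ⟨_, wap_lt true w i hi⟩).trans (ih i hi)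
  have hval : ∀ v : Fin 256, v.val ≠ 0 → f v.val = f (if qn v.val then 17 else 1) := fun v hv => by
    conv_lhs => rw [← orbitB_code v hv]
    exact horb _ _ (by split_ifs <;> norm_num)
  have hq0 : F.q 0 = 0 := by
    have h0 := F.q_add 0 0
    rw [add_zero, F.B_zero, add_zero, z2_self] at h0
    exact h0
  have hf1 : f 1 = 0 := by
    set a := L.symm (dc 1)
    set b := L.symm (dc 2)
    set d := L.symm (dc 4)
    have e3 : f 3 = F.q (a + b) := by rw [← map_add, ← dc_xor]; rfl
    have e5 : f 5 = F.q (a + d) := by rw [← map_add, ← dc_xor]; rfl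
    have e6 : f 6 = F.q (b + d) := by rw [← map_add, ← dc_xor]; rfl
    have e7 : f 7 = F.q (a + b + d) := by rw [← map_add, ← map_add, ← dc_xor, ← dc_xor]; rfl
    have hs : ∀ v : Fin 256, v.val ∈ [2, 3, 4, 5, 6, 7] → f v.val = f 1 := by
      intro v hv
      have hqv : qn v.val = false ∧ v.val ≠ 0 :=
        (by decide +kernel : ∀ v : Fin 256, v.val ∈ [2, 3, 4, 5, 6, 7] → qn v.val = false ∧ v.val ≠ 0) v hv
      rw [hval v hqv.2, hqv.1]; rfl
    have k2 : F.q b = f 1 := hs ⟨2, by norm_num⟩ (by simp)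
    have k4 : F.q d = f 1 := hs ⟨4, by norm_num⟩ (by simp)
    have k3 := hs ⟨3, by norm_num⟩ (by simp)
    have k5 := hs ⟨5, by norm_num⟩ (by simp)
    have k6 := hs ⟨6, by norm_num⟩ (by simp)
    have k7 := hs ⟨7, by norm_num⟩ (by simp)
    have k1 : F.q a = f 1 := rfl
    rw [e7, F.q_add, F.B_add, F.q_add] at k7
    rw [e3, F.q_add] at k3
    rw [e5, F.q_add] at k5
    rw [e6, F.q_add] at k6
    rw [k1, k2] at k3 k7
    rw [k1, k4] at k5
    rw [k2, k4] at k6
    rw [k4] at k7
    revert k3 k5 k6 k7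
    generalize F.B a b = x1
    generalize F.B a d = x2
    generalize F.B b d = x3
    generalize f 1 = x
    revert x1 x2 x3 x
    decide
  have hf17 : f 17 = 1 := by
    refine (z2_cases _).resolve_left fun h17 => hv3 (F.nondeg v fun b => ?_)
    have hall : ∀ w, F.q w = 0 := by
      intro w
      obtain ⟨x, rfl⟩ := L.symm.surjective w
      rcases eq_or_ne (cd x).val 0 with e | e
      · rw [← dc_cd x, e, dc_zero, map_zero, hq0]
      · show F.q (L.symm x) = 0
        rw [← dc_cd x]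
        refine (hval _ e).trans ?_
        split_ifs
        exacts [h17, hf1]
    have e := F.q_add v b
    rw [hall, hall, hall, zero_add, zero_add] at e
    exact e.symm
  intro w
  obtain ⟨x, rfl⟩ := L.symm.surjective w
  rw [LinearEquiv.apply_symm_apply, ← dc_cd x, qP_dc]
  rcases eq_or_ne (cd x).val 0 with e | e
  · rw [e, dc_zero, map_zero, hq0]; rfl
  · show _ = f (cd x).val
    rw [hval _ e]
    rcases Bool.eq_false_or_eq_true (qn (cd x).val) with hb | hb <;> rw [hb]
    · exact hf17.symm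
    · exact hf1.symm

end Cfsg.Agent.ThLocal
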