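import Cfsg.Agent.ThLocal.Setting
import Cfsg.Agent.ThLocal.Spin
import Cfsg.Agent.ThLocal.Hyp
import Cfsg.Agent.CoOneType.Build

/-!
The coordinates exist.
-/

set_option autoImplicit false

open Cfsg Cfsg.Agent.ThreeTrans.OrthCohom Cfsg.Agent.Classical.Quad QuadraticMap Cfsg.Agent.LargeExtra
open Cfsg.Agent.CoOneType

namespace Cfsg.Agent.ThLocal

/-- The natural coordinates of the eight-dimensional space. -/
def T0 : V ≃ₗ[ZMod 2] HV 3 := LinearEquiv.sumArrowLequivProdArrow (Fin 4) (Fin 4) (ZMod 2) (ZMod 2)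

/-- The form of the extraspecial group in natural coordinates. -/
noncomputable def formT (c : ZMod 2) : Form V where
  q v := hbeta c (T0 v) (T0 v)
  B v w := hB (T0 v) (T0 w)
  q_add a b := by
    rw [map_add, hbeta_add_left, hbeta_add_right, hbeta_add_right, ← hbeta_symm_add c (T0 a) (T0 b)]
    abel
  B_add a b d := by rw [map_add, hB_add_left]
  B_comm a b := hB_comm _ _
  nondeg a h := T0.map_eq_zero_iff.1 (hB_nondeg fun w => by
    have := h (T0.symm w)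
    rwa [LinearEquiv.apply_symm_apply] at this)

variable {G : Type*} [Group G] [Finite G]

set_option maxHeartbeats 1000000 in
theorem exists_ths_aux {z : G} (hz : orderOf z = 2) (Q : Subgroup ↥(Cz z)) [Q.Normal]
    (hQeq : pCore 2 ↥(Cz z) = Q) (hQ : IsExtraspecial 2 ↥Q) (hcard : Nat.card Q = 2 ^ 9)
    (hself : Subgroup.centralizer (Q : Set ↥(Cz z)) ≤ Q) (e : (↥(Cz z) ⧸ Q) ≃* A9) :
    Nonempty (ThS z) := by
  classical
  have : Fact (Nat.Prime 2) := ⟨Nat.prime_two⟩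
  have hoc : oc z = Q.map (Cz z).subtype := by rw [oc, hQeq]
  have hes : IsExtraspecial 2 ↥(oc z) := by
    rw [hoc]
    exact LargeExtra.extraspecial_congr (Q.equivMapOfInjective _ (Cz z).subtype_injective) hQ
  have hcentC : ∀ c : ↥(Cz z), (∀ q ∈ Q, q * c = c * q) → c ∈ Q := fun c hc =>
    hself (Subgroup.mem_centralizer_iff.2 hc)
  have hzC : z ∈ (Cz z) := Subgroup.mem_centralizer_singleton_iff.2 rfl
  set zC : ↥(Cz z) := ⟨z, hzC⟩
  have hzQ : zC ∈ Q := hcentC zC fun q _ => Subtype.ext (Subgroup.mem_centralizer_singleton_iff.1 q.2)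
  have hset : Setting z := by
    refine ⟨hz, hes, fun c hc => ?_⟩
    rw [hoc] at hc ⊢
    have hcC : c ∈ (Cz z) := Subgroup.mem_centralizer_singleton_iff.2
      (Subgroup.mem_centralizer_iff.1 hc z ⟨zC, hzQ, rfl⟩).symm
    exact ⟨⟨c, hcC⟩, hcentC _ fun q hq => Subtype.ext (Subgroup.mem_centralizer_iff.1 hc _ ⟨q, hq, rfl⟩), rfl⟩
  obtain ⟨m, c, ⟨ε⟩⟩ := Fg24.ExtraTwo.exists_equiv_heis hQ
  obtain rfl : m = 3 := by
    have h := Nat.card_congr ε.toEquiv
    rw [hcard, Heis.card] at h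
    have := Nat.pow_right_injective le_rfl h
    omega
  have hidx : Nat.card (↥(Cz z) ⧸ Q) = 181440 := by rw [Nat.card_congr e.toEquiv, card_a9]
  let cg : ↥(Cz z) →* MulAut (Heis 3 c) := ((MulAut.congr ε).toMonoidHom).comp MulAut.conjNormal
  have hgen : ∀ (T : V ≃ₗ[ZMod 2] HV 3)
      {q : V → ZMod 2} (hq : ∀ x, q x = hbeta c (T x) (T x)),
      ((Heis.isoHom T hq).comp cg).ker = Q := by
    intro T q hq
    ext d
    rw [MonoidHom.mem_ker, MonoidHom.comp_apply, ← MonoidHom.mem_ker, Heis.isoHom_ker]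
    constructor
    · rintro ⟨h, hh⟩
      have hx : ∀ r : ↥Q, ((ε.symm h : ↥Q) : ↥(Cz z))⁻¹ * d * r = r * (((ε.symm h : ↥Q) : ↥(Cz z))⁻¹ * d) := by
        intro r
        have h1 := congrArg (fun α : MulAut (Heis 3 c) => ε.symm (α (ε r))) hh
        simp [cg] at h1
        have h2 : ((ε.symm h : ↥Q) : ↥(Cz z)) * r * ((ε.symm h : ↥Q) : ↥(Cz z))⁻¹ = d * r * d⁻¹ := by
          have h3 := congrArg Subtype.val h1
          rwa [MulAut.conjNormal_apply, Subgroup.coe_mul, Subgroup.coe_mul, Subgroup.coe_inv] at h3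
        calc ((ε.symm h : ↥Q) : ↥(Cz z))⁻¹ * d * r
            = ((ε.symm h : ↥Q) : ↥(Cz z))⁻¹ * (d * r * d⁻¹) * d := by group
          _ = r * (((ε.symm h : ↥Q) : ↥(Cz z))⁻¹ * d) := by rw [← h2]; group
      have hm := hcentC _ fun r hr => (hx ⟨r, hr⟩).symm
      have := mul_mem (ε.symm h).2 hm
      rwa [mul_inv_cancel_left] at this
    · intro hd
      refine ⟨ε ⟨d, hd⟩, MulEquiv.ext fun x => ?_⟩
      obtain ⟨r, rfl⟩ := ε.surjective x
      simp [cg, ← map_mul, ← map_inv]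
      congr 1
  -- the linear action in natural coordinates
  let ρ0 : ↥(Cz z) →* ↥(isometryGroup (ZMod 2) (formT c).q) :=
    (Heis.isoHom T0 (fun _ => rfl : ∀ x, (formT c).q x = hbeta c (T0 x) (T0 x))).comp cg
  let φC : ↥(Cz z) →* (V ≃ₗ[ZMod 2] V) :=
    ((LinearMap.GeneralLinearGroup.generalLinearEquiv (ZMod 2) V).toMonoidHom.comp
      Matrix.GeneralLinearGroup.toLin.toMonoidHom).comp ((Subgroup.subtype _).comp ρ0)
  have hφC : ∀ d x, φC d x = Heis.coordMap T0 (cg d) x := fun d x => by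
    rw [← Heis.isoHom_mulVec T0 (fun _ => rfl : ∀ x, (formT c).q x = hbeta c (T0 x) (T0 x))]
    rfl
  have hkerC : φC.ker = Q := by
    rw [MonoidHom.ker_comp_of_injective, MonoidHom.ker_comp_of_injective]
    · exact hgen T0 _
    · exact Subgroup.subtype_injective _
    · exact (LinearMap.GeneralLinearGroup.generalLinearEquiv (ZMod 2) V).injective.comp
        Matrix.GeneralLinearGroup.toLin.injective
  let φ : A9 →* (V ≃ₗ[ZMod 2] V) := (QuotientGroup.lift Q φC hkerC.ge).comp e.symm.toMonoidHom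
  have hφ : ∀ d : ↥(Cz z), φ (e d) = φC d := fun d => by
    show QuotientGroup.lift Q φC hkerC.ge (e.symm (e d)) = _
    rw [MulEquiv.symm_apply_apply]; rfl
  have hinj : Function.Injective φ :=
    ((QuotientGroup.injective_lift_iff Q φC hkerC.ge).2 hkerC.symm).comp e.symm.injective
  have hqφ : ∀ σ w, (formT c).q (φ σ w) = (formT c).q w := by
    intro σ w
    obtain ⟨d, hd⟩ := e.surjective.comp (QuotientGroup.mk'_surjective Q) σ
    rw [← hd]
    show (formT c).q (φ (e d) w) = _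
    rw [hφ]
    exact (mem_isometryGroup_iff).1 (ρ0 d).2 w
  have hcardV : Nat.card V = 256 := by simp
  obtain ⟨sp, L, ψ, hqL, hrange, hgenψ⟩ : ∃ (sp : Bool) (L : V ≃ₗ[ZMod 2] V)
      (ψ : A9 →* (V ≃ₗ[ZMod 2] V)), (∀ w, qP 4 (L w) = (formT c).q w) ∧ ψ.range = φ.range ∧
      ∀ i w, L (ψ (a9 i) w) = dc (lap (gen sp i) (cd (L w)).val) := by
    rcases dichotomy φ hinj hcardV with hf | h4
    · obtain ⟨L, ψ, h1, h2, h3⟩ := spin_model φ hcardV _ hqφ hf
      exact ⟨true, L, ψ, h1, h2, h3⟩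
    · obtain ⟨L, h1, h2⟩ := perm_model φ hinj hcardV _ hqφ h4
      exact ⟨false, L, φ, h1, rfl, h2⟩
  let T : V ≃ₗ[ZMod 2] HV 3 := L.symm.trans T0
  have hq' : ∀ x, ⇑(qP 4) x = hbeta c (T x) (T x) := fun x => by
    show qP 4 x = (formT c).q (L.symm x)
    rw [← hqL, LinearEquiv.apply_symm_apply]
  let ρT : ↥(Cz z) →* ↥(isometryGroup (ZMod 2) ⇑(qP 4)) := (Heis.isoHom T hq').comp cg
  have hker : ρT.ker = Q := hgen T hq'
  have hCmem : ∀ d : G, d * z = z * d → d ∈ (Cz z) := fun d hd => Subgroup.mem_centralizer_singleton_iff.2 hd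
  have hocQ : ∀ a : G, a ∈ oc z ↔ ∃ h : a ∈ (Cz z), (⟨a, h⟩ : ↥(Cz z)) ∈ Q := fun a => by
    rw [hoc]
    constructor
    · rintro ⟨b, hb, rfl⟩; exact ⟨b.2, hb⟩
    · rintro ⟨h, hb⟩; exact ⟨_, hb, rfl⟩
  let pr : G → V := fun a => if h : ∃ h : a ∈ (Cz z), (⟨a, h⟩ : ↥(Cz z)) ∈ Q then
    T.symm (ε ⟨⟨a, h.1⟩, h.2⟩).v else 0
  have hpr : ∀ (a : ↥(Cz z)) (ha : a ∈ Q), pr (a : G) = T.symm (ε ⟨a, ha⟩).v := fun a ha => by
    simp only [pr]; rw [dif_pos ⟨a.2, ha⟩]
  let act : G → O := fun d => if h : d ∈ (Cz z) then oEquiv (qP 4) (ρT ⟨d, h⟩) else 1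
  have hactL : ∀ (d : ↥(Cz z)) x, (oEquiv (qP 4) (ρT d)).1 x = L (φC d (L.symm x)) := by
    intro d x
    rw [oEquiv_apply, show ρT d = Heis.isoHom T hq' (cg d) from rfl, Heis.isoHom_mulVec, hφC,
      Heis.coordMap_apply, Heis.coordMap_apply]
    rfl
  have hψq : ∀ σ x, qP 4 (L (ψ σ (L.symm x))) = qP 4 x := by
    intro σ x
    obtain ⟨τ, hτ⟩ : ψ σ ∈ φ.range := hrange ▸ ⟨σ, rfl⟩
    rw [hqL, ← hτ, hqφ, ← hqL, LinearEquiv.apply_symm_apply]
  let ρ : A9 →* O :=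
    { toFun := fun σ => ⟨L.symm.trans ((ψ σ).trans L), hψq σ⟩
      map_one' := ext_oG fun x => by simp [oG_one_apply]
      map_mul' := fun σ τ => ext_oG fun x => by simp [oG_mul_apply] }
  have hρact : ∀ (d : ↥(Cz z)), oEquiv (qP 4) (ρT d) ∈ ρ.range := by
    intro d
    obtain ⟨τ, hτ⟩ : φ (e d) ∈ ψ.range := hrange ▸ ⟨_, rfl⟩
    refine ⟨τ, ext_oG fun x => ?_⟩
    rw [hactL, ← hφ, ← hτ]
    rfl
  have hρsurj : ∀ σ, ∃ d : ↥(Cz z), oEquiv (qP 4) (ρT d) = ρ σ := by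
    intro σ
    obtain ⟨τ, hτ⟩ : ψ σ ∈ φ.range := hrange ▸ ⟨σ, rfl⟩
    obtain ⟨d, hd⟩ := e.surjective.comp (QuotientGroup.mk'_surjective Q) τ
    refine ⟨d, ext_oG fun x => ?_⟩
    rw [hactL, ← hφ, show φ (e (d : ↥(Cz z) ⧸ Q)) = φ τ from congrArg φ hd, hτ]
    rfl
  have hρeven : ∀ σ, dsign (ρ σ) = 1 := by
    intro σ
    have hm := fun a b : O => dsign_mul nondegP4 (Or.inr (by simp)) a b
    have h' : σ ∈ Subgroup.closure (Set.range a9) := closure_a9 ▸ Subgroup.mem_top σ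
    induction h' using Subgroup.closure_induction with
    | mem x hx =>
      obtain ⟨i, rfl⟩ := hx
      have h3 : dsign (ρ (a9 i)) * dsign (ρ (a9 i)) * dsign (ρ (a9 i)) = 1 := by
        rw [← hm, ← hm, ← map_mul, ← map_mul, a9_cube, map_one, dsign_one]
      rcases Int.units_eq_one_or (dsign (ρ (a9 i))) with e | e
      · exact e
      · rw [e] at h3; exact absurd h3 (by decide)
    | one => rw [map_one, dsign_one]
    | mul x y _ _ ihx ihy => rw [map_mul, hm, ihx, ihy, one_mul]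
    | inv x _ ih =>
      have := hm (ρ x) (ρ x⁻¹)
      rw [← map_mul, mul_inv_cancel, map_one, dsign_one, ih, one_mul] at this
      exact this.symm
  have hzv : (ε ⟨zC, hzQ⟩).v = 0 := LargeExtra.hB_nondeg fun w => by
    refine (Heis.comm_iff _ ⟨w, 0⟩).1 ?_
    obtain ⟨y, hy⟩ := ε.surjective ⟨w, 0⟩
    rw [← hy, ← map_mul, ← map_mul]
    congr 1
    exact Subtype.ext (Subtype.ext (Subgroup.mem_centralizer_singleton_iff.1 (y : ↥(Cz z)).2).symm)
  have hzne : (ε ⟨zC, hzQ⟩) ≠ 1 := fun h => by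
    have h' : z = 1 := congrArg (fun x : ↥Q => ((x : ↥(Cz z)) : G)) (ε.map_eq_one_iff.1 h)
    rw [h', orderOf_one] at hz
    omega
  have hzs : (ε ⟨zC, hzQ⟩).s = 1 := (z2_cases _).resolve_left
    fun h => hzne (Heis.ext hzv h)
  have hcentral : ∀ x : ↥Q, (ε x).v = 0 → (x : G) = zp z (ε x).s := fun x hx => by
    rcases z2_cases (ε x).s with h | h <;> rw [h]
    · rw [zp_zero]
      exact congrArg (fun x : ↥Q => ((x : ↥(Cz z)) : G))
        (ε.map_eq_one_iff.1 (Heis.ext hx h))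
    · rw [zp_one]
      exact congrArg (fun x : ↥Q => ((x : ↥(Cz z)) : G))
        (ε.injective (Heis.ext (hx.trans hzv.symm) (h.trans hzs.symm)) : x = ⟨zC, hzQ⟩)
  refine ⟨{
    sett := hset
    pr := pr
    pr_mul := fun a ha b hb => by
      obtain ⟨h1, h2⟩ := (hocQ a).1 ha
      obtain ⟨h3, h4⟩ := (hocQ b).1 hb
      rw [show a * b = ((⟨a, h1⟩ * ⟨b, h3⟩ : ↥(Cz z)) : G) from rfl, hpr _ (mul_mem h2 h4),
        show pr a = _ from hpr ⟨a, h1⟩ h2, show pr b = _ from hpr ⟨b, h3⟩ h4, ← map_add]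
      exact congrArg (fun x : Heis 3 c => T.symm x.v) (map_mul ε ⟨_, h2⟩ ⟨_, h4⟩)
    pr_ker := fun a ha h => by
      obtain ⟨h1, h2⟩ := (hocQ a).1 ha
      rw [show pr a = _ from hpr ⟨a, h1⟩ h2, T.symm.map_eq_zero_iff] at h
      have := hcentral ⟨_, h2⟩ h
      rcases z2_cases (ε ⟨⟨a, h1⟩, h2⟩).s with e | e <;> rw [e] at this
      · exact Or.inl (this.trans (zp_zero z))
      · exact Or.inr (this.trans (zp_one z))
    pr_z := by rw [show pr z = _ from hpr zC hzQ, hzv, map_zero]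
    pr_surj := fun v => by
      obtain ⟨x, hx⟩ := ε.surjective ⟨T v, 0⟩
      refine ⟨((x : ↥(Cz z)) : G), (hocQ _).2 ⟨(x : ↥(Cz z)).2, x.2⟩, ?_⟩
      rw [hpr (x : ↥(Cz z)) x.2, show ε ⟨(x : ↥(Cz z)), x.2⟩ = ε x from rfl, hx, LinearEquiv.symm_apply_apply]
    pr_sq := fun a ha => by
      obtain ⟨h1, h2⟩ := (hocQ a).1 ha
      have hs : ε (⟨⟨a, h1⟩, h2⟩ * ⟨⟨a, h1⟩, h2⟩) =
          ⟨0, hbeta c (ε ⟨⟨a, h1⟩, h2⟩).v (ε ⟨⟨a, h1⟩, h2⟩).v⟩ := by rw [map_mul, Heis.sq_eq]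
      have := hcentral _ (congrArg Heis.v hs)
      rw [hs] at this
      rw [show pr a = _ from hpr ⟨a, h1⟩ h2, hq', LinearEquiv.apply_symm_apply]
      exact this
    act := act
    act_spec := fun d hd a ha => by
      obtain ⟨h1, h2⟩ := (hocQ a).1 ha
      have hdC := hCmem d hd
      rw [show d * a * d⁻¹ = ((⟨d, hdC⟩ * ⟨a, h1⟩ * ⟨d, hdC⟩⁻¹ : ↥(Cz z)) : G) from rfl,
        hpr _ (Subgroup.Normal.conj_mem inferInstance _ h2 _), show pr a = _ from hpr ⟨a, h1⟩ h2,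
        show act d = _ from dif_pos hdC, oEquiv_apply]
      rw [show ρT ⟨d, hdC⟩ = Heis.isoHom T hq' (cg ⟨d, hdC⟩) from rfl, Heis.isoHom_mulVec,
        Heis.coordMap_apply, LinearEquiv.apply_symm_apply, ← Heis.apply_v]
      congr 2
      simp only [cg, MonoidHom.comp_apply, MulEquiv.coe_toMonoidHom, MulAut.congr_apply,
        MulEquiv.trans_apply, MulEquiv.symm_apply_apply]
      exact congrArg ε (Subtype.ext rfl)
    act_even := fun d hd => by
      have hdC := hCmem d hd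
      rw [show act d = _ from dif_pos hdC]
      obtain ⟨σ, hσ⟩ := hρact ⟨d, hdC⟩
      rw [← hσ]; exact hρeven σ
    act_ker := fun d hd h => by
      have hdC := hCmem d hd
      rw [show act d = _ from dif_pos hdC, MulEquiv.map_eq_one_iff, ← MonoidHom.mem_ker, hker] at h
      exact (hocQ d).2 ⟨hdC, h⟩
    sp := sp
    ρ := ρ
    ρ_gen := fun i v => by
      show L (ψ (a9 i) (L.symm v)) = _
      rw [hgenψ, LinearEquiv.apply_symm_apply]
    act_mem := fun d hd => by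
      rw [show act d = _ from dif_pos (hCmem d hd)]; exact hρact _
    act_surj := fun σ => by
      obtain ⟨d, hd⟩ := hρsurj σ
      refine ⟨d, Subgroup.mem_centralizer_singleton_iff.1 d.2, ?_⟩
      rw [show act (d : G) = _ from dif_pos d.2]; exact hd
    cent_card := by
      rw [Subgroup.card_eq_card_quotient_mul_card_subgroup Q, hidx, hcard]
      norm_num }⟩

/-- The setting from the hypotheses. -/
theorem exists_ths {z : G} (h : Hyp z) : Nonempty (ThS z) := by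
  obtain ⟨e⟩ := h.quot
  exact exists_ths_aux h.ord _ rfl h.extra h.card h.self e

end Cfsg.Agent.ThLocal
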