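import Mathlib

/-!
The alternating group of degree nine by the three-cycles through two fixed points.
-/

set_option autoImplicit false
set_option maxRecDepth 100000

open Equiv

namespace Cfsg.Agent.ThLocal

/-- The group. -/
abbrev A9 : Type := ↥(alternatingGroup (Fin 9))

/-- The transposition with the base point. -/
def star (i : Fin 9) : Perm (Fin 9) := Equiv.swap 0 i

/-- The three-cycle on the two fixed points and a third one. -/
def a9 (i : Fin 7) : A9 :=
  ⟨star ⟨i.val + 2, by omega⟩ * star 1, by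
    rw [Perm.mem_alternatingGroup, map_mul, star, star, Perm.sign_swap, Perm.sign_swap]
    · rfl
    · decide
    · exact fun h => absurd (congrArg Fin.val h) (by show ¬(0 = i.val + 2); omega)⟩

theorem a9_coe (i : Fin 7) : (a9 i : Perm (Fin 9)) = star ⟨i.val + 2, by omega⟩ * star 1 := rfl

theorem a9_cube : ∀ i, a9 i * a9 i * a9 i = 1 := by
  intro i; refine Subtype.ext ?_
  revert i; decide +kernel

theorem a9_pair : ∀ i j, i ≠ j → a9 i * a9 j * (a9 i * a9 j) = 1 := by
  intro i j h; refine Subtype.ext ?_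
  revert i j; decide +kernel

theorem alt_le {S : Subgroup (Perm (Fin 9))}
    (h : ∀ i, i ≠ 0 → star i * star 1 ∈ S) : alternatingGroup (Fin 9) ≤ S := by
  have h' : ∀ i, i ≠ 0 → star 1 * star i ∈ S := fun i hi => by
    have := inv_mem (h i hi)
    simpa [star, mul_inv_rev] using this
  let T : Submonoid (Perm (Fin 9)) :=
    { carrier := {σ | (Perm.sign σ = 1 ∧ σ ∈ S ∧ star 1 * σ * star 1 ∈ S) ∨
        (Perm.sign σ = -1 ∧ σ * star 1 ∈ S ∧ star 1 * σ ∈ S)}
      one_mem' := Or.inl ⟨map_one _, one_mem S, by simp [star]⟩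
      mul_mem' := by
        have hss : star 1 * star 1 = 1 := Equiv.swap_mul_self 0 1
        have hc : ∀ a b : Perm (Fin 9), a * star 1 * (star 1 * b) = a * b := fun a b => by
          rw [mul_assoc, ← mul_assoc (star 1) (star 1) b, hss, one_mul]
        rintro a b (⟨sa, a1, a2⟩ | ⟨sa, a1, a2⟩) (⟨sb, b1, b2⟩ | ⟨sb, b1, b2⟩)
        · refine Or.inl ⟨by rw [map_mul, sa, sb, one_mul], mul_mem a1 b1, ?_⟩
          have e := mul_mem a2 b2
          rw [← mul_assoc (star 1 * a * star 1), hc (star 1 * a)] at e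
          simpa [mul_assoc] using e
        · refine Or.inr ⟨by rw [map_mul, sa, sb, one_mul], by rw [mul_assoc]; exact mul_mem a1 b1, ?_⟩
          have e := mul_mem a2 b2
          rwa [hc, mul_assoc] at e
        · refine Or.inr ⟨by rw [map_mul, sa, sb, mul_one], ?_, by rw [← mul_assoc]; exact mul_mem a2 b1⟩
          have e := mul_mem a1 b2
          rwa [← mul_assoc (a * star 1), hc] at e
        · refine Or.inl ⟨by rw [map_mul, sa, sb]; decide, ?_, ?_⟩
          · have e := mul_mem a1 b2
            rwa [hc] at e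
          · have e := mul_mem a2 b1
            simpa [mul_assoc] using e }
  have hstar : ∀ i, i ≠ 0 → star i ∈ T := fun i hi =>
    Or.inr ⟨Perm.sign_swap (Ne.symm hi), h i hi, h' i hi⟩
  intro σ hσ
  have hT : σ ∈ T := by
    clear hσ
    induction σ using Perm.swap_induction_on with
    | one => exact T.one_mem
    | swap_mul f x y hxy ih =>
      refine T.mul_mem ?_ ih
      by_cases hx : x = 0
      · subst hx; exact hstar y (Ne.symm hxy)
      by_cases hy : y = 0
      · subst hy; rw [Equiv.swap_comm]; exact hstar x hxy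
      have e : Equiv.swap x y = star x * star y * star x := by
        rw [show star x * star y * star x = Equiv.swap (star x 0) (star x y) by
          rw [Equiv.swap_apply_apply]; simp [star]]
        simp [star, Equiv.swap_apply_of_ne_of_ne hy (Ne.symm hxy)]
      rw [e]
      exact T.mul_mem (T.mul_mem (hstar x hx) (hstar y hy)) (hstar x hx)
  rcases hT with ⟨-, h1, -⟩ | ⟨h1, -⟩
  · exact h1
  · rw [Perm.mem_alternatingGroup.1 hσ] at h1
    exact absurd h1 (by decide)

theorem closure_a9 : Subgroup.closure (Set.range a9) = ⊤ := by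
  refine eq_top_iff.2 fun x _ => ?_
  have h := alt_le (S := (Subgroup.closure (Set.range a9)).map (alternatingGroup (Fin 9)).subtype)
    (fun i hi => ?_) x.2
  · obtain ⟨y, hy, e⟩ := h
    rwa [← Subtype.ext e]
  · rcases lt_or_ge i.val 2 with h2 | h2
    · rw [show i = 1 from Fin.ext (by have : i.val ≠ 0 := fun e => hi (Fin.ext e); simp; omega),
        star, Equiv.swap_mul_self]
      exact one_mem _
    · refine ⟨a9 ⟨i.val - 2, by omega⟩, Subgroup.subset_closure ⟨_, rfl⟩, ?_⟩
      rw [Subgroup.coe_subtype, a9_coe]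
      congr 2
      exact Fin.ext (by simp; omega)

/-- The product of two transpositions. -/
def u1 : A9 := a9 0 * a9 1

/-- A word for a product of four transpositions. -/
def w2 : List (Fin 7) := [5, 3, 6, 4, 5, 3, 0, 1]

/-- The product of four transpositions. -/
def u2 : A9 := (w2.map a9).prod

theorem u1_coe : (u1 : Perm (Fin 9)) = Equiv.swap 0 2 * Equiv.swap 1 3 := by
  unfold u1; decide +kernel

theorem u2_coe : (u2 : Perm (Fin 9)) =
    Equiv.swap 0 2 * Equiv.swap 1 3 * Equiv.swap 5 6 * Equiv.swap 7 8 := by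
  decide +kernel

theorem u1_sq : u1 * u1 = 1 := a9_pair 0 1 (by decide)

theorem u2_sq : u2 * u2 = 1 := by refine Subtype.ext ?_; decide +kernel

theorem u1_ne : u1 ≠ 1 := by decide +kernel

theorem u2_ne : u2 ≠ 1 := by decide +kernel

theorem alt_isConj (σ τ : A9) (h : IsConj (σ : Perm (Fin 9)) τ) (r : Perm (Fin 9))
    (hr : Perm.sign r = -1) (hrτ : r * τ = τ * r) : IsConj σ τ := by
  obtain ⟨c, hc⟩ := isConj_iff.1 h
  rcases Int.units_eq_one_or (Perm.sign c) with e | e
  · exact isConj_iff.2 ⟨⟨c, Perm.mem_alternatingGroup.2 e⟩, Subtype.ext hc⟩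
  · refine isConj_iff.2 ⟨⟨r * c, Perm.mem_alternatingGroup.2 (by rw [map_mul, hr, e]; decide)⟩,
      Subtype.ext ?_⟩
    show r * c * σ * (r * c)⁻¹ = (τ : Perm (Fin 9))
    calc r * c * σ * (r * c)⁻¹ = r * (c * σ * c⁻¹) * r⁻¹ := by group
      _ = τ := by rw [hc, hrτ, mul_inv_cancel_right]

/-- There are two classes of involutions. -/
theorem inv_class {σ : A9} (h2 : σ * σ = 1) (h1 : σ ≠ 1) : IsConj σ u1 ∨ IsConj σ u2 := by
  have hord : orderOf (σ : Perm (Fin 9)) = 2 := by
    rw [Subgroup.orderOf_coe]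
    exact orderOf_eq_prime (by rw [pow_two]; exact h2) h1
  obtain ⟨n, hn⟩ := Perm.cycleType_prime_order (σ := (σ : Perm (Fin 9))) (by rw [hord]; exact Nat.prime_two)
  rw [hord] at hn
  have hsum : (σ : Perm (Fin 9)).cycleType.sum ≤ 9 := by
    rw [Perm.sum_cycleType]
    exact (Finset.card_le_univ _).trans (by simp)
  rw [hn, Multiset.sum_replicate, smul_eq_mul] at hsum
  have hsgn : Perm.sign (σ : Perm (Fin 9)) = (-1) ^ (n + 1) := by
    rw [Perm.sign_of_cycleType, hn, Multiset.sum_replicate, Multiset.card_replicate, smul_eq_mul,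
      pow_add, mul_comm (n + 1) 2, pow_mul]
    simp
  rw [Perm.mem_alternatingGroup.1 σ.2] at hsgn
  obtain rfl | rfl : n = 1 ∨ n = 3 := by
    rcases (show n = 0 ∨ n = 1 ∨ n = 2 ∨ n = 3 by omega) with rfl | rfl | rfl | rfl
    all_goals first | omega | exact absurd hsgn (by decide)
  · refine Or.inl (alt_isConj σ u1 ?_ (Equiv.swap 4 5) (by decide) (by decide +kernel))
    rw [Perm.isConj_iff_cycleType_eq, hn, u1_coe]
    decide +kernel
  · refine Or.inr (alt_isConj σ u2 ?_ (Equiv.swap 5 6) (by decide) (by decide +kernel))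
    rw [Perm.isConj_iff_cycleType_eq, hn, u2_coe]
    decide +kernel

theorem card_a9 : Nat.card A9 = 181440 := by
  rw [nat_card_alternatingGroup, Nat.card_fin]
  rfl

/-- No subgroup of order sixty-four has exponent two. -/
theorem no_big_elementary (P : Subgroup A9) (hP : Nat.card P = 64) (h : ∀ x ∈ P, x * x = 1) :
    False := by
  have : Fact (Nat.Prime 2) := ⟨Nat.prime_two⟩
  let S : Sylow 2 A9 := Sylow.ofCard P (by
    rw [hP, card_a9, show (181440 : ℕ) = 2 ^ 6 * 2835 by norm_num, Nat.factorization_mul (by norm_num)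
      (by norm_num), Finsupp.add_apply, Nat.factorization_pow, Finsupp.smul_apply,
      Nat.Prime.factorization_self Nat.prime_two, Nat.factorization_eq_zero_of_not_dvd (by norm_num)]
    rfl)
  obtain ⟨x, hx4, hx2⟩ : ∃ x : A9, x * x * (x * x) = 1 ∧ x * x ≠ 1 :=
    ⟨⟨Equiv.swap 0 1 * Equiv.swap 1 2 * Equiv.swap 2 3 * Equiv.swap 4 5,
      Perm.mem_alternatingGroup.2 (by decide +kernel)⟩, Subtype.ext (by decide +kernel),
      fun e => absurd (congrArg Subtype.val e) (by decide +kernel)⟩
  have hp : IsPGroup 2 (Subgroup.zpowers x) := by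
    refine IsPGroup.of_card (n := 2) ?_
    rw [Nat.card_zpowers]
    exact orderOf_eq_prime_pow (n := 1) (by simpa [pow_two] using hx2)
      (by simpa [pow_succ, mul_assoc] using hx4)
  obtain ⟨T, hT⟩ := hp.exists_le_sylow
  obtain ⟨g, rfl⟩ := MulAction.exists_smul_eq A9 S T
  have hxg := hT (Subgroup.mem_zpowers x)
  rw [Sylow.smul_def, ← SetLike.mem_coe] at hxg
  obtain ⟨y, hy, rfl⟩ := Set.mem_smul_set.1 hxg
  refine hx2 ?_
  have hy2 : y * y = 1 := h y hy
  show MulAut.conj g y * MulAut.conj g y = 1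
  rw [← map_mul, hy2, map_one]

end Cfsg.Agent.ThLocal
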