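import Cfsg.Agent.CoOneWeak.Base
import Cfsg.Agent.ThLocal.Nine
import Cfsg.Agent.ThLocal.Orbits

/-!
An involution with centraliser `2^(1+8).A₉` in coordinates of one of the two modules.
-/

set_option autoImplicit false
set_option maxRecDepth 100000

open Cfsg Cfsg.Agent.ThreeTrans.OrthCohom Cfsg.Agent.Classical.Quad QuadraticMap Cfsg.Agent.LargeExtra
open Cfsg.Agent.CoOneType

namespace Cfsg.Agent.ThLocal

variable {G : Type*} [Group G] [Finite G]

/-- The data attached to the involution. -/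
structure ThS (z : G) extends CoOneWeak.Base z where
  /-- whether the module is the spin module -/
  sp : Bool
  /-- the image of `A₉` -/
  ρ : A9 →* O
  ρ_gen : ∀ i v, (ρ (a9 i)).1 v = dc (lap (gen sp i) (cd v).val)
  act_mem : ∀ c, c * z = z * c → act c ∈ ρ.range
  act_surj : ∀ σ, ∃ c, c * z = z * c ∧ act c = ρ σ
  cent_card : Nat.card ↥(Subgroup.centralizer ({z} : Set G)) = 512 * 181440

/-- The linear map of a word. -/
def wg (w : List (Fin 7)) : A9 := (w.map a9).prod

theorem wg_cons (i : Fin 7) (w : List (Fin 7)) : wg (i :: w) = a9 i * wg w := rfl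

theorem u1_word : wg [0, 1] = u1 := by simp [wg, u1]

theorem u2_word : wg w2 = u2 := rfl

theorem a9_inv_word : ∀ i : Fin 7, (a9 i)⁻¹ = a9 i * a9 i := fun i =>
  inv_eq_of_mul_eq_one_right (by rw [← mul_assoc]; exact a9_cube i)

theorem exists_word (σ : A9) : ∃ w, wg w = σ := by
  have h : σ ∈ Subgroup.closure (Set.range a9) := closure_a9 ▸ Subgroup.mem_top σ
  induction h using Subgroup.closure_induction with
  | mem x hx => obtain ⟨i, rfl⟩ := hx; exact ⟨[i], by simp [wg]⟩
  | one => exact ⟨[], rfl⟩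
  | mul x y _ _ ihx ihy =>
    obtain ⟨a, rfl⟩ := ihx; obtain ⟨b, rfl⟩ := ihy
    exact ⟨a ++ b, by simp [wg]⟩
  | inv x _ ih =>
    obtain ⟨a, rfl⟩ := ih
    refine ⟨a.reverse.flatMap fun i => [i, i], ?_⟩
    rename_i hx
    clear hx
    induction a with
    | nil => simp [wg]
    | cons i a ih =>
      simp only [wg, List.map_cons, List.prod_cons, mul_inv_rev, a9_inv_word, List.reverse_cons,
        List.flatMap_append, List.map_append, List.prod_append, List.flatMap_cons, List.flatMap_nil,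
        List.append_nil, List.map_nil, List.prod_nil, mul_one] at ih ⊢
      rw [ih]

namespace ThS

variable {z : G} (S : ThS z)
include S

theorem ρ_wap (w : List (Fin 7)) : ∀ i, i < 256 → (S.ρ (wg w)).1 (dc i) = dc (wap S.sp w i) := by
  induction w with
  | nil => intro i _; simp [wg, wap, oG_one_apply]
  | cons a w ih =>
    intro i hi
    rw [wg_cons, map_mul, oG_mul_apply, ih i hi, S.ρ_gen,
      show (cd (dc (wap S.sp w i))).val = wap S.sp w i from
        congrArg Fin.val (cd_dc ⟨_, wap_lt S.sp w i hi⟩)]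
    rfl

theorem ρ_cd (w : List (Fin 7)) (v : V) : (S.ρ (wg w)).1 v = dc (wap S.sp w (cd v).val) := by
  conv_lhs => rw [← dc_cd v]
  exact S.ρ_wap w _ (cd v).isLt

/-- Elements of the centraliser act through `A₉`. -/
theorem exists_act {c : G} (hc : c * z = z * c) : ∃ σ, S.ρ σ = S.act c := S.act_mem c hc

/-- Conjugating inside the centraliser. -/
theorem exists_conj (σ τ : A9) (h : IsConj σ τ) {c : G} (hc : c * z = z * c) (hσ : S.act c = S.ρ σ) :
    ∃ d, d * z = z * d ∧ S.act (d * c * d⁻¹) = S.ρ τ := by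
  obtain ⟨r, hr⟩ := isConj_iff.1 h
  obtain ⟨d, hd, hdr⟩ := S.act_surj r
  refine ⟨d, hd, ?_⟩
  rw [S.act_mul (Commute.mul_left hd hc).eq (Commute.inv_left hd).eq, S.act_mul hd hc, S.act_inv hd,
    hdr, hσ, ← map_inv, ← map_mul, ← map_mul, hr]

theorem ρ_inj : Function.Injective S.ρ := by
  rw [← MonoidHom.ker_eq_bot_iff]
  have hs : IsSimpleGroup A9 := alternatingGroup.isSimpleGroup (by simp)
  refine (Subgroup.Normal.eq_bot_or_eq_top (MonoidHom.normal_ker S.ρ)).resolve_right fun h => ?_
  have hall : ∀ v : Fin 256, lap (gen S.sp 0) v.val = v.val := by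
    intro v
    have e := S.ρ_gen 0 (dc v.val)
    rw [MonoidHom.mem_ker.1 (h ▸ Subgroup.mem_top (a9 0)), oG_one_apply, cd_dc] at e
    exact (dc_inj v.isLt (gen_lt _ 0 v) e).symm
  exact absurd hall ((by decide +kernel : ∀ sp, ¬ ∀ v : Fin 256, lap (gen sp 0) v.val = v.val) S.sp)

end ThS

end Cfsg.Agent.ThLocal
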