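import Cfsg.Agent.CoOneWeak.NoHigh
import Cfsg.Agent.ThLocal.Setting
import Cfsg.Agent.Fi24Cent.Isolation

/-!
A conjugate of `z` other than `z` lies in `O_2(C(z))`.
-/

set_option autoImplicit false
set_option maxRecDepth 100000

open Cfsg Cfsg.Agent.ThreeTrans.OrthCohom Cfsg.Agent.Classical.Quad QuadraticMap Cfsg.Agent.LargeExtra
open Cfsg.Agent.CoOneType
open Cfsg.Agent.CoOneWeak (CoW)
open scoped Cfsg.Agent.CoOneWeak

namespace Cfsg.Agent.ThLocal

/-- The word of an involution class. -/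
def iw (b : Bool) : List (Fin 7) := if b then w2 else [0, 1]

theorem nonsing_code : ∀ sp b, sp = true ∧ b = false ∨
    ∃ y : Fin 256, qn (wap sp (iw b) y.val ^^^ y.val) = true := by decide +kernel

/-- The fixed space of the first class on the spin module. -/
def u1L : List ℕ := [0, 1, 4, 5, 32, 33, 36, 37, 128, 129, 132, 133, 160, 161, 164, 165]

/-- Words centralising the first class. -/
def mv1 : List (List (Fin 7)) := [[2, 0, 3, 1, 2], [2, 0, 4, 1, 2]]

theorem u1_code : (∀ v : Fin 256, wap true [0, 1] v.val ^^^ v.val ∈ u1L) ∧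
    (∀ v ∈ u1L, v < 256 ∧ wap true [0, 1] v = v ∧ ∃ y : Fin 256, wap true [0, 1] y.val ^^^ y.val = v) ∧
    (∀ v : Fin 256, wap true [0, 1] v.val = v.val → v.val ∈ u1L) ∧
    ∀ w : Fin 256, (∀ p ∈ u1L, Bn p w.val = false) → w.val ∈ u1L := by
  decide +kernel

theorem mv1_comm : ∀ w ∈ mv1, wg w * u1 = u1 * wg w := by
  simp only [Subtype.ext_iff]; decide +kernel

theorem mv1_code : ∀ d ∈ u1L, d ≠ 0 → ∃ w ∈ mv1, wap true w d ≠ d ∧ wap true w d ∈ u1L ∧
    ∀ y : Fin 256, wap true [0, 1] y.val ^^^ y.val = d → Bn y.val (wap true w d) = false := by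
  decide +kernel

theorem iw_spec : wg (iw false) = u1 ∧ wg (iw true) = u2 := ⟨u1_word, u2_word⟩

variable {G : Type*} [Group G] [Finite G] {z : G}

/-- The coordinates when no other conjugate of `z` lies in `O_2(C(z))`. -/
def ThS.toCoW (S : ThS z) (hw : ∀ g : G, g * z * g⁻¹ ∈ oc z → g * z * g⁻¹ = z) : CoW z where
  toBase := S.toBase
  weak := hw

/-- No common element lies over the commutator space. -/
theorem ThS.nr (S : ThS z) (hw : ∀ g : G, g * z * g⁻¹ ∈ oc z → g * z * g⁻¹ = z) : (S.toCoW hw).NR := by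
  intro g O' d hd hd' y hy
  set T := S.toCoW hw
  obtain ⟨σ, hσ⟩ := S.exists_act O'.comm
  have h2 : σ * σ = 1 := S.ρ_inj (by
    rw [map_mul, map_one, hσ]; exact CoW.act_sq O')
  have h1 : σ ≠ 1 := fun e => CoW.act_ne O' (by
    show S.act _ = 1
    rw [← hσ, e, map_one])
  obtain ⟨b, hb⟩ : ∃ b, IsConj σ (wg (iw b)) := by
    rcases inv_class h2 h1 with h | h
    exacts [⟨false, iw_spec.1 ▸ h⟩, ⟨true, iw_spec.2 ▸ h⟩]
  obtain ⟨c, hc, hce⟩ := S.exists_conj σ _ hb O'.comm hσ.symm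
  obtain ⟨O₂, hact⟩ := CoW.shift O' hc
  have hu : T.act (cj z (c * g)) = S.ρ (wg (iw b)) := by
    rw [← hce]
    show S.act _ = S.act _
    congr 1; group
  by_contra h0
  have hd2 : c * d * c⁻¹ ∈ oc z := T.nrm hc hd
  have hd2' : c * d * c⁻¹ ∈ oc (cj z (c * g)) := by
    have h := conj_mem_oc (g := c) hd'
    rwa [show c * cj z g * c⁻¹ = cj z (c * g) by group] at h
  have h02 : T.pr (c * d * c⁻¹) ≠ 0 := fun e => h0 ((T.act c).1.map_eq_zero_iff.1
    (by rw [← T.act_spec c hc d hd, e]))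
  have hy2 : (T.act (cj z (c * g))).1 ((T.act c).1 y) + (T.act c).1 y = T.pr (c * d * c⁻¹) := by
    rw [hact, oG_mul_apply, oG_mul_apply, oG_inv_apply, ← map_add, hy, T.act_spec c hc d hd]
  set u := T.act (cj z (c * g))
  have hall := fun x hx => CoW.all_cn O₂ hd2 hd2' h02 hy2 (x := x) hx
  have hns : ∀ v, qP 4 (u.1 v + v) = 0 := by
    intro v
    refine (CoOneType.zmod_cases _).resolve_right fun h => CoW.not_cn_range O₂ v h (hall _ ?_)
    have hsq : u * u = 1 := CoW.act_sq O₂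
    rw [map_add, ← oG_mul_apply, hsq, oG_one_apply, add_comm]
  rcases nonsing_code S.sp b with ⟨hsp, rfl⟩ | ⟨v, hv⟩
  swap
  · have h := hns (dc v.val)
    rw [hu, S.ρ_wap _ _ v.isLt, ← dc_xor,
      q_dc (xor_lt (wap_lt _ _ _ v.isLt) v.isLt), hv] at h
    exact one_ne_zero h
  obtain ⟨himg, hfix, hfixU, hperp⟩ := u1_code
  have huw : ∀ i, i < 256 → u.1 (dc i) = dc (wap true [0, 1] i) := fun i hi => by
    rw [hu, S.ρ_wap _ _ hi, hsp]; rfl
  have hucd : ∀ x, u.1 x = dc (wap true [0, 1] (cd x).val) := fun x => by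
    conv_lhs => rw [← dc_cd x]
    exact huw _ (cd x).isLt
  have hrange : ∀ x, (cd (u.1 x + x)).val ∈ u1L := by
    intro x
    have e : u.1 x + x = dc (wap true [0, 1] (cd x).val ^^^ (cd x).val) := by rw [dc_xor, dc_cd, ← hucd]
    rw [e, show (cd (dc (wap true [0, 1] (cd x).val ^^^ (cd x).val))).val = _ from
      congrArg Fin.val (cd_dc ⟨_, xor_lt (wap_lt _ _ _ (cd x).isLt) (cd x).isLt⟩)]
    exact himg _
  have hofmem : ∀ x, (cd x).val ∈ u1L → ∃ w, u.1 w + w = x := by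
    intro x hx
    obtain ⟨-, -, w, hw⟩ := hfix _ hx
    exact ⟨dc w.val, by rw [huw _ w.isLt, ← dc_xor, hw, dc_cd]⟩
  have hpf : ∀ w : V, (∀ p : V, u.1 p = p → Bp p w = 0) → ∃ x, u.1 x + x = w := by
    intro w h
    refine hofmem w (hperp _ fun p hp => ?_)
    obtain ⟨hp256, hpf, -⟩ := hfix p hp
    rw [← CoOneType.bz_eq_zero, ← Bp_dc hp256 (cd w).isLt, dc_cd]
    exact h _ (by rw [huw _ hp256, hpf])
  have hU : (cd (T.pr (c * d * c⁻¹))).val ∈ u1L := hy2 ▸ hrange _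
  obtain ⟨w, hw', hne, hmem, hB⟩ := mv1_code _ hU fun e => h02 (by rw [← dc_cd (T.pr _), e, dc_zero])
  obtain ⟨e', hez, hea⟩ := S.act_surj (wg w)
  obtain ⟨c', hcz, hcs, hca⟩ := CoW.exists_lift_of O₂ hpf hd2 hd2' h02 hy2 (S.ρ (wg w)) ⟨e', hez, hea⟩
    (fun x => by
      rw [show T.act (cj z (c * g)) = S.ρ (wg (iw false)) from hu, iw_spec.1, ← oG_mul_apply,
        ← oG_mul_apply, ← map_mul, ← map_mul, mv1_comm w hw'])
  set d2 := c * d * c⁻¹
  have hlt : wap true w (cd (T.pr d2)).val < 256 := wap_lt _ _ _ (cd _).isLt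
  have hp : T.pr (c' * d2 * c'⁻¹) = dc (wap true w (cd (T.pr d2)).val) := by
    rw [T.act_spec c' hcz _ hd2, hca, S.ρ_cd, hsp]
  obtain ⟨y', hy'⟩ := hofmem (T.pr (c' * d2 * c'⁻¹)) (by
    rw [hp, show (cd (dc (wap true w (cd (T.pr d2)).val))).val = _ from congrArg Fin.val (cd_dc ⟨_, hlt⟩)]
    exact hmem)
  have h1 := CoW.d_pair O₂ hd2 hd2' (T.nrm hcz hd2) (CoW.conj_oc O₂ hcs hd2') h02
    (fun e => h02 ((T.act c').1.map_eq_zero_iff.1 (by rw [← T.act_spec c' hcz _ hd2, e])))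
    (fun e => hne (by
      have h := congrArg (fun v => (cd v).val) (e.trans hp)
      rw [show (cd (dc (wap true w (cd (T.pr d2)).val))).val = _ from congrArg Fin.val (cd_dc ⟨_, hlt⟩)] at h
      exact h.symm))
    hy2 hy'
  rw [hp, ← dc_cd ((T.act c).1 y), Bp_dc (cd _).isLt hlt, hB (cd _) (by
    refine dc_inj (xor_lt (wap_lt _ _ _ (cd _).isLt) (cd _).isLt) (cd _).isLt ?_
    rw [dc_xor, dc_cd, dc_cd, ← hucd, hy2])] at h1
  exact zero_ne_one h1

/-- A conjugate of `z` other than `z` lies in `O_2(C(z))`. -/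
theorem ThS.nwc (S : ThS z) (hne : Subgroup.centralizer ({z} : Set G) ⊔ oddCore G ≠ ⊤) :
    ∃ g : G, g * z * g⁻¹ ∈ oc z ∧ g * z * g⁻¹ ≠ z := by
  by_contra hno
  push Not at hno
  refine hne (Fi24Cent.centralizer_sup_oddCore ⟨S.sett.ord, fun g hg => ?_⟩)
  by_contra hgne
  exact CoW.no_out (S.nr hno) (S := S.toCoW hno) (g := g) ⟨hg.symm.eq, fun hm => hgne (hno g hm)⟩

end Cfsg.Agent.ThLocal
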