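import Cfsg.Agent.ThLocal.Frame
import Cfsg.Agent.ThLocal.NoRange

/-!
The permutation module does not occur, and the common part of the two extraspecial groups.
-/

set_option autoImplicit false
set_option maxRecDepth 100000

open Cfsg Cfsg.Agent.ThreeTrans.OrthCohom Cfsg.Agent.Classical.Quad QuadraticMap Cfsg.Agent.LargeExtra
open Cfsg.Agent.CoOneType

namespace Cfsg.Agent.ThLocal

/-- The maximal singular subspace attached to the first code. -/
def W0L : List ℕ := [0, 1, 2, 3, 64, 65, 66, 67, 128, 129, 130, 131, 192, 193, 194, 195]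

/-- The maximal singular subspace attached to a singular code of the spin module. -/
def WL (p : ℕ) : List ℕ := W0L.map (wap true (wdOf true p))

/-- Words fixing the base code which separate the singular perpendicular codes. -/
def sepL (sp : Bool) (p : ℕ) : List (List (Fin 7)) :=
  if sp then [[5, 3, 4, 0, 2, 1, 0], [4, 2, 1, 0, 5, 3, 1, 0]]
  else if p = 1 then [[2, 0, 0], [3, 6, 5, 3, 1]] else [[0], [2, 0, 1]]

/-- Words fixing the first code which generate the subspace. -/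
def genL : List (List (Fin 7)) := [[4, 3, 2, 0], [0, 1]]

theorem sepL_fix : ∀ w ∈ sepL true 1, wap true w 1 = 1 := by decide +kernel

theorem sepL_fixA : ∀ p ∈ [1, 8], ∀ w ∈ sepL false p, wap false w p = p := by decide +kernel

theorem sep_codeA : ∀ p ∈ [1, 8], ∀ v : Fin 256, v.val ≠ 0 → v.val ≠ p → qn v.val = false →
    Bn v.val p = false → ∃ w ∈ sepL false p, Bn v.val (wap false w v.val) = true := by
  decide +kernel

theorem sep_codeB : ∀ v : Fin 256, v.val ∉ W0L → qn v.val = false → Bn v.val 1 = false →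
    ∃ w ∈ sepL true 1, Bn v.val (wap true w v.val) = true := by
  decide +kernel

/-- Close a list under sums and the two words. -/
def cloS : ℕ → List ℕ → List ℕ
  | 0, L => L
  | n + 1, L => cloS n (((L.flatMap fun a => L.map fun b => a ^^^ b) ++
      (genL.flatMap fun w => L.map (wap true w)) ++ L).eraseDups)

theorem genL_fix : ∀ w ∈ genL, wap true w 1 = 1 := by decide +kernel

theorem gen_code : ∀ v ∈ W0L, v ≠ 0 → v ≠ 1 → ∀ u ∈ W0L, u ∈ cloS 4 [0, 1, v] := by
  decide +kernel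

theorem W0_perp : ∀ v : Fin 256, (∀ u ∈ W0L, Bn v.val u = false) → v.val ∈ W0L := by
  decide +kernel

theorem W0_lt : ∀ u ∈ W0L, u < 256 := by decide +kernel

theorem pair_code : (∀ u ∈ [2, 32], qn u = false ∧ Bn u 1 = false ∧ u < 256) ∧ Bn 2 32 = true := by
  decide +kernel

theorem orbit_one {p : Fin 256} (h0 : p.val ≠ 0) (hq : qn p.val = false) :
    wap true (wdOf true p.val) 1 = p.val := by
  have h := orbitB_code p h0
  rwa [hq] at h

variable {G : Type*} [Group G] [Finite G] {z : G}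

namespace ThS

theorem cd_wap (S : ThS z) (w : List (Fin 7)) (v : V) :
    (cd ((S.ρ (wg w)).1 v)).val = wap S.sp w (cd v).val := by
  rw [S.ρ_cd]
  exact congrArg Fin.val (cd_dc ⟨_, wap_lt _ _ _ (cd v).isLt⟩)

theorem cd_eq {v : V} {i : ℕ} (hi : i < 256) (h : v = dc i) : (cd v).val = i :=
  h ▸ congrArg Fin.val (cd_dc ⟨i, hi⟩)

theorem code_B {u v : V} (h : Bp u v = 0) : Bn (cd u).val (cd v).val = false := by
  rw [← CoOneType.bz_eq_zero, ← Bp_dc (cd u).isLt (cd v).isLt, dc_cd, dc_cd]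
  exact h

theorem code_q {v : V} (h : qP 4 v = 0) : qn (cd v).val = false := by
  rw [← CoOneType.bz_eq_zero, ← q_dc (cd v).isLt, dc_cd]
  exact h

theorem code_ne {v : V} (h : v ≠ 0) : (cd v).val ≠ 0 := fun e => h (by rw [← dc_cd v, e, dc_zero])

namespace Pair

variable {S : ThS z} {x : G} (F : S.Pair x)
include F

/-- The common part is invariant under the fixed-point subgroup of the vector of `x`. -/
theorem inter_move {w : List (Fin 7)} (hw : wap S.sp w (cd (S.pr x)).val = (cd (S.pr x)).val)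
    {k : G} (hk : k ∈ oc z) (hk' : k ∈ oc x) :
    ∃ l, l ∈ oc z ∧ l ∈ oc x ∧ (cd (S.pr l)).val = wap S.sp w (cd (S.pr k)).val := by
  obtain ⟨c, hcz, hcx, hca⟩ := F.exists_stab (wg w) (by rw [S.ρ_cd, hw, dc_cd])
  exact ⟨c * k * c⁻¹, S.nrm hcz hk, F.nrm_x hcx hk', by
    rw [S.act_spec c hcz k hk, hca, cd_wap]⟩

theorem inter_sep {w : List (Fin 7)} (hw : wap S.sp w (cd (S.pr x)).val = (cd (S.pr x)).val)
    {k : G} (hk : k ∈ oc z) (hk' : k ∈ oc x) :
    Bn (cd (S.pr k)).val (wap S.sp w (cd (S.pr k)).val) = false := by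
  obtain ⟨l, hl, hl', e⟩ := F.inter_move hw hk hk'
  rw [← e]
  exact code_B ((S.commute_iff hk hl).1 (F.inter_comm hk hk' hl hl'))

/-- The part of `O_2(C(x))` centralising `z` is not commutative. -/
theorem noncomm (hT : S.sp = true) :
    ∃ a b, a ∈ oc x ∧ b ∈ oc x ∧ a * z = z * a ∧ b * z = z * b ∧ a * b ≠ b * a := by
  obtain ⟨T, hsp, P⟩ := F.symm
  set w := wdOf true (cd (T.pr z)).val
  have hone : (T.ρ (wg w)).1 (dc 1) = T.pr z := by
    rw [T.ρ_wap _ 1 (by norm_num), hsp, hT, orbit_one (code_ne P.pr_ne) (code_q P.sing), dc_cd]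
  obtain ⟨hcode, h232⟩ := pair_code
  obtain ⟨a, ha, hae⟩ := T.pr_surj ((T.ρ (wg w)).1 (dc 2))
  obtain ⟨b, hb, hbe⟩ := T.pr_surj ((T.ρ (wg w)).1 (dc 32))
  have hperp : ∀ u ∈ [2, 32], Bp ((T.ρ (wg w)).1 (dc u)) (T.pr z) = 0 := fun u hu => by
    rw [← hone, polar_g, Bp_dc (hcode u hu).2.2 (by norm_num), (hcode u hu).2.1]; rfl
  refine ⟨a, b, ha, hb, (T.commute_iff ha F.zmem).2 (hae ▸ hperp 2 (by simp)),
    (T.commute_iff hb F.zmem).2 (hbe ▸ hperp 32 (by simp)), fun h => ?_⟩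
  have h' := (T.commute_iff ha hb).1 h
  rw [hae, hbe, polar_g, Bp_dc (by norm_num) (by norm_num), h232] at h'
  exact one_ne_zero h'

/-- The common part is not generated by `z` and `x`. -/
theorem small_false (h : ∀ k, k ∈ oc z → k ∈ oc x → S.pr k = 0 ∨ S.pr k = S.pr x) : False := by
  classical
  obtain ⟨T, -, P⟩ := F.symm
  set X : Subgroup G := oc x ⊓ Subgroup.centralizer ({z} : Set G)
  have hX : Nat.card X = 256 := T.card_comm F.zmem P.pr_ne
  have hc : ∀ y : X, (y : G) * z = z * y := fun y => Subgroup.mem_centralizer_singleton_iff.1 y.2.2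
  let f : X →* A9 := MonoidHom.mk' (fun y => S.sig y.1) fun y y' => S.sig_mul (hc y) (hc y')
  have hxz : x * z ≠ 1 ∧ x * z ≠ z ∧ x * z ≠ x := ⟨
    fun e => F.ne ((mul_eq_one_iff_eq_inv.1 e).trans (inv_eq_of_mul_eq_one_right S.zz)),
    fun e => F.x_ne (mul_eq_right.1 e), fun e => S.zne (mul_eq_left.1 e)⟩
  have hkmem : ∀ a ∈ ({1, z, x, x * z} : Finset G), a ∈ oc z ∧ a ∈ oc x := by
    simp only [Finset.mem_insert, Finset.mem_singleton]
    rintro a (rfl | rfl | rfl | rfl)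
    exacts [⟨one_mem _, one_mem _⟩, ⟨S.zmem, F.zmem⟩, F.mem_both,
      ⟨mul_mem F.mem S.zmem, mul_mem F.mem_both.2 F.zmem⟩]
  have hker : Nat.card f.ker = 4 := by
    have hi : Function.Injective fun y : f.ker => (y.1.1 : G) := fun y y' e => Subtype.ext (Subtype.ext e)
    rw [← Set.ncard_range_of_injective hi]
    have hr : Set.range (fun y : f.ker => (y.1.1 : G)) = (({1, z, x, x * z} : Finset G) : Set G) := by
      ext a
      constructor
      · rintro ⟨y, rfl⟩
        have hy : y.1.1 ∈ oc z := (S.sig_one_iff (hc y.1)).1 (MonoidHom.mem_ker.1 y.2)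
        simp only [Finset.coe_insert, Finset.coe_singleton, Set.mem_insert_iff, Set.mem_singleton_iff]
        rcases h _ hy y.1.2.1 with e | e
        · rcases S.pr_ker _ hy e with e | e
          exacts [Or.inl e, Or.inr (Or.inl e)]
        · rcases S.pr_eq F.mem hy e.symm with e | e
          exacts [Or.inr (Or.inr (Or.inl e)), Or.inr (Or.inr (Or.inr e))]
      · intro ha
        obtain ⟨h1, h2⟩ := hkmem a ha
        refine ⟨⟨⟨a, h2, Subgroup.mem_centralizer_singleton_iff.2 (S.comm h1)⟩, ?_⟩, rfl⟩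
        exact MonoidHom.mem_ker.2 ((S.sig_one_iff (S.comm h1)).2 h1)
    rw [hr, Set.ncard_coe_finset, Finset.card_insert_of_notMem, Finset.card_insert_of_notMem,
      Finset.card_insert_of_notMem, Finset.card_singleton]
    · simpa using hxz.2.2.symm
    · simp [F.ne.symm, hxz.2.1.symm]
    · simp [S.zne.symm, F.x_ne.symm, hxz.1.symm]
  have hm := f.ker.card_mul_index
  rw [hker, Subgroup.index_ker, hX] at hm
  refine no_big_elementary f.range (by omega) ?_
  rintro _ ⟨y, rfl⟩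
  rw [← map_mul]
  refine (S.sig_one_iff (hc (y * y))).2 ?_
  have hsq := T.pr_sq y.1 y.2.1
  show y.1 * y.1 ∈ oc z
  rw [hsq]
  rcases zmod_cases (qP 4 (T.pr y.1)) with e | e <;> rw [e]
  · rw [zp_zero]; exact one_mem _
  · rw [zp_one]; exact F.mem

end Pair

theorem dc_cases {p : ℕ} {v : V} (h : v ≠ 0) (hne : v ≠ dc p) :
    (cd v).val ≠ 0 ∧ (cd v).val ≠ p :=
  ⟨code_ne h, fun e => hne (by rw [← dc_cd v, e])⟩

/-- The module is the spin module. -/
theorem spin (S : ThS z) {x : G} (F : S.Pair x) : S.sp = true := by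
  by_contra hsp
  rw [Bool.not_eq_true] at hsp
  set w := wdOf S.sp (cd (S.pr x)).val
  obtain ⟨p, hp, hpe⟩ : ∃ p ∈ [1, 8], wap S.sp w p = (cd (S.pr x)).val := by
    have hw : w = wdOf false (cd (S.pr x)).val := congrArg (fun b => wdOf b (cd (S.pr x)).val) hsp
    rcases orbitA_code _ (code_ne F.pr_ne) (code_q F.sing) with e | e
    · exact ⟨1, by simp, by rw [hw, hsp]; exact e⟩
    · exact ⟨8, by simp, by rw [hw, hsp]; exact e⟩
  have hp256 : p < 256 := by simp at hp; omega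
  obtain ⟨c, hc, hca⟩ := S.act_surj (wg w)
  have hci := (Commute.inv_left hc).eq
  have F' := F.conjugate hci
  have hpr : S.pr (c⁻¹ * x * c⁻¹⁻¹) = dc p := by
    have hx : (S.act c).1 (dc p) = S.pr x := by rw [hca, S.ρ_wap _ _ hp256, hpe, dc_cd]
    rw [F.pr_conjugate hci, S.act_inv hc, ← hx, oG_inv_apply]
  set x' := c⁻¹ * x * c⁻¹⁻¹
  refine F'.small_false fun k hk hk' => ?_
  by_contra hno
  rw [not_or, hpr] at hno
  obtain ⟨hq, hB⟩ := F'.inter_sing hk hk'
  rw [hpr] at hB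
  obtain ⟨h1, h2⟩ := dc_cases hno.1 hno.2
  have hB' : Bn (cd (S.pr k)).val p = false := by
    have := code_B hB
    rwa [cd_eq hp256 rfl] at this
  obtain ⟨w', hw', hb⟩ := sep_codeA p hp _ h1 h2 (code_q hq) hB'
  have := F'.inter_sep (w := w') (by rw [hpr, cd_eq hp256 rfl, hsp]; exact sepL_fixA p hp w' hw') hk hk'
  rw [hsp] at this
  exact Bool.false_ne_true (this.symm.trans hb)

namespace Pair

variable {S : ThS z} {x : G} (F : S.Pair x)
include F

theorem sp_true : S.sp = true := S.spin F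

theorem mem_W0 (hp : S.pr x = dc 1) {a : G} (ha : a ∈ oc z) :
    a ∈ oc x ↔ (cd (S.pr a)).val ∈ W0L := by
  have hsp := F.sp_true
  have hc1 : (cd (S.pr x)).val = 1 := cd_eq (by norm_num) hp
  have hle : ∀ k, k ∈ oc z → k ∈ oc x → (cd (S.pr k)).val ∈ W0L := by
    intro k hk hk'
    by_contra hno
    obtain ⟨hq, hB⟩ := F.inter_sing hk hk'
    obtain ⟨w', hw', hb⟩ := sep_codeB _ hno (code_q hq) (hc1 ▸ code_B hB)
    have := F.inter_sep (w := w') (by rw [hc1, hsp]; exact sepL_fix w' hw') hk hk'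
    rw [hsp] at this
    exact Bool.false_ne_true (this.symm.trans hb)
  refine ⟨hle a ha, fun hW => ?_⟩
  obtain ⟨k, hk, hk', hk0, hk1⟩ : ∃ k, k ∈ oc z ∧ k ∈ oc x ∧ S.pr k ≠ 0 ∧ S.pr k ≠ S.pr x := by
    by_contra hno
    push Not at hno
    exact F.small_false fun k hk hk' => or_iff_not_imp_left.2 (hno k hk hk')
  set P : ℕ → Prop := fun u => ∃ l, l ∈ oc z ∧ l ∈ oc x ∧ (cd (S.pr l)).val = u
  have hclo : ∀ n L, (∀ u ∈ L, P u) → ∀ u ∈ cloS n L, P u := by
    intro n
    induction n with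
    | zero => exact fun L hL => hL
    | succ n ih =>
      intro L hL
      refine ih _ fun u hu => ?_
      simp only [List.mem_eraseDups, List.mem_append, List.mem_flatMap, List.mem_map] at hu
      rcases hu with (⟨a, ha, b, hb, rfl⟩ | ⟨w, hw, a, ha, rfl⟩) | hu
      · obtain ⟨l, hl, hl', rfl⟩ := hL a ha
        obtain ⟨m, hm, hm', rfl⟩ := hL b hb
        refine ⟨l * m, mul_mem hl hm, mul_mem hl' hm', ?_⟩
        rw [S.pr_mul l hl m hm]
        refine cd_eq (xor_lt (cd _).isLt (cd _).isLt) ?_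
        rw [dc_xor, dc_cd, dc_cd]
      · obtain ⟨l, hl, hl', rfl⟩ := hL a ha
        obtain ⟨m, hm, hm', e⟩ := F.inter_move (w := w) (by rw [hc1, hsp]; exact genL_fix w hw) hl hl'
        exact ⟨m, hm, hm', hsp ▸ e⟩
      · exact hL u hu
  obtain ⟨l, hl, hl', e⟩ := hclo 4 [0, 1, (cd (S.pr k)).val] (by
    simp only [List.mem_cons, List.not_mem_nil, or_false]
    rintro u (rfl | rfl | rfl)
    · exact ⟨1, one_mem _, one_mem _, cd_eq (by norm_num) (by rw [S.pr_one, dc_zero])⟩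
    · exact ⟨x, F.mem, F.mem_both.2, hc1⟩
    · exact ⟨k, hk, hk', rfl⟩) _ (gen_code _ (hle k hk hk') (code_ne hk0)
      (fun e => hk1 (by rw [hp, ← dc_cd (S.pr k), e])) _ hW)
  exact F.inter_of_pr ha hl hl' (by rw [← dc_cd (S.pr a), ← e, dc_cd])

/-- The common part of the two extraspecial groups. -/
theorem mem_iff {a : G} (ha : a ∈ oc z) :
    a ∈ oc x ↔ (cd (S.pr a)).val ∈ WL (cd (S.pr x)).val := by
  have hsp := F.sp_true
  set w := wdOf true (cd (S.pr x)).val
  have hpe : wap true w 1 = (cd (S.pr x)).val := orbit_one (code_ne F.pr_ne) (code_q F.sing)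
  obtain ⟨c, hc, hca⟩ := S.act_surj (wg w)
  have hci := (Commute.inv_left hc).eq
  have F' := F.conjugate hci
  have hb : ∀ u : V, (cd u).val = wap true w (cd ((S.act c⁻¹).1 u)).val := fun u => by
    have := cd_wap S w ((S.act c⁻¹).1 u)
    rw [S.act_inv hc] at this ⊢
    rwa [hsp, ← hca, oG_apply_inv] at this
  have hp1 : S.pr (c⁻¹ * x * c⁻¹⁻¹) = dc 1 := by
    have hx : (S.act c).1 (dc 1) = S.pr x := by
      rw [hca, S.ρ_wap _ _ (by norm_num), hsp, hpe, dc_cd]
    rw [F.pr_conjugate hci, S.act_inv hc, ← hx, oG_inv_apply]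
  have h := F'.mem_W0 hp1 (S.nrm hci ha)
  rw [S.act_spec _ hci a ha] at h
  have hm : a ∈ oc x ↔ c⁻¹ * a * c⁻¹⁻¹ ∈ oc (c⁻¹ * x * c⁻¹⁻¹) := by
    refine ⟨fun e => conj_mem_oc e, fun e => ?_⟩
    have := conj_mem_oc (g := c) e
    rwa [show c * (c⁻¹ * x * c⁻¹⁻¹) * c⁻¹ = x by group,
      show c * (c⁻¹ * a * c⁻¹⁻¹) * c⁻¹ = a by group] at this
  rw [hm, h, hb (S.pr a)]
  refine ⟨fun e => List.mem_map_of_mem e, fun e => ?_⟩
  obtain ⟨u, hu, e'⟩ := List.mem_map.1 e
  have hu256 := W0_lt u hu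
  have hu' : (S.ρ (wg w)).1 (dc u) = (S.ρ (wg w)).1 ((S.act c⁻¹).1 (S.pr a)) := by
    rw [S.ρ_wap w u hu256, S.ρ_cd, hsp, e']
  rw [cd_eq hu256 ((S.ρ (wg w)).1.injective hu').symm]
  exact hu

end Pair

end ThS

end Cfsg.Agent.ThLocal
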