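import Cfsg.Agent.ThLocal.Setting

/-!
A conjugate of the involution inside `O_2` of its centraliser.
-/

set_option autoImplicit false
set_option maxRecDepth 100000

open Cfsg Cfsg.Agent.ThreeTrans.OrthCohom Cfsg.Agent.Classical.Quad QuadraticMap Cfsg.Agent.LargeExtra
open Cfsg.Agent.CoOneType

namespace Cfsg.Agent.ThLocal

variable {G : Type*} [Group G] [Finite G] {z : G}

namespace ThS

theorem conj_back {g x a : G} (hg : g * z * g⁻¹ = x) (ha : a ∈ oc x) : g⁻¹ * a * g ∈ oc z := by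
  have h := conj_mem_oc (g := g⁻¹) ha
  rwa [show g⁻¹ * x * g⁻¹⁻¹ = z by rw [← hg]; group, inv_inv] at h

theorem comm_back {g x c : G} (hg : g * z * g⁻¹ = x) (hc : c * x = x * c) :
    g⁻¹ * c * g * z = z * (g⁻¹ * c * g) := by
  calc g⁻¹ * c * g * z = g⁻¹ * (c * (g * z * g⁻¹)) * g := by group
    _ = z * (g⁻¹ * c * g) := by rw [hg, hc, ← hg]; group

theorem comm_conj {g x c : G} (hg : g * z * g⁻¹ = x) (hc : c * z = z * c) :
    g * c * g⁻¹ * x = x * (g * c * g⁻¹) := by
  calc g * c * g⁻¹ * x = g * (c * z) * g⁻¹ := by rw [← hg]; group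
    _ = x * (g * c * g⁻¹) := by rw [hc, ← hg]; group

/-- The coordinates at a conjugate. -/
noncomputable def atConj (S : ThS z) (g x : G) (hg : g * z * g⁻¹ = x) : ThS x where
  sett := hg ▸ S.sett.conj g
  pr a := S.pr (g⁻¹ * a * g)
  pr_mul a ha b hb := by
    rw [show g⁻¹ * (a * b) * g = g⁻¹ * a * g * (g⁻¹ * b * g) by group,
      S.pr_mul _ (conj_back hg ha) _ (conj_back hg hb)]
  pr_ker a ha h := by
    rcases S.pr_ker _ (conj_back hg ha) h with e | e
    · left
      calc a = g * (g⁻¹ * a * g) * g⁻¹ := by group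
        _ = 1 := by rw [e]; group
    · right
      calc a = g * (g⁻¹ * a * g) * g⁻¹ := by group
        _ = x := by rw [e, hg]
  pr_z := by rw [show g⁻¹ * x * g = z by rw [← hg]; group]; exact S.pr_z
  pr_surj v := by
    obtain ⟨b, hb, rfl⟩ := S.pr_surj v
    exact ⟨g * b * g⁻¹, hg ▸ conj_mem_oc hb, congrArg S.pr (by group)⟩
  pr_sq a ha := by
    have h := S.pr_sq _ (conj_back hg ha)
    calc a * a = g * (g⁻¹ * a * g * (g⁻¹ * a * g)) * g⁻¹ := by group
      _ = g * zp z (qP 4 (S.pr (g⁻¹ * a * g))) * g⁻¹ := by rw [h]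
      _ = _ := by
        rcases zmod_cases (qP 4 (S.pr (g⁻¹ * a * g))) with e | e <;> rw [e]
        · rw [zp_zero, zp_zero]; group
        · rw [zp_one, zp_one, hg]
  act c := S.act (g⁻¹ * c * g)
  act_spec c hc a ha := by
    rw [← S.act_spec _ (comm_back hg hc) _ (conj_back hg ha)]
    congr 1; group
  act_even c hc := S.act_even _ (comm_back hg hc)
  act_ker c hc h := by
    have h1 := conj_mem_oc (g := g) (S.act_ker _ (comm_back hg hc) h)
    rwa [hg, show g * (g⁻¹ * c * g) * g⁻¹ = c by group] at h1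
  sp := S.sp
  ρ := S.ρ
  ρ_gen := S.ρ_gen
  act_mem c hc := S.act_mem _ (comm_back hg hc)
  act_surj σ := by
    obtain ⟨c, hc, hcs⟩ := S.act_surj σ
    exact ⟨g * c * g⁻¹, comm_conj hg hc, by
      rw [show g⁻¹ * (g * c * g⁻¹) * g = c by group]; exact hcs⟩
  cent_card := by
    rw [← S.cent_card]
    exact Nat.card_congr
      { toFun := fun c => ⟨g⁻¹ * c.1 * g, Subgroup.mem_centralizer_singleton_iff.2
          (comm_back hg (Subgroup.mem_centralizer_singleton_iff.1 c.2))⟩
        invFun := fun c => ⟨g * c.1 * g⁻¹, Subgroup.mem_centralizer_singleton_iff.2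
          (comm_conj hg (Subgroup.mem_centralizer_singleton_iff.1 c.2))⟩
        left_inv := fun c => Subtype.ext (by simp [mul_assoc])
        right_inv := fun c => Subtype.ext (by simp [mul_assoc]) }

variable (S : ThS z)
include S

/-- The permutation induced by an element of the centraliser. -/
noncomputable def sig (c : G) : A9 :=
  haveI := Classical.propDecidable (c * z = z * c)
  if h : c * z = z * c then (S.exists_act h).choose else 1

theorem ρ_sig {c : G} (hc : c * z = z * c) : S.ρ (S.sig c) = S.act c := by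
  rw [sig, dif_pos hc]
  exact (S.exists_act hc).choose_spec

theorem sig_eq {c : G} (hc : c * z = z * c) {σ : A9} (h : S.act c = S.ρ σ) : S.sig c = σ :=
  S.ρ_inj (by rw [S.ρ_sig hc, h])

theorem act_sig {c : G} {σ : A9} (hc : c * z = z * c) (h : S.sig c = σ) : S.act c = S.ρ σ := by
  rw [← h, S.ρ_sig hc]

theorem sig_mul {c d : G} (hc : c * z = z * c) (hd : d * z = z * d) :
    S.sig (c * d) = S.sig c * S.sig d :=
  S.sig_eq (Commute.mul_left hc hd).eq (by rw [S.act_mul hc hd, map_mul, S.ρ_sig hc, S.ρ_sig hd])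

theorem sig_one_iff {c : G} (hc : c * z = z * c) : S.sig c = 1 ↔ c ∈ oc z := by
  constructor
  · exact fun h => S.act_ker c hc (by rw [S.act_sig hc h, map_one])
  · exact fun h => S.sig_eq hc (by rw [S.act_inner h, map_one])

theorem sig_inv {c : G} (hc : c * z = z * c) : S.sig c⁻¹ = (S.sig c)⁻¹ :=
  S.sig_eq (Commute.inv_left hc).eq (by rw [S.act_inv hc, map_inv, S.ρ_sig hc])

theorem sig_conj {c d : G} (hc : c * z = z * c) (hd : d * z = z * d) :
    S.sig (c * d * c⁻¹) = S.sig c * S.sig d * (S.sig c)⁻¹ := by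
  rw [S.sig_mul (Commute.mul_left hc hd).eq (Commute.inv_left hc).eq, S.sig_mul hc hd, S.sig_inv hc]

/-- An element of the centraliser moving the permutation to a given conjugate. -/
theorem exists_sig_conj {d : G} (hd : d * z = z * d) {τ : A9} (h : IsConj (S.sig d) τ) :
    ∃ c, c * z = z * c ∧ S.sig (c * d * c⁻¹) = τ := by
  obtain ⟨r, hr⟩ := isConj_iff.1 h
  obtain ⟨c, hc, hca⟩ := S.act_surj r
  exact ⟨c, hc, by rw [S.sig_conj hc hd, S.sig_eq hc hca]; exact hr⟩

theorem card_oc : Nat.card ↥(oc z) = 512 := by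
  classical
  let f : ↥(oc z) →* Multiplicative V := MonoidHom.mk' (fun q => Multiplicative.ofAdd (S.pr q.1))
    fun p q => by rw [← ofAdd_add, Subgroup.coe_mul, S.pr_mul p p.2 q q.2]
  have hsurj : Function.Surjective f := fun v => by
    obtain ⟨a, ha, e⟩ := S.pr_surj v.toAdd
    exact ⟨⟨a, ha⟩, by show Multiplicative.ofAdd (S.pr a) = v; rw [e]; rfl⟩
  have hker : Nat.card f.ker = 2 := by
    rw [Nat.card_eq_two_iff]
    refine ⟨⟨1, one_mem _⟩, ⟨⟨z, S.zmem⟩, MonoidHom.mem_ker.2 ?_⟩, ?_, Set.eq_univ_of_forall ?_⟩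
    · show Multiplicative.ofAdd (S.pr z) = 1
      rw [S.pr_z]; rfl
    · intro e
      exact S.zne (congrArg (fun q : f.ker => q.1.1) e).symm
    · rintro ⟨⟨a, ha⟩, hk⟩
      rcases S.pr_ker a ha (Multiplicative.ofAdd.injective (MonoidHom.mem_ker.1 hk)) with e | e
      · subst e; exact Or.inl rfl
      · subst e; exact Or.inr rfl
  have h := f.ker.card_mul_index
  rw [Subgroup.index_ker, MonoidHom.range_eq_top.2 hsurj, Subgroup.card_top, hker] at h
  rw [← h, Nat.card_congr Multiplicative.toAdd]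
  simp

theorem card_comm {a : G} (ha : a ∈ oc z) (h0 : S.pr a ≠ 0) :
    Nat.card ↥(oc z ⊓ Subgroup.centralizer ({a} : Set G)) = 256 := by
  classical
  let f : ↥(oc z) →* Multiplicative (ZMod 2) := MonoidHom.mk'
    (fun q => Multiplicative.ofAdd (Bp (S.pr q) (S.pr a))) fun p q => by
      rw [← ofAdd_add, Subgroup.coe_mul, S.pr_mul p p.2 q q.2]
      exact congrArg _ (polar_add_left _ _ _ _)
  have hsurj : Function.Surjective f := by
    obtain ⟨y, hy⟩ : ∃ y, Bp y (S.pr a) ≠ 0 := by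
      by_contra hcon
      push Not at hcon
      exact h0 (eq_zero_of_polar nondegP4 fun y => (polar_comm _ _ _).trans (hcon y))
    obtain ⟨b, hb, rfl⟩ := S.pr_surj y
    intro c
    rcases zmod_cases c.toAdd with e | e
    · exact ⟨1, by rw [map_one]; exact (congrArg Multiplicative.ofAdd e).symm⟩
    · exact ⟨⟨b, hb⟩, by
        show Multiplicative.ofAdd (Bp (S.pr b) (S.pr a)) = c
        rw [zmod_ne_zero _ hy]; exact (congrArg Multiplicative.ofAdd e).symm⟩
  have hi : f.ker.index = 2 := by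
    rw [Subgroup.index_ker, MonoidHom.range_eq_top.2 hsurj, Subgroup.card_top]
    simp
  have hc := f.ker.card_mul_index
  rw [hi, S.card_oc] at hc
  have he : Nat.card f.ker = Nat.card ↥(oc z ⊓ Subgroup.centralizer ({a} : Set G)) := by
    refine Nat.card_congr
      { toFun := fun q => ⟨q.1.1, q.1.2, ?_⟩
        invFun := fun q => ⟨⟨q.1, q.2.1⟩, ?_⟩
        left_inv := fun q => rfl
        right_inv := fun q => rfl }
    · refine Subgroup.mem_centralizer_singleton_iff.2 ((S.commute_iff q.1.2 ha).2 ?_)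
      exact Multiplicative.ofAdd.injective (MonoidHom.mem_ker.1 q.2)
    · refine MonoidHom.mem_ker.2 ?_
      show Multiplicative.ofAdd (Bp (S.pr q.1) (S.pr a)) = 1
      rw [(S.commute_iff q.2.1 ha).1 (Subgroup.mem_centralizer_singleton_iff.1 q.2.2), ofAdd_zero]
  omega

end ThS

/-- A conjugate of `z` in `O_2(C(z))`, other than `z`. -/
structure ThS.Pair (S : ThS z) (x : G) : Prop where
  mem : x ∈ oc z
  conj : ∃ g : G, g * z * g⁻¹ = x
  ne : x ≠ z

namespace ThS.Pair

variable {S : ThS z} {x : G} (F : S.Pair x)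
include F

theorem sett : Setting x := by
  obtain ⟨g, rfl⟩ := F.conj
  exact S.sett.conj g

theorem zmem : z ∈ oc x := by
  obtain ⟨g, rfl⟩ := F.conj
  exact S.sett.symm F.mem

theorem xx : x * x = 1 := F.sett.sq_one

theorem x_ne : x ≠ 1 := F.sett.ne_one

theorem xz : x * z = z * x := S.comm F.mem

theorem pr_ne : S.pr x ≠ 0 := fun h => by
  rcases S.pr_ker x F.mem h with e | e
  exacts [F.x_ne e, F.ne e]

theorem sing : qP 4 (S.pr x) = 0 :=
  zp_inj S.zne (by rw [← S.pr_sq x F.mem, F.xx, zp_zero])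

theorem nrm_x {c a : G} (hc : c * x = x * c) (ha : a ∈ oc x) : c * a * c⁻¹ ∈ oc x :=
  oc_conj_mem (Subgroup.mem_centralizer_singleton_iff.2 hc) ha

theorem comm_x {a : G} (ha : a ∈ oc x) : a * x = x * a := (F.sett.comm_z ha).eq

theorem conjugate {c : G} (hc : c * z = z * c) : S.Pair (c * x * c⁻¹) := by
  obtain ⟨g, hg⟩ := F.conj
  refine ⟨S.nrm hc F.mem, ⟨c * g, by rw [← hg]; group⟩, fun e => F.ne ?_⟩
  calc x = c⁻¹ * (c * x * c⁻¹) * c := by group
    _ = c⁻¹ * (z * c) := by rw [e]; group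
    _ = z := by rw [← hc]; group

theorem mul_z : S.Pair (x * z) := by
  obtain ⟨y, hy, hyx⟩ := S.sett.exists_mover F.mem F.x_ne F.ne
  rw [← hyx]
  exact F.conjugate (S.comm hy)

theorem pr_conjugate {c : G} (hc : c * z = z * c) :
    S.pr (c * x * c⁻¹) = (S.act c).1 (S.pr x) := S.act_spec c hc x F.mem

/-- Isometries in the image fixing the vector of `x` are induced by elements centralising both. -/
theorem exists_stab (σ : A9) (h : (S.ρ σ).1 (S.pr x) = S.pr x) :
    ∃ c, c * z = z * c ∧ c * x = x * c ∧ S.act c = S.ρ σ := by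
  obtain ⟨c, hc, hca⟩ := S.act_surj σ
  rcases S.pr_eq F.mem (S.nrm hc F.mem) (by rw [F.pr_conjugate hc, hca, h]) with e | e
  · exact ⟨c, hc, mul_inv_eq_iff_eq_mul.1 e, hca⟩
  · obtain ⟨y, hy, hym⟩ := S.sett.exists_mover F.mem F.x_ne F.ne
    refine ⟨y * c, Commute.mul_left (S.comm hy) hc, ?_,
      by rw [S.act_mul (S.comm hy) hc, S.act_inner hy, one_mul, hca]⟩
    refine mul_inv_eq_iff_eq_mul.1 ?_
    calc y * c * x * (y * c)⁻¹ = y * (c * x * c⁻¹) * y⁻¹ := by group
      _ = y * x * y⁻¹ * (y * z * y⁻¹) := by rw [e]; group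
      _ = x * z * z := by rw [hym, mul_inv_eq_of_eq_mul (S.comm hy)]
      _ = x := by rw [mul_assoc, S.zz, mul_one]

theorem symm : ∃ T : ThS x, T.sp = S.sp ∧ T.Pair z := by
  obtain ⟨g, hg⟩ := F.conj
  exact ⟨S.atConj g x hg, rfl, F.zmem, ⟨g⁻¹, by rw [← hg]; group⟩, fun e => F.ne e.symm⟩

theorem inter_sq {k : G} (hk : k ∈ oc z) (hk' : k ∈ oc x) : k * k = 1 := by
  obtain ⟨T, -, -⟩ := F.symm
  have h1 := S.pr_sq k hk
  have h2 := T.pr_sq k hk'
  rcases zmod_cases (qP 4 (S.pr k)) with e | e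
  · rw [h1, e, zp_zero]
  rcases zmod_cases (qP 4 (T.pr k)) with e' | e'
  · rw [h2, e', zp_zero]
  rw [h1, e, e', zp_one, zp_one] at h2
  exact absurd h2.symm F.ne

theorem inter_comm {k l : G} (hk : k ∈ oc z) (hk' : k ∈ oc x) (hl : l ∈ oc z) (hl' : l ∈ oc x) :
    k * l = l * k := by
  rcases S.sett.commutator_cases hk hl with h | h
  · exact commutatorElement_eq_one_iff_mul_comm.1 h
  rcases F.sett.commutator_cases hk' hl' with h' | h'
  · exact commutatorElement_eq_one_iff_mul_comm.1 h'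
  exact absurd (h'.symm.trans h) F.ne

theorem inter_sing {k : G} (hk : k ∈ oc z) (hk' : k ∈ oc x) :
    qP 4 (S.pr k) = 0 ∧ Bp (S.pr k) (S.pr x) = 0 :=
  ⟨zp_inj S.zne (by rw [← S.pr_sq k hk, F.inter_sq hk hk', zp_zero]),
    (S.commute_iff hk F.mem).1 (F.comm_x hk')⟩

theorem mem_both : x ∈ oc z ∧ x ∈ oc x := ⟨F.mem, mem_oc_self F.sett.ord⟩

theorem inter_of_pr {a k : G} (ha : a ∈ oc z) (hk : k ∈ oc z) (hk' : k ∈ oc x)
    (h : S.pr a = S.pr k) : a ∈ oc x := by
  rcases S.pr_eq hk ha h.symm with e | e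
  · exact e ▸ hk'
  · rw [e]; exact mul_mem hk' F.zmem

end ThS.Pair

end Cfsg.Agent.ThLocal
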