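import Cfsg.Agent.ThLocal.Twist
import Cfsg.Agent.ThLocal.Build
import Mathlib.GroupTheory.FixedPointFree

/-!
One class of involutions and no odd core.
-/

set_option autoImplicit false

open Cfsg Cfsg.Agent.ThreeTrans.OrthCohom Cfsg.Agent.Classical.Quad QuadraticMap Cfsg.Agent.LargeExtra
open Cfsg.Agent.CoOneType

namespace Cfsg.Agent.ThLocal

variable {G : Type*} [Group G] [Finite G] {z : G}

theorem exists_pair (h : Hyp z) : ∃ (S : ThS z) (x : G), S.Pair x := by
  obtain ⟨S⟩ := exists_ths h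
  obtain ⟨g, h1, h2⟩ := S.nwc h.not_core
  exact ⟨S, _, ⟨h1, ⟨g, rfl⟩, h2⟩⟩

theorem ThS.Pair.conj_local {S : ThS z} {x : G} (F : S.Pair x) {y : G} (hyz : y * z = z * y)
    (hy2 : y * y = 1) (hy1 : y ≠ 1) : IsConj z y := by
  by_cases hm : y ∈ oc z
  · by_cases h0 : S.pr y = 0
    · rcases S.pr_ker y hm h0 with e | e
      exacts [absurd e hy1, e ▸ IsConj.refl _]
    obtain ⟨g, hg⟩ := (F.conj_of_singular hm h0
      (zp_inj S.zne (by rw [← S.pr_sq y hm, hy2, zp_zero]))).conj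
    exact isConj_iff.2 ⟨g, hg⟩
  have h1 : S.sig y ≠ 1 := fun e => hm ((S.sig_one_iff hyz).1 e)
  have h2 : S.sig y * S.sig y = 1 := by
    rw [← S.sig_mul hyz hyz, hy2, S.sig_one_iff (Commute.one_left z).eq]; exact one_mem _
  exact (F.invol_u2 hyz hy2 ((inv_class h2 h1).resolve_left (S.no_invol_u1 F hyz hy2))).1

/-- All involutions are conjugate. -/
theorem conj_of_involution (h : Hyp z) : ∀ x : G, orderOf x = 2 → IsConj x z := by
  have : Fact (Nat.Prime 2) := ⟨Nat.prime_two⟩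
  obtain ⟨S, x₀, F⟩ := exists_pair h
  intro x hx
  obtain ⟨T, hT⟩ := (LargeExtra.oc_isPGroup z).exists_le_sylow
  obtain ⟨c, hc⟩ : ∃ c : Subgroup.center (T : Subgroup G), orderOf c = 2 := by
    have : Nontrivial (T : Subgroup G) :=
      ⟨⟨⟨z, hT S.zmem⟩, 1, fun e => S.zne (congrArg Subtype.val e)⟩⟩
    have := T.isPGroup'.center_nontrivial
    refine exists_prime_orderOf_dvd_card' 2 ?_
    obtain ⟨n, hn⟩ := IsPGroup.iff_card.1 (T.isPGroup'.to_subgroup (Subgroup.center (T : Subgroup G)))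
    rcases n with _ | n
    · exact absurd hn (by rw [pow_zero]; exact ne_of_gt (Finite.one_lt_card))
    · exact ⟨2 ^ n, by rw [hn, pow_succ]; ring⟩
  have hcc : ∀ t ∈ (T : Subgroup G), t * (c.1 : G) = c.1 * t := fun t ht =>
    congrArg Subtype.val (Subgroup.mem_center_iff.1 c.2 ⟨t, ht⟩)
  have hcz : (c.1 : G) = z := by
    have hm : (c.1 : G) ∈ oc z := S.sett.cent (Subgroup.mem_centralizer_iff.2 fun q hq => hcc q (hT hq))
    refine (S.sett.center_cases hm fun q hq => hcc q (hT hq)).resolve_left fun e => ?_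
    have e' : c = 1 := Subtype.ext (Subtype.ext e)
    rw [e', orderOf_one] at hc
    omega
  obtain ⟨T', hT'⟩ := (IsPGroup.of_card (n := 1) (by rw [Nat.card_zpowers, hx, pow_one]) :
    IsPGroup 2 (Subgroup.zpowers x)).exists_le_sylow
  obtain ⟨g, rfl⟩ := MulAction.exists_smul_eq G T T'
  have hxg := hT' (Subgroup.mem_zpowers x)
  rw [Sylow.smul_def, ← SetLike.mem_coe] at hxg
  obtain ⟨t, ht, hte⟩ := Set.mem_smul_set.1 hxg
  have hte' : g * t * g⁻¹ = x := hte
  have ho : orderOf t = 2 := by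
    rw [← hx, ← hte']
    exact (MulEquiv.orderOf_eq (MulAut.conj g) t).symm
  have hxt : IsConj t x := isConj_iff.2 ⟨g, hte'⟩
  refine (hxt.symm.trans (F.conj_local (hcz ▸ hcc t ht) ?_ ?_).symm)
  · rw [← pow_two, ← ho, pow_orderOf_eq_one]
  · intro e; rw [e, orderOf_one] at ho; omega

/-- The odd core is trivial. -/
theorem oddCore_eq_bot (h : Hyp z) : oddCore G = ⊥ := by
  have : Fact (Nat.Prime 2) := ⟨Nat.prime_two⟩
  obtain ⟨S, x, F⟩ := exists_pair h
  set O : Subgroup G := oddCore G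
  have hcop : Nat.Coprime (Nat.card O) 2 := by
    have := Core.coprime_card_pPrimeCore (p := 2) (G := G)
    exact this
  have hfix : ∀ (v : G), IsConj z v → ∀ o ∈ O, o * v = v * o → o = 1 := by
    intro v hv o ho hov
    obtain ⟨g, rfl⟩ := isConj_iff.1 hv
    have hbot : O ⊓ oc z = ⊥ := by
      obtain ⟨n, hn⟩ := IsPGroup.iff_card.1 (LargeExtra.oc_isPGroup z)
      exact disjoint_iff.1 (Subgroup.disjoint_of_coprime_natCard (by rw [hn]; exact hcop.pow_right n))
    have hm : g⁻¹ * o * g ∈ O := by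
      have := (inferInstance : O.Normal).conj_mem o ho g⁻¹
      rwa [inv_inv] at this
    set o' := g⁻¹ * o * g with ho'
    have hoz : o' * z = z * o' := ThS.comm_back rfl hov
    have hmem : o' ∈ oc z := S.sett.cent (Subgroup.mem_centralizer_iff.2 fun q hq => by
      have h1 : q * o' * q⁻¹ * o'⁻¹ ∈ O ⊓ oc z := by
        refine Subgroup.mem_inf.2 ⟨mul_mem ((inferInstance : O.Normal).conj_mem _ hm q) (inv_mem hm), ?_⟩
        rw [show q * o' * q⁻¹ * o'⁻¹ = q * (o' * q⁻¹ * o'⁻¹) by group]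
        exact mul_mem hq (S.nrm hoz (inv_mem hq))
      rw [hbot, Subgroup.mem_bot, mul_inv_eq_one, mul_inv_eq_iff_eq_mul] at h1
      exact h1)
    have h1 : o' = 1 := Subgroup.mem_bot.1 (hbot ▸ Subgroup.mem_inf.2 ⟨hm, hmem⟩)
    calc o = g * o' * g⁻¹ := by rw [ho']; group
      _ = 1 := by rw [h1]; group
  have hinv : ∀ (v : G), IsConj z v → v * v = 1 → ∀ o ∈ O, v * o * v⁻¹ = o⁻¹ := by
    intro v hv hvv o ho
    have hff : MonoidHom.FixedPointFree (G := ↥O) (MulAut.conjNormal v : MulAut ↥O) := fun a ha => by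
      have h1 : v * (a : G) * v⁻¹ = a := by rw [← MulAut.conjNormal_apply]; exact congrArg Subtype.val ha
      exact Subtype.ext (hfix v hv a a.2 (mul_inv_eq_iff_eq_mul.1 h1).symm)
    have hinvol : Function.Involutive (MulAut.conjNormal v : MulAut ↥O) := fun a => by
      apply Subtype.ext
      rw [MulAut.conjNormal_apply, MulAut.conjNormal_apply,
        show v * (v * (a : G) * v⁻¹) * v⁻¹ = v * v * a * (v * v)⁻¹ by group, hvv]
      simp
    have h := congrFun (MonoidHom.FixedPointFree.coe_eq_inv_of_involutive (φ := (MulAut.conjNormal v : MulAut ↥O)) hff hinvol) ⟨o, ho⟩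
    simpa [MulAut.conjNormal_apply] using congrArg Subtype.val h
  refine (Subgroup.eq_bot_iff_forall _).2 fun o ho => ?_
  obtain ⟨g, hg⟩ := F.mul_z.conj
  obtain ⟨g', hg'⟩ := F.conj
  refine hfix (x * z) (isConj_iff.2 ⟨g, hg⟩) o ho ?_
  have h1 := hinv z (IsConj.refl z) S.zz o ho
  have h2 := hinv x (isConj_iff.2 ⟨g', hg'⟩) F.xx o⁻¹ (inv_mem ho)
  rw [inv_inv] at h2
  have : x * z * o * (x * z)⁻¹ = o := by
    calc x * z * o * (x * z)⁻¹ = x * (z * o * z⁻¹) * x⁻¹ := by group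
      _ = o := by rw [h1, h2]
  exact (mul_inv_eq_iff_eq_mul.1 this).symm

end Cfsg.Agent.ThLocal
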