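import Cfsg.Agent.ThLocal.Split

/-!
Two involutions with such centralisers: the pairs of elements with equal vectors and equal action.
-/

set_option autoImplicit false
set_option maxRecDepth 100000

open Cfsg Cfsg.Agent.ThreeTrans.OrthCohom Cfsg.Agent.Classical.Quad QuadraticMap Cfsg.Agent.LargeExtra
open Cfsg.Agent.CoOneType

namespace Cfsg.Agent.ThLocal

variable {G H : Type*} [Group G] [Finite G] [Group H] [Finite H] {z : G} {w : H}
  (S : ThS z) (T : ThS w)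

/-- Pairs with the same vector. -/
def pairR : Subgroup (G × H) where
  carrier := {u | u.1 ∈ oc z ∧ u.2 ∈ oc w ∧ S.pr u.1 = T.pr u.2}
  one_mem' := ⟨one_mem _, one_mem _, by show S.pr 1 = T.pr 1; rw [S.pr_one, T.pr_one]⟩
  mul_mem' := fun {a b} ha hb => ⟨mul_mem ha.1 hb.1, mul_mem ha.2.1 hb.2.1, by
    show S.pr (a.1 * b.1) = T.pr (a.2 * b.2)
    rw [S.pr_mul _ ha.1 _ hb.1, T.pr_mul _ ha.2.1 _ hb.2.1, ha.2.2, hb.2.2]⟩
  inv_mem' := fun {a} ha => ⟨inv_mem ha.1, inv_mem ha.2.1, by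
    show S.pr a.1⁻¹ = T.pr a.2⁻¹
    rw [S.pr_inv ha.1, T.pr_inv ha.2.1, ha.2.2]⟩

theorem mem_pairR {u : G × H} : u ∈ pairR S T ↔ u.1 ∈ oc z ∧ u.2 ∈ oc w ∧ S.pr u.1 = T.pr u.2 :=
  Iff.rfl

/-- A diagonal in the group of pairs. -/
structure Diag (D : Subgroup (G × H)) : Prop where
  le : D ≤ pairR S T
  zw : (z, w) ∈ D
  nmem : ((z, 1) : G × H) ∉ D
  cases : ∀ u ∈ pairR S T, u ∈ D ∨ ((z, 1) : G × H) * u ∈ D

theorem exists_diag : ∃ D, Diag S T D := by
  classical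
  have hzw : ((z, w) : G × H) ∈ pairR S T := ⟨S.zmem, T.zmem, by rw [S.pr_z, T.pr_z]⟩
  have he2 : ((z, 1) : G × H) * (z, 1) = 1 := Prod.ext S.zz (one_mul 1)
  have h0 : ∃ D : Subgroup (G × H), D ≤ pairR S T ∧ (z, w) ∈ D ∧ ((z, 1) : G × H) ∉ D := by
    refine ⟨Subgroup.zpowers (z, w), by rwa [Subgroup.zpowers_le], Subgroup.mem_zpowers _, ?_⟩
    intro h
    have h2 : ((z, w) : G × H) ^ 2 = 1 := by rw [pow_two]; exact Prod.ext S.zz T.zz
    obtain ⟨n, hn⟩ := Subgroup.mem_zpowers_iff.1 h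
    rcases Int.even_or_odd n with ⟨m, rfl⟩ | ⟨m, rfl⟩
    · rw [← two_mul, zpow_mul, zpow_ofNat, h2, one_zpow] at hn
      exact S.zne (congrArg Prod.fst hn).symm
    · rw [zpow_add_one, zpow_mul, zpow_ofNat, h2, one_zpow, one_mul] at hn
      exact T.zne (congrArg Prod.snd hn)
  obtain ⟨D, ⟨hle, hz, hn⟩, hmax⟩ := (Set.toFinite {D : Subgroup (G × H) |
    D ≤ pairR S T ∧ (z, w) ∈ D ∧ ((z, 1) : G × H) ∉ D}).exists_maximal h0
  refine ⟨D, hle, hz, hn, fun r hr => or_iff_not_imp_left.2 fun hrD => ?_⟩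
  have hzp : ∀ e : ZMod 2, ((zp z e, zp w e) : G × H) ∈ D := fun e => by
    rcases zmod_cases e with rfl | rfl
    · rw [zp_zero, zp_zero]; exact one_mem D
    · rw [zp_one, zp_one]; exact hz
  have hsq : r * r ∈ D := by
    have : r * r = (zp z (qP 4 (S.pr r.1)), zp w (qP 4 (S.pr r.1))) :=
      Prod.ext (S.pr_sq _ hr.1) (by show r.2 * r.2 = _; rw [T.pr_sq _ hr.2.1, hr.2.2])
    exact this ▸ hzp _
  have hnorm : ∀ d ∈ D, r * d * r⁻¹ ∈ D := by
    intro d hd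
    have hdR := hle hd
    have hcm : r * d * r⁻¹ * d⁻¹ = (zp z (Bp (S.pr r.1) (S.pr d.1)), zp w (Bp (S.pr r.1) (S.pr d.1))) :=
      Prod.ext (S.commutator_eq hr.1 hdR.1) (by
        show r.2 * d.2 * r.2⁻¹ * d.2⁻¹ = _
        rw [T.commutator_eq hr.2.1 hdR.2.1, hr.2.2, hdR.2.2])
    have := mul_mem (hcm ▸ hzp _ : r * d * r⁻¹ * d⁻¹ ∈ D) hd
    rwa [inv_mul_cancel_right] at this
  have hnorm' : ∀ d ∈ D, r⁻¹ * d * r ∈ D := fun d hd => by
    have h1 := mul_mem (mul_mem (inv_mem hsq) (hnorm d hd)) hsq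
    rwa [show (r * r)⁻¹ * (r * d * r⁻¹) * (r * r) = r⁻¹ * d * r by group] at h1
  let D' : Subgroup (G × H) :=
    { carrier := {u | u ∈ D ∨ r * u ∈ D}
      one_mem' := Or.inl (one_mem _)
      mul_mem' := by
        rintro a b (ha | ha) (hb | hb)
        · exact Or.inl (mul_mem ha hb)
        · refine Or.inr ?_
          rw [show r * (a * b) = r * a * r⁻¹ * (r * b) by group]
          exact mul_mem (hnorm a ha) hb
        · exact Or.inr (by rw [← mul_assoc]; exact mul_mem ha hb)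
        · refine Or.inl ?_
          rw [show a * b = r⁻¹ * (r * a) * r * ((r * r)⁻¹ * (r * b)) by group]
          exact mul_mem (hnorm' _ ha) (mul_mem (inv_mem hsq) hb)
      inv_mem' := by
        rintro a (ha | ha)
        · exact Or.inl (inv_mem ha)
        · refine Or.inr ?_
          rw [show r * a⁻¹ = r * (r * a)⁻¹ * r⁻¹ * (r * r) by group]
          exact mul_mem (hnorm _ (inv_mem ha)) hsq }
  have hD' : D' ≤ pairR S T := by
    rintro u (hu | hu)
    · exact hle hu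
    · have := mul_mem (inv_mem hr) (hle hu)
      rwa [inv_mul_cancel_left] at this
  by_contra hno
  have hne : ((z, 1) : G × H) ∉ D' := by
    rintro (h | h)
    · exact hn h
    · refine hno ?_
      have := hnorm' _ h
      rwa [inv_mul_cancel_left] at this
  have hDD : D' ≤ D := hmax ⟨hD', Or.inl hz, hne⟩ fun u hu => Or.inl hu
  exact hrD (hDD (Or.inr hsq))

namespace Diag

variable {S T} {D : Subgroup (G × H)} (h : Diag S T D)
include h

theorem e_xor {u : G × H} (hu : u ∈ D) : ((z, 1) : G × H) * u ∉ D := fun e => h.nmem (by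
  have := mul_mem e (inv_mem hu)
  rwa [mul_inv_cancel_right] at this)

theorem exists_left {a : G} (ha : a ∈ oc z) : ∃ b, (a, b) ∈ D := by
  obtain ⟨b, hb, hbe⟩ := T.pr_surj (S.pr a)
  rcases h.cases (a, b) ⟨ha, hb, hbe.symm⟩ with e | e
  · exact ⟨b, e⟩
  · refine ⟨w * b, ?_⟩
    have h2 := mul_mem h.zw e
    rwa [← mul_assoc, show ((z, w) : G × H) * (z, 1) = (1, w) from Prod.ext S.zz (mul_one w),
      show ((1, w) : G × H) * (a, b) = (a, w * b) from Prod.ext (one_mul a) rfl] at h2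

theorem right_unique {b : H} (hb : ((1, b) : G × H) ∈ D) : b = 1 := by
  have hR := h.le hb
  refine (T.pr_ker b hR.2.1 (hR.2.2 ▸ S.pr_one)).resolve_right fun e => h.nmem ?_
  subst e
  have := mul_mem h.zw (inv_mem hb)
  rwa [show ((z, b) : G × H) * (1, b)⁻¹ = (z, 1) from Prod.ext (by simp) (by simp)] at this

theorem left_unique {a : G} (ha : ((a, 1) : G × H) ∈ D) : a = 1 := by
  have hR := h.le ha
  refine (S.pr_ker a hR.1 (hR.2.2.trans T.pr_one)).resolve_right fun e => h.nmem ?_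
  subst e
  exact ha

end Diag

theorem ρ_eq (hS : S.sp = true) (hT : T.sp = true) : S.ρ = T.ρ := by
  refine MonoidHom.eq_of_eqOn_dense closure_a9 ?_
  rintro _ ⟨i, rfl⟩
  refine ext_oG fun v => ?_
  rw [S.ρ_gen, T.ρ_gen, hS, hT]

/-- Pairs with the same action normalising the diagonal. -/
def pairN (D : Subgroup (G × H)) : Subgroup (G × H) where
  carrier := {u | u.1 * z = z * u.1 ∧ u.2 * w = w * u.2 ∧ S.sig u.1 = T.sig u.2 ∧
    ∀ d, d ∈ D ↔ u * d * u⁻¹ ∈ D}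
  one_mem' := ⟨(Commute.one_left z).eq, (Commute.one_left w).eq, by
    show S.sig 1 = T.sig 1
    rw [(S.sig_one_iff (Commute.one_left z).eq).2 (one_mem _),
      (T.sig_one_iff (Commute.one_left w).eq).2 (one_mem _)], fun d => by simp⟩
  mul_mem' := fun {a b} ha hb => ⟨(Commute.mul_left ha.1 hb.1).eq, (Commute.mul_left ha.2.1 hb.2.1).eq, by
    show S.sig (a.1 * b.1) = T.sig (a.2 * b.2)
    rw [S.sig_mul ha.1 hb.1, T.sig_mul ha.2.1 hb.2.1, ha.2.2.1, hb.2.2.1], fun d => by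
    rw [hb.2.2.2 d, ha.2.2.2]
    simp [mul_assoc]⟩
  inv_mem' := fun {a} ha => ⟨(Commute.inv_left ha.1).eq, (Commute.inv_left ha.2.1).eq, by
    show S.sig a.1⁻¹ = T.sig a.2⁻¹
    rw [S.sig_inv ha.1, T.sig_inv ha.2.1, ha.2.2.1], fun d => by
    rw [ha.2.2.2 (a⁻¹ * d * a⁻¹⁻¹)]
    simp [mul_assoc]⟩

theorem mem_pairN {D : Subgroup (G × H)} {u : G × H} : u ∈ pairN S T D ↔
    u.1 * z = z * u.1 ∧ u.2 * w = w * u.2 ∧ S.sig u.1 = T.sig u.2 ∧
      ∀ d, d ∈ D ↔ u * d * u⁻¹ ∈ D := Iff.rfl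

namespace Diag

variable {S T} {D : Subgroup (G × H)} (h : Diag S T D)
include h

theorem le_pairN : D ≤ pairN S T D := fun u hu => by
  have hR := h.le hu
  refine (mem_pairN S T).2 ⟨S.comm hR.1, T.comm hR.2.1, ?_, fun d => ⟨fun hd => mul_mem (mul_mem hu hd) (inv_mem hu), fun hd => ?_⟩⟩
  · rw [(S.sig_one_iff (S.comm hR.1)).2 hR.1, (T.sig_one_iff (T.comm hR.2.1)).2 hR.2.1]
  · have := mul_mem (mul_mem (inv_mem hu) hd) hu
    rwa [show u⁻¹ * (u * d * u⁻¹) * u = d by group] at this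

theorem e_mem : ((z, 1) : G × H) ∈ pairN S T D := by
  refine (mem_pairN S T).2 ⟨rfl, (Commute.one_left w).eq, ?_, fun d => ?_⟩
  · show S.sig z = T.sig 1
    rw [(S.sig_one_iff rfl).2 S.zmem, (T.sig_one_iff (Commute.one_left w).eq).2 (one_mem _)]
  · by_cases hd : d ∈ pairR S T
    · have : ((z, 1) : G × H) * d * (z, 1)⁻¹ = d := Prod.ext
        (show z * d.1 * z⁻¹ = d.1 by rw [← S.comm hd.1, mul_inv_cancel_right]) (by simp)
      rw [this]
    · refine iff_of_false (fun e => hd (h.le e)) fun e => hd ?_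
      have he : ((z, 1) : G × H) ∈ pairR S T := ⟨S.zmem, one_mem _, by rw [S.pr_z, T.pr_one]⟩
      have := mul_mem (mul_mem (inv_mem he) (h.le e)) he
      rwa [show ((z, 1) : G × H)⁻¹ * ((z, 1) * d * (z, 1)⁻¹) * (z, 1) = d by group] at this

/-- The kernel of the first projection. -/
theorem pairN_right {c : H} (hc : ((1, c) : G × H) ∈ pairN S T D) : c = 1 ∨ c = w := by
  obtain ⟨-, hcw, hsig, hnorm⟩ := (mem_pairN S T).1 hc
  have hcm : c ∈ oc w := (T.sig_one_iff hcw).1 (hsig.symm.trans ((S.sig_one_iff (Commute.one_left z).eq).2 (one_mem _)))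
  refine T.pr_ker c hcm (eq_zero_of_polar nondegP4 fun v => ?_)
  obtain ⟨a, ha, hav⟩ := S.pr_surj v
  obtain ⟨b, hb⟩ := h.exists_left ha
  have hR := h.le hb
  have h1 := mul_mem ((hnorm _).1 hb) (inv_mem hb)
  rw [show ((1, c) : G × H) * (a, b) * (1, c)⁻¹ * (a, b)⁻¹ = (1, c * b * c⁻¹ * b⁻¹) from
    Prod.ext (by simp) rfl] at h1
  have h2 := h.right_unique h1
  rw [T.commutator_eq hcm hR.2.1] at h2
  have : Bp (T.pr c) (T.pr b) = 0 := zp_inj T.zne (by rw [h2, zp_zero])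
  rw [← hav, show S.pr a = T.pr b from hR.2.2]
  exact this

/-- The first projection is surjective. -/
theorem pairN_surj (hS : S.sp = true) (hT : T.sp = true) {c : G} (hc : c * z = z * c) :
    ∃ c' : H, (c, c') ∈ pairN S T D := by
  classical
  obtain ⟨c₀, hc₀, hc₀a⟩ := T.act_surj (S.sig c)
  have hact : S.act c = T.act c₀ := by rw [hc₀a, ← S.ρ_sig hc, ρ_eq S T hS hT]
  let χ : G × H → ZMod 2 := fun u => if u ∈ D then 0 else 1
  have hadd : ∀ u v, u ∈ pairR S T → v ∈ pairR S T → χ (u * v) = χ u + χ v := by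
    intro u v hu hv
    have he : ∀ u ∈ pairR S T, ((z, 1) : G × H) * u = u * (z, 1) := fun u hu => Prod.ext (S.comm hu.1).symm (by simp)
    by_cases h1 : u ∈ D <;> by_cases h2 : v ∈ D
    · simp [χ, h1, h2, mul_mem h1 h2]
    · have h3 : u * v ∉ D := fun e => h2 ((mul_mem_cancel_left h1).1 e)
      simp [χ, h1, h2, h3]
    · have h3 : u * v ∉ D := fun e => h1 ((mul_mem_cancel_right h2).1 e)
      simp [χ, h1, h2, h3]
    · have h3 : u * v ∈ D := by
        have := mul_mem ((h.cases u hu).resolve_left h1) ((h.cases v hv).resolve_left h2)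
        rwa [he u hu, mul_assoc, ← mul_assoc ((z, 1) : G × H) (z, 1) v,
          show ((z, 1) : G × H) * (z, 1) = 1 from Prod.ext S.zz (one_mul 1), one_mul] at this
      simp [χ, h1, h2, h3]
      rfl
  let K : G × H := (c, c₀)
  have hK : ∀ u ∈ pairR S T, K * u * K⁻¹ ∈ pairR S T := fun u hu => ⟨S.nrm hc hu.1, T.nrm hc₀ hu.2.1, by
    show S.pr (c * u.1 * c⁻¹) = T.pr (c₀ * u.2 * c₀⁻¹)
    rw [S.act_spec c hc _ hu.1, T.act_spec c₀ hc₀ _ hu.2.1, hact, hu.2.2]⟩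
  let f : G × H → ZMod 2 := fun u => χ (K * u * K⁻¹) + χ u
  have fadd : ∀ u v, u ∈ pairR S T → v ∈ pairR S T → f (u * v) = f u + f v := fun u v hu hv => by
    show χ _ + χ _ = _
    rw [show K * (u * v) * K⁻¹ = K * u * K⁻¹ * (K * v * K⁻¹) by group, hadd _ _ (hK u hu) (hK v hv),
      hadd u v hu hv]
    show _ = χ _ + χ _ + (χ _ + χ _)
    abel
  have fker : ∀ u ∈ pairR S T, S.pr u.1 = 0 → f u = 0 := by
    intro u hu h0
    have hfix : K * u * K⁻¹ = u := by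
      refine Prod.ext ?_ ?_
      · show c * u.1 * c⁻¹ = u.1
        rcases S.pr_ker _ hu.1 h0 with e | e <;> rw [e]
        · group
        · rw [hc, mul_inv_cancel_right]
      · show c₀ * u.2 * c₀⁻¹ = u.2
        rcases T.pr_ker _ hu.2.1 (hu.2.2 ▸ h0) with e | e <;> rw [e]
        · group
        · rw [hc₀, mul_inv_cancel_right]
    show χ _ + χ _ = 0
    rw [hfix]
    exact (by decide : ∀ a : ZMod 2, a + a = 0) _
  have hlift : ∀ v, ∃ u, u ∈ pairR S T ∧ S.pr u.1 = v := fun v => by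
    obtain ⟨a, ha, hav⟩ := S.pr_surj v
    obtain ⟨b, hb⟩ := h.exists_left ha
    exact ⟨(a, b), h.le hb, hav⟩
  choose l hl hlp using hlift
  have fdep : ∀ u ∈ pairR S T, f u = f (l (S.pr u.1)) := fun u hu => by
    have h1 := fker ((l (S.pr u.1))⁻¹ * u) (mul_mem (inv_mem (hl _)) hu) (by
      show S.pr ((l (S.pr u.1)).1⁻¹ * u.1) = 0
      rw [S.pr_mul _ (inv_mem (hl _).1) _ hu.1, S.pr_inv (hl _).1, hlp, v_add_self])
    have h2 := fadd (l (S.pr u.1)) ((l (S.pr u.1))⁻¹ * u) (hl _) (mul_mem (inv_mem (hl _)) hu)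
    rw [mul_inv_cancel_left, h1, add_zero] at h2
    exact h2
  obtain ⟨wv, hwv⟩ := exists_rep (fun v => f (l v)) fun x y => by
    rw [← fadd _ _ (hl x) (hl y), fdep (l x * l y) (mul_mem (hl x) (hl y))]
    congr 2
    show _ = S.pr ((l x).1 * (l y).1)
    rw [S.pr_mul _ (hl x).1 _ (hl y).1, hlp, hlp]
  obtain ⟨b₀, hb₀, hb₀e⟩ := T.pr_surj ((T.act c₀).1 wv)
  refine ⟨b₀ * c₀, (mem_pairN S T).2 ⟨hc, (Commute.mul_left (T.comm hb₀) hc₀).eq, ?_, ?_⟩⟩
  · show S.sig c = T.sig (b₀ * c₀)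
    rw [T.sig_mul (T.comm hb₀) hc₀, (T.sig_one_iff (T.comm hb₀)).2 hb₀, one_mul, T.sig_eq hc₀ hc₀a]
  have hχ : ∀ u ∈ pairR S T, χ (((c, b₀ * c₀) : G × H) * u * (c, b₀ * c₀)⁻¹) = χ u := by
    intro u hu
    have hKu := hK u hu
    set ε : ZMod 2 := Bp (T.pr b₀) (T.pr (c₀ * u.2 * c₀⁻¹))
    have e : ((c, b₀ * c₀) : G × H) * u * (c, b₀ * c₀)⁻¹ = ((1, zp w ε) : G × H) * (K * u * K⁻¹) := by
      refine Prod.ext ?_ ?_
      · show c * u.1 * c⁻¹ = 1 * (c * u.1 * c⁻¹)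
        rw [one_mul]
      · show b₀ * c₀ * u.2 * (b₀ * c₀)⁻¹ = zp w ε * (c₀ * u.2 * c₀⁻¹)
        rw [show zp w ε = b₀ * (c₀ * u.2 * c₀⁻¹) * b₀⁻¹ * (c₀ * u.2 * c₀⁻¹)⁻¹ from
          (T.commutator_eq hb₀ hKu.2.1).symm]
        group
    have h1w : ((1, zp w ε) : G × H) ∈ pairR S T := ⟨one_mem _, T.zp_mem ε, by rw [S.pr_one, T.pr_zp]⟩
    have hχ1 : χ ((1, zp w ε) : G × H) = ε := by
      rcases zmod_cases ε with e0 | e0 <;> rw [e0]
      · rw [zp_zero]; exact if_pos (one_mem D)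
      · rw [zp_one]
        exact if_neg fun hm => T.zne (h.right_unique hm)
    have hε : ε = f u := by
      rw [fdep u hu, hwv (S.pr u.1)]
      show Bp (T.pr b₀) (T.pr (c₀ * u.2 * c₀⁻¹)) = _
      rw [hb₀e, T.act_spec c₀ hc₀ _ hu.2.1, polar_g, Bp_comm, hu.2.2]
    rw [e, hadd _ _ h1w hKu, hχ1, hε]
    show χ _ + χ _ + χ _ = χ _
    exact (by decide : ∀ a b : ZMod 2, a + b + a = b) _ _
  have hiff : ∀ d ∈ pairR S T, d ∈ D ↔ ((c, b₀ * c₀) : G × H) * d * (c, b₀ * c₀)⁻¹ ∈ D := by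
    intro d hd
    have hχd := hχ d hd
    simp only [χ] at hχd
    by_cases h1 : d ∈ D <;> by_cases h2 : ((c, b₀ * c₀) : G × H) * d * (c, b₀ * c₀)⁻¹ ∈ D <;>
      simp_all
  intro d
  by_cases hd : d ∈ pairR S T
  · exact hiff d hd
  · refine iff_of_false (fun e => hd (h.le e)) fun e => hd ?_
    have he := h.le e
    have hcc : (b₀ * c₀) * w = w * (b₀ * c₀) := (Commute.mul_left (T.comm hb₀) hc₀).eq
    have hci := (Commute.inv_left hc).eq
    have hcci := (Commute.inv_left hcc).eq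
    refine ⟨?_, ?_, ?_⟩
    · have := S.nrm hci he.1
      simpa [mul_assoc] using this
    · have := T.nrm hcci he.2.1
      simpa [mul_assoc] using this
    · have h3 := he.2.2
      have m1 : d.1 ∈ oc z := by
        have := S.nrm hci he.1
        simpa [mul_assoc] using this
      have m2 : d.2 ∈ oc w := by
        have := T.nrm hcci he.2.1
        simpa [mul_assoc] using this
      have h3' : S.pr (c * d.1 * c⁻¹) = T.pr ((b₀ * c₀) * d.2 * (b₀ * c₀)⁻¹) := h3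
      rw [S.act_spec c hc _ m1, T.act_spec _ hcc _ m2, T.act_mul (T.comm hb₀) hc₀, T.act_inner hb₀,
        one_mul, hact] at h3'
      exact (T.act c₀).1.injective h3'

end Diag

end Cfsg.Agent.ThLocal
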