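import Cfsg.Agent.ThLocal.Excl

/-!
The image of the common centraliser in the alternating group, and the involutions over the class
of products of four transpositions.
-/

set_option autoImplicit false
set_option maxRecDepth 100000

open Cfsg Cfsg.Agent.ThreeTrans.OrthCohom Cfsg.Agent.Classical.Quad QuadraticMap Cfsg.Agent.LargeExtra
open Cfsg.Agent.CoOneType

namespace Cfsg.Agent.ThLocal

/-- The two conditions on a code fixed by a word fail. -/
def Fails (w : List (Fin 7)) (p : ℕ) : Prop :=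
  (∃ v ∈ WL p, wap true w v ^^^ v ≠ 0 ∧ wap true w v ^^^ v ≠ p) ∨
    ∃ v : Fin 256, Bn v.val p = false ∧ wap true w v.val ^^^ v.val ∉ WL p

theorem u1_fail : ∀ p ∈ u1L, p ≠ 0 → Fails [0, 1] p := by unfold Fails; decide +kernel

theorem u2_fail : ∀ p : Fin 256, p.val ≠ 0 → qn p.val = false → wap true w2 p.val = p.val →
    p.val = 37 ∨ Fails w2 p.val := by
  unfold Fails; decide +kernel

theorem u2_fix_code : ∀ v : Fin 256, wap true w2 v.val = v.val →
    (qn v.val = false → v.val ∈ WL 37) ∧ ∃ y : Fin 256, wap true w2 y.val ^^^ y.val = v.val := by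
  decide +kernel

theorem WL_lt : ∀ p, ∀ v ∈ WL p, v < 256 := by
  intro p v hv
  obtain ⟨u, hu, rfl⟩ := List.mem_map.1 hv
  exact wap_lt _ _ _ (W0_lt u hu)

variable {G : Type*} [Group G] [Finite G] {z : G}

namespace ThS

theorem code_add (a b : V) : (cd (a + b)).val = (cd a).val ^^^ (cd b).val :=
  cd_eq (xor_lt (cd a).isLt (cd b).isLt) (by rw [dc_xor, dc_cd, dc_cd])

variable {S : ThS z}

theorem cd_act (hsp : S.sp = true) {c : G} {w : List (Fin 7)} (hc : S.act c = S.ρ (wg w)) (v : V) :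
    (cd ((S.act c).1 v)).val = wap true w (cd v).val := by
  rw [hc, cd_wap, hsp]

namespace Pair

variable {x : G} (F : S.Pair x)
include F

theorem code_fix {y : G} {w : List (Fin 7)} (hyz : y * z = z * y) (hyx : y * x = x * y)
    (hy : S.act y = S.ρ (wg w)) : wap true w (cd (S.pr x)).val = (cd (S.pr x)).val := by
  rw [← cd_act F.sp_true hy, ← S.act_spec y hyz x F.mem]
  congr 3
  rw [hyx]; group

theorem not_fails {y : G} {w : List (Fin 7)} (hy : y ∈ oc x) (hyz : y * z = z * y)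
    (hya : S.act y = S.ρ (wg w)) : ¬ Fails w (cd (S.pr x)).val := by
  have hsp := F.sp_true
  have hkey : ∀ a ∈ oc z, (cd (S.pr (y * a * y⁻¹ * a⁻¹))).val =
      wap true w (cd (S.pr a)).val ^^^ (cd (S.pr a)).val := fun a ha => by
    rw [S.pr_mul _ (S.nrm hyz ha) _ (inv_mem ha), S.act_spec y hyz a ha, S.pr_inv ha, code_add,
      cd_act hsp hya]
  rintro (⟨v, hv, h0, hp⟩ | ⟨v, hv, hW⟩)
  · obtain ⟨a, ha, hae⟩ := S.pr_surj (dc v)
    have hv' : (cd (S.pr a)).val = v := cd_eq (WL_lt _ v hv) hae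
    have hax : a ∈ oc x := (F.mem_iff ha).2 (hv'.symm ▸ hv)
    have h := hkey a ha
    rw [hv'] at h
    rcases F.sett.commutator_cases hy hax with e | e <;> rw [e] at h
    · exact h0 (h.symm.trans (cd_eq (by norm_num) (by rw [S.pr_one, dc_zero])))
    · exact hp h.symm
  · obtain ⟨a, ha, hae⟩ := S.pr_surj (dc v.val)
    have hv' : (cd (S.pr a)).val = v.val := cd_eq v.isLt hae
    have hax : a * x = x * a := (S.commute_iff ha F.mem).2 (by
      rw [← dc_cd (S.pr x), hae, Bp_dc v.isLt (cd _).isLt, hv]; rfl)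
    have h := hkey a ha
    rw [hv'] at h
    refine hW (h ▸ (F.mem_iff (mul_mem (S.nrm hyz ha) (inv_mem ha))).1 ?_)
    rw [show y * a * y⁻¹ * a⁻¹ = y * (a * y⁻¹ * a⁻¹) by group]
    exact mul_mem hy (F.nrm_x hax (inv_mem hy))

theorem not_u1 {y : G} (hy : y ∈ oc x) (hyz : y * z = z * y) (hya : S.act y = S.ρ u1) : False := by
  rw [← u1_word] at hya
  exact F.not_fails hy hyz hya (u1_fail _ (u1_code.2.2.1 _ (F.code_fix hyz (F.comm_x hy) hya))
    (code_ne F.pr_ne))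

theorem pr_u2 {y : G} (hy : y ∈ oc x) (hyz : y * z = z * y) (hya : S.act y = S.ρ u2) :
    (cd (S.pr x)).val = 37 := by
  rw [← u2_word] at hya
  exact (u2_fail _ (code_ne F.pr_ne) (code_q F.sing) (F.code_fix hyz (F.comm_x hy) hya)).resolve_right
    (F.not_fails hy hyz hya)

theorem sq_mem {y : G} (hy : y ∈ oc x) : y * y = 1 ∨ y * y = x := by
  obtain ⟨T, -, -⟩ := F.symm
  rw [T.pr_sq y hy]
  rcases zmod_cases (qP 4 (T.pr y)) with e | e <;> rw [e]
  · exact Or.inl (zp_zero x)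
  · exact Or.inr (zp_one x)

theorem sig_class {y : G} (hy : y ∈ oc x) (hyz : y * z = z * y) (hn : y ∉ oc z) :
    IsConj (S.sig y) u2 := by
  have h1 : S.sig y ≠ 1 := fun e => hn ((S.sig_one_iff hyz).1 e)
  have h2 : S.sig y * S.sig y = 1 := by
    rw [← S.sig_mul hyz hyz]
    refine (S.sig_one_iff (Commute.mul_left hyz hyz).eq).2 ?_
    rcases F.sq_mem hy with e | e <;> rw [e]
    exacts [one_mem _, F.mem]
  refine (inv_class h2 h1).resolve_left fun h => ?_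
  obtain ⟨c, hc, hcs⟩ := S.exists_sig_conj hyz h
  have hyz' : c * y * c⁻¹ * z = z * (c * y * c⁻¹) :=
    (Commute.mul_left (Commute.mul_left hc hyz) (Commute.inv_left hc)).eq
  exact (F.conjugate hc).not_u1 (conj_mem_oc hy) hyz' (S.act_sig hyz' hcs)

theorem exists_invol_u2 : ∃ x' y : G, S.Pair x' ∧ y ∈ oc x' ∧ y * z = z * y ∧ y * y = 1 ∧
    S.act y = S.ρ u2 := by
  obtain ⟨a, b, ha, hb, haz, hbz, hab⟩ := F.noncomm F.sp_true
  obtain ⟨y₀, hy₀, hy₀z, hy₀n⟩ : ∃ y, y ∈ oc x ∧ y * z = z * y ∧ y ∉ oc z := by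
    by_cases ha' : a ∈ oc z
    · refine ⟨b, hb, hbz, fun hb' => hab (F.inter_comm ha' ha hb' hb)⟩
    · exact ⟨a, ha, haz, ha'⟩
  obtain ⟨y, hy, hyz, hyn, hy2⟩ : ∃ y, y ∈ oc x ∧ y * z = z * y ∧ y ∉ oc z ∧ y * y = 1 := by
    rcases F.sq_mem hy₀ with e | e
    · exact ⟨y₀, hy₀, hy₀z, hy₀n, e⟩
    obtain ⟨T, hsp, P⟩ := F.symm
    by_cases hall : ∀ k, k ∈ oc z → k ∈ oc x → k * y₀ = y₀ * k
    · exfalso
      set w := wdOf true (cd (T.pr z)).val
      have hTsp : T.sp = true := P.sp_true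
      have hw1 := orbit_one (code_ne P.pr_ne) (code_q P.sing)
      set v := (T.ρ (wg w))⁻¹.1 (T.pr y₀)
      have hv : (cd (T.pr y₀)).val = wap true w (cd v).val := by
        have h := cd_wap T w v
        rwa [hTsp, oG_apply_inv] at h
      refine hy₀n ((P.mem_iff hy₀).2 (hv ▸ List.mem_map_of_mem (W0_perp _ fun u hu => ?_)))
      obtain ⟨k, hk, hke⟩ := T.pr_surj ((T.ρ (wg w)).1 (dc u))
      have hku : (cd (T.pr k)).val = wap true w u := by
        rw [hke, cd_wap, hTsp, cd_eq (W0_lt u hu) rfl]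
      have hkz : k ∈ oc z := (P.mem_iff hk).2 (hku ▸ List.mem_map_of_mem hu)
      have h := (T.commute_iff hy₀ hk).1 (hall k hkz hk).symm
      rw [hke, show T.pr y₀ = (T.ρ (wg w)).1 v from (oG_apply_inv _ _).symm, polar_g,
        ← dc_cd v, Bp_dc (cd v).isLt (W0_lt u hu), CoOneType.bz_eq_zero] at h
      exact h
    push Not at hall
    obtain ⟨k, hk, hk', hne⟩ := hall
    have hkx : k * y₀ = y₀ * k * x := by
      rcases F.sett.commutator_cases hk' hy₀ with h | h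
      · exact absurd (commutatorElement_eq_one_iff_mul_comm.1 h) hne
      · rw [mul_inv_eq_iff_eq_mul, mul_inv_eq_iff_eq_mul] at h
        rw [h, mul_assoc x, (F.comm_x (mul_mem hy₀ hk')).symm]
    refine ⟨y₀ * k, mul_mem hy₀ hk', Commute.mul_left hy₀z (S.comm hk),
      fun h => hy₀n (by simpa using mul_mem h (inv_mem hk)), ?_⟩
    calc y₀ * k * (y₀ * k) = y₀ * (k * y₀) * k := by group
      _ = y₀ * y₀ * (k * (x * k)) := by rw [hkx]; group
      _ = 1 := by rw [e, ← F.comm_x hk', ← mul_assoc k k, F.inter_sq hk hk', one_mul, F.xx]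
  obtain ⟨c, hc, hcs⟩ := S.exists_sig_conj hyz (F.sig_class hy hyz hyn)
  have hcz : c * y * c⁻¹ * z = z * (c * y * c⁻¹) :=
    (Commute.mul_left (Commute.mul_left hc hyz) (Commute.inv_left hc)).eq
  exact ⟨_, _, F.conjugate hc, conj_mem_oc hy, hcz,
    by rw [show c * y * c⁻¹ * (c * y * c⁻¹) = c * (y * y) * c⁻¹ by group, hy2]; group,
    S.act_sig hcz hcs⟩

/-- Singular elements of `O_2(C(z))` lie over pairs. -/
theorem conj_of_singular {a : G} (ha : a ∈ oc z) (h0 : S.pr a ≠ 0) (hq : qP 4 (S.pr a) = 0) :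
    S.Pair a := by
  have hsp := F.sp_true
  have e1 := orbit_one (code_ne F.pr_ne) (code_q F.sing)
  have e2 := orbit_one (code_ne h0) (code_q hq)
  set w := wdOf true (cd (S.pr x)).val
  set w' := wdOf true (cd (S.pr a)).val
  obtain ⟨c, hc, hca⟩ := S.act_surj (wg w' * (wg w)⁻¹)
  have hone : ∀ u, (S.ρ (wg u)).1 (dc 1) = dc (wap true u 1) := fun u => by
    rw [S.ρ_wap u 1 (by norm_num), hsp]
  have hpr : S.pr (c * x * c⁻¹) = S.pr a := by
    rw [F.pr_conjugate hc, hca, map_mul, map_inv, oG_mul_apply, ← dc_cd (S.pr x), ← e1, ← hone,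
      oG_inv_apply, hone, e2, dc_cd]
  have F' := F.conjugate hc
  rcases S.pr_eq F'.mem ha hpr with e | e
  · exact e ▸ F'
  · exact e ▸ F'.mul_z

/-- Involutions over the class of products of four transpositions lie in a pair, which may be
chosen above a given fixed element. -/
theorem invol_u2 {y : G} (hyz : y * z = z * y) (hy2 : y * y = 1) (hc2 : IsConj (S.sig y) u2) :
    IsConj z y ∧ ∃ x', S.Pair x' ∧ y ∈ oc x' ∧
      ∀ a, S.Pair a → a * y = y * a → a ∈ oc x' := by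
  obtain ⟨c, hc, hcs⟩ := S.exists_sig_conj hyz hc2
  obtain ⟨x₁, y₁, F₁, hy₁, hy₁z, hy₁2, hy₁a⟩ := F.exists_invol_u2
  set y' := c * y * c⁻¹ with hy'
  have hy'z : y' * z = z * y' :=
    (Commute.mul_left (Commute.mul_left hc hyz) (Commute.inv_left hc)).eq
  have hsp := F.sp_true
  have hy'a : S.act y' = S.act y₁ := by rw [S.act_sig hy'z hcs, hy₁a]
  have hu : S.act y₁ = S.ρ (wg w2) := by rw [hy₁a, u2_word]
  have hp37 := F₁.pr_u2 hy₁ hy₁z hy₁a
  have hyi : y₁⁻¹ = y₁ := inv_eq_of_mul_eq_one_right hy₁2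
  set a := y' * y₁ with hadef
  have ha : a ∈ oc z := S.act_ker _ (Commute.mul_left hy'z hy₁z).eq (by
    rw [S.act_mul hy'z hy₁z, hy'a, ← S.act_mul hy₁z hy₁z, hy₁2, S.act_one])
  have hy'2 : y' * y' = 1 := by
    rw [hy', show c * y * c⁻¹ * (c * y * c⁻¹) = c * (y * y) * c⁻¹ by group, hy2]; group
  have hinv : y₁ * a * y₁⁻¹ = a⁻¹ := by
    rw [hadef, mul_inv_rev, hyi, inv_eq_of_mul_eq_one_right hy'2,
      show y₁ * (y' * y₁) * y₁ = y₁ * y' * (y₁ * y₁) by group, hy₁2, mul_one]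
  have hfa : wap true w2 (cd (S.pr a)).val = (cd (S.pr a)).val := by
    rw [← cd_act hsp hu, ← S.act_spec y₁ hy₁z a ha, hinv, S.pr_inv ha]
  obtain ⟨v, hv⟩ := (u2_fix_code _ hfa).2
  obtain ⟨b, hb, hbe⟩ := S.pr_surj (dc v.val)
  have hbz := S.comm hb
  set a' := b * y₁ * b⁻¹ * y₁⁻¹
  have ha' : a' ∈ oc z := by
    show b * y₁ * b⁻¹ * y₁⁻¹ ∈ oc z
    rw [show b * y₁ * b⁻¹ * y₁⁻¹ = b * (y₁ * b⁻¹ * y₁⁻¹) by group]
    exact mul_mem hb (S.nrm hy₁z (inv_mem hb))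
  have hpa : S.pr a' = S.pr a := by
    show S.pr (b * y₁ * b⁻¹ * y₁⁻¹) = _
    rw [show b * y₁ * b⁻¹ * y₁⁻¹ = b * (y₁ * b⁻¹ * y₁⁻¹) by group,
      S.pr_mul _ hb _ (S.nrm hy₁z (inv_mem hb)), S.act_spec y₁ hy₁z _ (inv_mem hb), S.pr_inv hb,
      hbe, hu, S.ρ_wap _ _ v.isLt, hsp, ← dc_xor, Nat.xor_comm, hv, dc_cd]
  have hy₁n : y₁ ∉ oc z := fun h => u2_ne (S.ρ_inj (by rw [← hy₁a, S.act_inner h, map_one]))
  obtain ⟨t, ht, ht2, hty'⟩ : ∃ t, t ∈ oc x₁ ∧ t * t = 1 ∧ y' = b * t * b⁻¹ := by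
    rcases S.pr_eq ha' ha hpa with e | e
    · refine ⟨y₁, hy₁, hy₁2, ?_⟩
      calc y' = a * y₁⁻¹ := by rw [hadef, hyi, mul_assoc, hy₁2, mul_one]
        _ = b * y₁ * b⁻¹ := by
          rw [e, show a' = b * y₁ * b⁻¹ * y₁⁻¹ from rfl, hyi, mul_assoc, hy₁2, mul_one]
    · refine ⟨y₁ * z, mul_mem hy₁ F₁.zmem, ?_, ?_⟩
      · rw [show y₁ * z * (y₁ * z) = y₁ * (z * y₁) * z by group, ← hy₁z, ← mul_assoc y₁, hy₁2,
          one_mul, S.zz]
      calc y' = a * y₁⁻¹ := by rw [hadef, hyi, mul_assoc, hy₁2, mul_one]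
        _ = b * y₁ * b⁻¹ * (y₁⁻¹ * z * y₁⁻¹) := by
          rw [e, show a' = b * y₁ * b⁻¹ * y₁⁻¹ from rfl]; group
        _ = b * y₁ * b⁻¹ * z := by rw [hyi, hy₁z, mul_assoc z, hy₁2, mul_one]
        _ = b * (y₁ * z) * b⁻¹ := by rw [mul_assoc (b * y₁), (Commute.inv_left hbz).eq]; group
  have htz : t * z = z * t := by
    have : t = b⁻¹ * y' * b := by rw [hty']; group
    rw [this]
    exact (Commute.mul_left (Commute.mul_left (Commute.inv_left hbz) hy'z) hbz).eq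
  have htn : t ∉ oc z := fun h => by
    have h1 : y' ∈ oc z := hty' ▸ S.nrm hbz h
    exact u2_ne ((((S.sig_eq hy'z (by rw [S.act_inner h1, map_one] : S.act y' = S.ρ 1)).symm.trans
      hcs)).symm)
  obtain ⟨g, hg⟩ := F₁.conj
  obtain ⟨T, -, P⟩ := F₁.symm
  have hkey : T.Pair t := by
    refine P.conj_of_singular ht (fun h => ?_) (zp_inj T.zne (by rw [← T.pr_sq t ht, ht2, zp_zero]))
    rcases T.pr_ker t ht h with e | e
    · exact htn (e ▸ one_mem _)
    · exact htn (e ▸ F₁.mem)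
  obtain ⟨g', hg'⟩ := hkey.conj
  have hbc := (Commute.mul_left (Commute.inv_left hc) hbz).eq
  have hyt : y = c⁻¹ * b * t * (c⁻¹ * b)⁻¹ := by
    rw [show c⁻¹ * b * t * (c⁻¹ * b)⁻¹ = c⁻¹ * (b * t * b⁻¹) * c by group, ← hty', hy']; group
  refine ⟨isConj_iff.2 ⟨c⁻¹ * b * g' * g, ?_⟩, c⁻¹ * b * x₁ * (c⁻¹ * b)⁻¹, F₁.conjugate hbc,
    hyt ▸ conj_mem_oc ht, fun q Fq hqy => ?_⟩
  · rw [hyt, ← hg', ← hg]; group
  set d := b⁻¹ * c
  have hd : d * z = z * d := (Commute.mul_left (Commute.inv_left hbz) hc).eq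
  have Fd := Fq.conjugate hd
  have htd : t = d * y * d⁻¹ := by rw [hyt, show d = b⁻¹ * c from rfl]; group
  have hfix : wap true w2 (cd (S.pr (d * q * d⁻¹))).val = (cd (S.pr (d * q * d⁻¹))).val := by
    refine Fd.code_fix htz ?_ ?_
    · calc t * (d * q * d⁻¹) = d * (y * q) * d⁻¹ := by rw [htd]; group
        _ = d * q * d⁻¹ * t := by rw [← hqy, htd]; group
    · have hts : b * t * b⁻¹ = y' := hty'.symm
      rw [show t = b⁻¹ * y' * b⁻¹⁻¹ by rw [← hts]; group,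
        S.act_mul (Commute.mul_left (Commute.inv_left hbz) hy'z).eq (Commute.inv_left (Commute.inv_left hbz)).eq,
        S.act_mul (Commute.inv_left hbz).eq hy'z, S.act_inner (inv_mem hb), inv_inv, S.act_inner hb,
        one_mul, mul_one, hy'a, hu]
  have h := (u2_fix_code _ hfix).1 (code_q Fd.sing)
  rw [← hp37] at h
  have h' := conj_mem_oc (g := d⁻¹) ((F₁.mem_iff Fd.mem).2 h)
  rwa [show d⁻¹ * (d * q * d⁻¹) * d⁻¹⁻¹ = q by group,
    show d⁻¹ * x₁ * d⁻¹⁻¹ = c⁻¹ * b * x₁ * (c⁻¹ * b)⁻¹ by rw [show d = b⁻¹ * c from rfl]; group] at h'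

end Pair

end ThS

end Cfsg.Agent.ThLocal
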