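import Cfsg.Agent.CoOneType.Space

/-!
The two eight-dimensional modules of the alternating group of degree nine on codes.
-/

set_option autoImplicit false

open Cfsg.Agent.CoOneType

namespace Cfsg.Agent.ThLocal

/-- The linear map with the given images of the eight unit codes. -/
def lap : List ℕ → ℕ → ℕ
  | [], _ => 0
  | a :: m, v => (if v % 2 = 1 then a else 0) ^^^ lap m (v / 2)

theorem lap_xor : ∀ (m : List ℕ) (v w : ℕ), lap m (v ^^^ w) = lap m v ^^^ lap m w
  | [], _, _ => by simp [lap]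
  | a :: m, v, w => by
    have h : (v ^^^ w) % 2 = (v % 2) ^^^ (w % 2) := Nat.xor_mod_two_pow (n := 1)
    rw [lap, lap, lap, Nat.xor_div_two, lap_xor m, h]
    rcases Nat.mod_two_eq_zero_or_one v with hv | hv <;>
      rcases Nat.mod_two_eq_zero_or_one w with hw | hw <;> rw [hv, hw]
    · simp
    · simp only [show (0 : ℕ) ^^^ 1 = 1 from rfl, reduceIte, zero_ne_one, Nat.zero_xor]
      ac_rfl
    · simp only [show (1 : ℕ) ^^^ 0 = 1 from rfl, reduceIte, zero_ne_one, Nat.zero_xor]
      ac_rfl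
    · simp only [show (1 : ℕ) ^^^ 1 = 0 from rfl, reduceIte, zero_ne_one, Nat.zero_xor]
      rw [show (a ^^^ lap m (v / 2)) ^^^ (a ^^^ lap m (w / 2)) =
        (a ^^^ a) ^^^ (lap m (v / 2) ^^^ lap m (w / 2)) by ac_rfl, Nat.xor_self, Nat.zero_xor]

/-- The generators on the spin module. -/
def gB : List (List ℕ) := [
    [128, 66, 36, 16, 24, 4, 2, 129],
    [129, 65, 32, 28, 40, 36, 194, 1],
    [131, 64, 40, 24, 8, 52, 66, 65],
    [130, 67, 44, 20, 48, 16, 128, 192],
    [3, 1, 8, 12, 32, 48, 192, 64],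
    [2, 3, 13, 6, 120, 148, 130, 193],
    [6, 11, 12, 4, 56, 20, 146, 225]]

/-- Two annihilators, two creators and two involutions of the spin module. -/
def opB : List (List ℕ) := [
    [0, 1, 0, 4, 32, 0, 128, 0],
    [2, 0, 8, 0, 0, 16, 0, 64],
    [0, 0, 1, 2, 64, 128, 0, 0],
    [4, 8, 0, 0, 0, 0, 16, 32],
    [1, 2, 4, 8, 24, 36, 66, 129],
    [128, 64, 32, 16, 8, 4, 2, 1]]

/-- The six combinations of these. -/
def dB : List (List ℕ) := [
    [0, 1, 0, 4, 32, 0, 128, 0],
    [2, 0, 8, 0, 0, 16, 0, 64],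
    [3, 3, 12, 12, 56, 52, 194, 193],
    [130, 65, 40, 20, 40, 20, 130, 65],
    [131, 67, 45, 30, 112, 176, 192, 192],
    [135, 75, 44, 28, 48, 48, 208, 224]]

/-- The standard basis of the spin module. -/
def basB : List ℕ := [1, 2, 4, 8, 128, 64, 32, 16]

/-- The generators on the permutation module. -/
def gA : List (List ℕ) := [
    [51, 33, 4, 8, 1, 3, 64, 128],
    [16, 52, 4, 8, 55, 22, 118, 128],
    [87, 2, 67, 8, 1, 103, 7, 128],
    [16, 2, 80, 8, 85, 32, 20, 128],
    [117, 103, 97, 8, 1, 32, 37, 128],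
    [16, 120, 126, 8, 123, 90, 64, 250],
    [16, 240, 246, 250, 243, 210, 64, 128]]

/-- The vectors of the pairs with the first point. -/
def usA : List ℕ := [17, 35, 54, 71, 84, 101, 122, 242]

/-- The generator of either module. -/
def gen (sp : Bool) (i : Fin 7) : List ℕ := ((if sp then gB else gA).getD i.val [])

/-- A word in the generators, the first letter outermost. -/
def wap (sp : Bool) : List (Fin 7) → ℕ → ℕ
  | [], v => v
  | i :: w, v => lap (gen sp i) (wap sp w v)

theorem gen_lt : ∀ sp i, ∀ v : Fin 256, lap (gen sp i) v.val < 256 := by decide +kernel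

theorem wap_lt (sp : Bool) : ∀ (w : List (Fin 7)) (v : ℕ), v < 256 → wap sp w v < 256
  | [], _, h => h
  | i :: w, v, h => gen_lt sp i ⟨_, wap_lt sp w v h⟩

theorem wap_append (sp : Bool) : ∀ (w w' : List (Fin 7)) (v : ℕ),
    wap sp (w ++ w') v = wap sp w (wap sp w' v)
  | [], _, _ => rfl
  | i :: w, w', v => congrArg (lap (gen sp i)) (wap_append sp w w' v)

theorem wap_xor (sp : Bool) : ∀ (w : List (Fin 7)) (v v' : ℕ),
    wap sp w (v ^^^ v') = wap sp w v ^^^ wap sp w v'
  | [], _, _ => rfl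
  | i :: w, v, v' => by rw [wap, wap, wap, wap_xor sp w, lap_xor]

end Cfsg.Agent.ThLocal
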