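import Cfsg.Agent.ThLocal.Trichotomy
import Cfsg.Agent.ThLocal.Model

/-!
When a three-cycle moves a plane only, the module is the permutation module.
-/

set_option autoImplicit false
set_option maxRecDepth 100000

open Cfsg.Agent.CoOneType Cfsg.Agent.ThreeTrans.OrthCohom Cfsg.Agent.Classical.Quad

namespace Cfsg.Agent.ThLocal

theorem z2_cases : ∀ a : ZMod 2, a = 0 ∨ a = 1 := by decide

theorem z2_self : ∀ a : ZMod 2, a + a = 0 := by decide

/-- A non-singular quadratic form on a module. -/
structure Form (W : Type*) [AddCommGroup W] [Module (ZMod 2) W] where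
  q : W → ZMod 2
  B : W → W → ZMod 2
  q_add : ∀ a b, q (a + b) = q a + q b + B a b
  B_add : ∀ a b c, B (a + b) c = B a c + B b c
  B_comm : ∀ a b, B a b = B b a
  nondeg : ∀ a, (∀ b, B a b = 0) → a = 0

namespace Form

variable {W : Type*} [AddCommGroup W] [Module (ZMod 2) W] (F : Form W)
include F

theorem B_add' (a b c : W) : F.B a (b + c) = F.B a b + F.B a c := by
  rw [F.B_comm, F.B_add, F.B_comm b, F.B_comm c]

theorem B_zero (a : W) : F.B 0 a = 0 := by
  have h := F.B_add 0 0 a
  rw [add_zero] at h
  exact add_eq_left.1 h.symm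

theorem B_self (a : W) : F.B a a = 0 := by
  have h := F.q_add a a
  have h0 := F.q_add 0 0
  rw [add_zero, F.B_zero, add_zero, z2_self] at h0
  rw [w_self, h0, z2_self, zero_add] at h
  exact h.symm

theorem B_smul (c : ZMod 2) (a b : W) : F.B (c • a) b = c * F.B a b := by
  rcases z2_cases c with rfl | rfl
  · rw [zero_smul, zero_mul, F.B_zero]
  · rw [one_smul, one_mul]

theorem B_smul' (c : ZMod 2) (a b : W) : F.B a (c • b) = c * F.B a b := by
  rw [F.B_comm, F.B_smul, F.B_comm]

theorem B_inv {g : W ≃ₗ[ZMod 2] W} (h : ∀ w, F.q (g w) = F.q w) (a b : W) :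
    F.B (g a) (g b) = F.B a b := by
  have e1 := F.q_add (g a) (g b)
  rw [← map_add, h, h, h, F.q_add a b] at e1
  exact (add_left_cancel e1).symm

end Form

/-- Closed under addition. -/
def Closed (T : Finset (ZMod 2 × ZMod 2 × ZMod 2)) : Prop := ∀ a ∈ T, ∀ b ∈ T, a + b ∈ T

instance closedDec : DecidablePred Closed := fun T => by unfold Closed; exact Finset.decidableDforallFinset

/-- The planes in a three-space avoiding a given vector. -/
theorem plane_count :
    ((Finset.univ : Finset (ZMod 2 × ZMod 2 × ZMod 2)).powerset.filter fun T => T.card = 4 ∧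
      (1, 1, 1) ∉ T ∧ Closed T).card ≤ 4 := by
  decide +kernel

theorem a9_distinct : ∀ i j : Fin 7, i ≠ j → a9 j ≠ a9 i ∧ a9 j ≠ a9 i * a9 i := by
  simp only [ne_eq, Subtype.ext_iff]; decide +kernel

theorem usA_code : (∀ k : Fin 8, usA.getD k.val 0 < 256 ∧ qn (usA.getD k.val 0) = true) ∧
    (∀ k l : Fin 8, k ≠ l → Bn (usA.getD k.val 0) (usA.getD l.val 0) = true) ∧
    ∀ i : Fin 7, ∀ k : Fin 8, lap (gen false i) (usA.getD k.val 0) =
      if k = 0 then usA.getD 0 0 ^^^ usA.getD (i.val + 1) 0
      else if k.val = i.val + 1 then usA.getD 0 0 else usA.getD 0 0 ^^^ usA.getD k.val 0 := by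
  decide +kernel

variable {W : Type*} [AddCommGroup W] [Module (ZMod 2) W] [Finite W]

/-- The normal form of the permutation module. -/
theorem perm_model (φ : A9 →* (W ≃ₗ[ZMod 2] W)) (hinj : Function.Injective φ) (hcard : Nat.card W = 256)
    (F : Form W) (hq : ∀ σ w, F.q (φ σ w) = F.q w)
    (h4 : ∀ i, Nat.card {w : W // mv (φ (a9 i)) w = w} = 4) :
    ∃ L : W ≃ₗ[ZMod 2] V, (∀ w, qP 4 (L w) = F.q w) ∧
      ∀ i w, L (φ (a9 i) w) = dc (lap (gen false i) (cd (L w)).val) := by
  classical
  have happ : ∀ a b : A9, ∀ w, φ (a * b) w = φ a (φ b w) := fun a b w => by rw [map_mul]; rfl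
  set t : Fin 7 → (W ≃ₗ[ZMod 2] W) := fun i => φ (a9 i)
  have h3 : ∀ i w, t i (t i (t i w)) = w := fun i w => by
    simp only [t]; rw [← happ, ← happ, a9_cube, map_one]; rfl
  have hB : ∀ i a b, F.B (t i a) (t i b) = F.B a b := fun i => F.B_inv (hq _)
  -- the moved part is orthogonal to the fixed one
  have hperp : ∀ i p w, mv (t i) p = p → F.B p w = F.B p (mv (t i) w) := by
    intro i p w hp
    have hk : ∀ k, t i k = k → F.B p k = 0 := by
      intro k hk
      have e : p = t i (t i p) + t i p := hp.symm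
      have e2 := hB i (t i p) k
      rw [hk] at e2
      rw [e, F.B_add, e2, z2_self]
    have hfix : t i (w + mv (t i) w) = w + mv (t i) w := mv_fix (h3 i) (by
      rw [mv_add, mv_idem (h3 i), w_self])
    have := hk _ hfix
    rw [F.B_add'] at this
    exact (by decide : ∀ a b : ZMod 2, a + b = 0 → a = b) _ _ this
  have hself : ∀ i p, mv (t i) p = p → p ≠ 0 → mv (t i) (t i p) = t i p ∧ F.q p = 1 ∧ F.B p (t i p) = 1 := by
    intro i p hp hp0
    have hpt : mv (t i) (t i p) = t i p := by rw [mv_comm (fun _ => rfl), hp]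
    have e : F.q p = F.B p (t i p) := by
      have h1 := F.q_add (t i p) p
      rw [← mv_sq hp, show F.q (t i (t i p)) = F.q p from (hq _ _).trans (hq _ _),
        show F.q (t i p) = F.q p from hq _ _, z2_self, zero_add] at h1
      rw [h1, F.B_comm]
    have hB1 : F.B p (t i p) = 1 := by
      refine (z2_cases _).resolve_left fun h0 => hp0 (F.nondeg p fun w => ?_)
      rw [hperp i p w hp]
      have hall : Function.Bijective fun c : ZMod 2 × ZMod 2 => (⟨c.1 • p + c.2 • t i p, by
          have hsm : ∀ (c : ZMod 2) w, mv (t i) (c • w) = c • mv (t i) w := fun c w => by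
            simp only [mv, map_smul, smul_add]
          rw [mv_add, hsm, hsm, hp, hpt]⟩ : {w : W // mv (t i) w = w}) :=
        (show Function.Injective _ from fun a b h => fpf_span hp hp0 (congrArg Subtype.val h)).bijective_of_nat_card_le
          (by rw [h4 i]; simp [Nat.card_prod])
      obtain ⟨c, hc⟩ := hall.2 ⟨mv (t i) w, mv_idem (h3 i) w⟩
      rw [← show c.1 • p + c.2 • t i p = mv (t i) w from congrArg Subtype.val hc, F.B_add', F.B_smul',
        F.B_smul', F.B_self, h0, mul_zero, mul_zero, add_zero]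
    exact ⟨hpt, e.trans hB1, hB1⟩
  -- coordinates in a plane
  have hcoord : ∀ i p x, mv (t i) p = p → p ≠ 0 →
      mv (t i) x = F.B (t i p) x • p + F.B p x • t i p := by
    intro i p x hp hp0
    obtain ⟨hpt, -, hB1⟩ := hself i p hp hp0
    have hmem : ∀ c : ZMod 2 × ZMod 2, mv (t i) (c.1 • p + c.2 • t i p) = c.1 • p + c.2 • t i p := by
      intro c
      have hsm : ∀ (c : ZMod 2) w, mv (t i) (c • w) = c • mv (t i) w := fun c w => by
        simp only [mv, map_smul, smul_add]
      rw [mv_add, hsm, hsm, hp, hpt]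
    have hall : Function.Bijective fun c : ZMod 2 × ZMod 2 => (⟨_, hmem c⟩ : {w : W // mv (t i) w = w}) :=
      (show Function.Injective _ from fun a b h => fpf_span hp hp0 (congrArg Subtype.val h)).bijective_of_nat_card_le
        (by rw [h4 i]; simp [Nat.card_prod])
    obtain ⟨c, hc⟩ := hall.2 ⟨mv (t i) x, mv_idem (h3 i) x⟩
    have hcx : c.1 • p + c.2 • t i p = mv (t i) x := congrArg Subtype.val hc
    rw [hperp i p x hp, hperp i _ x hpt, ← hcx, F.B_add', F.B_add', F.B_smul', F.B_smul', F.B_smul',
      F.B_smul', F.B_self, F.B_self, F.B_comm (t i p) p, hB1, mul_zero, mul_zero, mul_one, mul_one,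
      add_zero, zero_add]
  -- a plane is spanned by two of its vectors
  have hspan : ∀ i a b x, mv (t i) a = a → mv (t i) b = b → a ≠ 0 → b ≠ 0 → a ≠ b → mv (t i) x = x →
      x = 0 ∨ x = a ∨ x = b ∨ x = a + b := by
    intro i a b x ha hb ha0 hb0 hab hx
    have eb := hcoord i a b ha ha0
    have ex := hcoord i a x ha ha0
    rw [hb] at eb; rw [hx] at ex
    revert eb ex
    rcases z2_cases (F.B (t i a) b) with e1 | e1 <;> rcases z2_cases (F.B a b) with e2 | e2 <;>
      rcases z2_cases (F.B (t i a) x) with e3 | e3 <;> rcases z2_cases (F.B a x) with e4 | e4 <;>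
      simp only [e1, e2, e3, e4, zero_smul, one_smul, zero_add, add_zero] <;> intro eb ex <;>
      first
      | exact absurd eb hb0
      | exact absurd eb.symm hab
      | exact Or.inl ex
      | exact Or.inr (Or.inl ex)
      | exact Or.inr (Or.inr (Or.inl (ex.trans eb.symm)))
      | (refine Or.inr (Or.inr (Or.inr ?_)); rw [eb, ex]; done)
      | (refine Or.inr (Or.inr (Or.inr ?_)); rw [eb, ex, ← add_assoc, w_self, zero_add])
  -- two planes meet in a line
  have hmeet : ∀ i j, i ≠ j → ∃ p, p ≠ 0 ∧ mv (t i) p = p ∧ mv (t j) p = p := by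
    intro i j hij
    by_contra hno
    push Not at hno
    have hK : ∀ x, mv (t j) x = 0 → mv (t i) x = 0 := by
      intro x hx
      set y := t i (t i x) with hy
      have e : t j (t j y) = t i x := by
        have h := congrArg (fun σ => φ σ x) (show a9 i * a9 j = (a9 j * a9 j) * (a9 i * a9 i) by
          calc a9 i * a9 j = a9 i * a9 j * (a9 i * a9 j) * ((a9 j)⁻¹ * (a9 i)⁻¹) := by group
            _ = (a9 j * a9 j) * (a9 i * a9 i) := by
              rw [a9_pair i j hij, one_mul, inv_eq_of_mul_eq_one_right (by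
                rw [← mul_assoc]; exact a9_cube j), inv_eq_of_mul_eq_one_right (by
                rw [← mul_assoc]; exact a9_cube i)])
        simp only [happ] at h
        rw [show φ (a9 j) x = x from mv_fix (h3 j) hx] at h
        exact h.symm
      by_contra hne
      refine hno _ hne (mv_idem (h3 i) x) ?_
      have he : mv (t i) x = t j (t j y) + y := by rw [e]; exact add_comm _ _
      have hz : ∀ w, mv (t j) (t j (t j w) + w) = t j (t j w) + w := by
        intro w
        simp only [mv, map_add, h3 j]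
        calc t j w + t j (t j w) + (w + t j w) = t j (t j w) + w + (t j w + t j w) := by abel
          _ = t j (t j w) + w := by rw [w_self, add_zero]
      rw [he]; exact hz y
    obtain ⟨⟨p, hp⟩, hp0⟩ : ∃ p : {w : W // mv (t i) w = w}, p.1 ≠ 0 := by
      by_contra h
      push Not at h
      haveI : Subsingleton {w : W // mv (t i) w = w} := ⟨fun a b => Subtype.ext ((h a).trans (h b).symm)⟩
      have : Nat.card {w : W // mv (t i) w = w} = 4 := h4 i
      have h1 : Nat.card {w : W // mv (t i) w = w} ≤ 1 := Finite.card_le_one_iff_subsingleton.2 inferInstance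
      omega
    refine hno p hp0 hp ?_
    by_contra hne
    refine hne (w_eq ?_).symm
    refine F.nondeg _ fun w => ?_
    have hw : mv (t j) (w + mv (t j) w) = 0 := by rw [mv_add, mv_idem (h3 j), w_self]
    have h1 : F.B p (w + mv (t j) w) = 0 := by
      rw [hperp i p _ hp, hK _ hw, F.B_comm, F.B_zero]
    rw [F.B_add'] at h1
    have h2 : F.B (mv (t j) p) w = F.B p (mv (t j) w) := by
      rw [hperp j _ w (mv_idem (h3 j) p), F.B_comm, ← hperp j _ p (mv_idem (h3 j) w), F.B_comm]
    rw [F.B_add, h2]
    exact h1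
  have hdist : ∀ i j, i ≠ j → ∃ p, mv (t i) p = p ∧ mv (t j) p ≠ p := by
    intro i j hij
    by_contra hsame
    push Not at hsame
    have hfx : ∀ w, mv (t j) w = mv (t i) w := by
      intro w
      refine w_eq (F.nondeg _ fun x => ?_)
      have e : ∀ k a b, F.B (mv (t k) a) b = F.B a (mv (t k) b) := fun k a b => by
        rw [hperp k _ b (mv_idem (h3 k) a), F.B_comm, ← hperp k _ a (mv_idem (h3 k) b), F.B_comm]
      rw [F.B_add, hperp i (mv (t i) w) x (mv_idem (h3 i) w), ← hperp i _ _ (mv_idem (h3 i) w)]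
      rw [e, e i, ← F.B_add']
      obtain ⟨c, hc⟩ : ∃ c, c = mv (t j) x + mv (t i) x := ⟨_, rfl⟩
      have hij' : ∀ a, mv (t j) a = a → mv (t i) a = a := by
        intro a ha
        have hbij : Function.Bijective fun p : {w : W // mv (t i) w = w} =>
            (⟨p.1, hsame p.1 p.2⟩ : {w : W // mv (t j) w = w}) :=
          (show Function.Injective _ from fun a b h => Subtype.ext (congrArg (fun p => p.1) h)).bijective_of_nat_card_le
            (by rw [h4 i, h4 j])
        obtain ⟨b, hb⟩ := hbij.2 ⟨a, ha⟩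
        rw [← show b.1 = a from congrArg Subtype.val hb]
        exact b.2
      rw [← hc]
      have h1 : mv (t i) c = c := by
        rw [hc, mv_add, hij' _ (mv_idem (h3 j) x), mv_idem (h3 i)]
      have h2 : mv (t i) c = 0 := by
        rw [hc, mv_add, mv_idem (h3 i)]
        have : mv (t i) (mv (t j) x) = mv (t i) x := by
          refine w_eq (F.nondeg _ fun y => ?_)
          rw [F.B_add, e, e j, hsame _ (mv_idem (h3 i) y), e, z2_self]
        rw [this, w_self]
      rw [show c = 0 from h1.symm.trans h2, F.B_comm, F.B_zero]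
    obtain ⟨⟨p, hp⟩, hp0⟩ : ∃ p : {w : W // mv (t i) w = w}, p.1 ≠ 0 := by
      obtain ⟨p, h0, h1, -⟩ := hmeet i j hij
      exact ⟨⟨p, h1⟩, h0⟩
    obtain ⟨hpt, -, -⟩ := hself i p hp hp0
    have hne : t i p ≠ p := fun e => hp0 (by
      calc p = mv (t i) p := hp.symm
        _ = 0 := by simp only [mv, e, w_self])
    have hcases := hspan i p (t i p) (t j p) hp hpt hp0 (fun e => hp0 ((t i).map_eq_zero_iff.1 e)) hne.symm
      (by rw [← hfx]; rw [mv_comm (fun _ => rfl), hsame p hp])
    have hjp : t j p ≠ p := fun e => hp0 (by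
      calc p = mv (t j) p := (hsame p hp).symm
        _ = 0 := by simp only [mv, e, w_self])
    have hdet : ∀ s : W ≃ₗ[ZMod 2] W, (∀ w, mv (t i) w = 0 → s w = w) → t j p = s p →
        t j (t i p) = s (t i p) → t j = s := by
      intro s hs e1 e2
      refine LinearEquiv.ext fun w => ?_
      have hk : mv (t i) (w + mv (t i) w) = 0 := by rw [mv_add, mv_idem (h3 i), w_self]
      have hkj : t j (w + mv (t i) w) = w + mv (t i) w := mv_fix (h3 j) (by rw [hfx, hk])
      have e := hcoord i p w hp hp0
      calc t j w = t j ((w + mv (t i) w) + mv (t i) w) := by rw [w_cancel]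
        _ = s ((w + mv (t i) w) + mv (t i) w) := by
          rw [map_add (t j), hkj, map_add s, hs _ hk, e, map_add, map_add, map_smul, map_smul, map_smul,
            map_smul, e1, e2]
        _ = s w := by rw [w_cancel]
    have hjj : t j (t j p) = t j p + p := mv_sq (hsame p hp)
    rcases hcases with e | e | e | e
    · exact hp0 ((t j).map_eq_zero_iff.1 e)
    · exact hjp e
    · refine (a9_distinct i j hij).1 (hinj (hdet (t i) (fun w hw => mv_fix (h3 i) hw) e ?_))
      rw [← e, hjj, e, mv_sq hp]
    · refine (a9_distinct i j hij).2 (hinj ?_)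
      rw [map_mul]
      refine hdet (t i * t i) (fun w hw => ?_) ?_ ?_
      · show t i (t i w) = w
        rw [mv_fix (h3 i) hw, mv_fix (h3 i) hw]
      · show t j p = t i (t i p)
        rw [e, mv_sq hp, add_comm]
      · show t j (t i p) = t i (t i (t i p))
        rw [h3, show t i p = t j p + p by rw [e, add_right_comm, w_self, zero_add], map_add, hjj,
          add_right_comm, w_self, zero_add]
  -- all planes have a common vector
  obtain ⟨v, hv0, hv₀, hv₁⟩ := hmeet 0 1 (by decide)
  have hv : ∀ i, mv (t i) v = v := by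
    by_contra hnot
    push Not at hnot
    obtain ⟨k, hk⟩ := hnot
    have hk0 : k ≠ 0 := fun e => hk (e ▸ hv₀)
    have hk1 : k ≠ 1 := fun e => hk (e ▸ hv₁)
    obtain ⟨u, hu0, hu₀, huk⟩ := hmeet 0 k hk0.symm
    obtain ⟨u', hu'0, hu'₁, hu'k⟩ := hmeet 1 k hk1.symm
    have hvu : v ≠ u := fun e => hk (e ▸ huk)
    have hvu' : v ≠ u' := fun e => hk (e ▸ hu'k)
    have h01 : ∀ x, mv (t 0) x = x → mv (t 1) x = x → x = 0 ∨ x = v := by
      intro x hx₀ hx₁
      by_contra hno
      push Not at hno
      obtain ⟨p, hp0', hp1⟩ := hdist 0 1 (by decide)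
      refine hp1 ?_
      rcases hspan 0 v x p hv₀ hx₀ hv0 hno.1 (Ne.symm hno.2) hp0' with rfl | rfl | rfl | rfl
      · simp [mv]
      · exact hv₁
      · exact hx₁
      · rw [mv_add, hv₁, hx₁]
    have huu' : u ≠ u' := fun e => by
      rcases h01 u hu₀ (e ▸ hu'₁) with h | h
      · exact hu0 h
      · exact hvu h.symm
    have hB1 : ∀ i a b, mv (t i) a = a → mv (t i) b = b → a ≠ 0 → b ≠ 0 → a ≠ b → F.B a b = 1 := by
      intro i a b ha hb ha0 hb0 hab
      refine (z2_cases _).resolve_left fun h0 => ?_
      have e := hcoord i a b ha ha0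
      rw [hb, h0, zero_smul, add_zero] at e
      rcases z2_cases (F.B (t i a) b) with e' | e' <;> rw [e'] at e
      · exact hb0 (by rwa [zero_smul] at e)
      · exact hab (by rw [one_smul] at e; exact e.symm)
    let f : ZMod 2 × ZMod 2 × ZMod 2 → W := fun c => c.1 • v + c.2.1 • u + c.2.2 • u'
    have hfadd : ∀ c d, f (c + d) = f c + f d := fun c d => by
      simp only [f, Prod.fst_add, Prod.snd_add, add_smul]; abel
    have e1 := hB1 0 v u hv₀ hu₀ hv0 hu0 hvu
    have e2 := hB1 1 v u' hv₁ hu'₁ hv0 hu'0 hvu'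
    have e3 := hB1 k u u' huk hu'k hu0 hu'0 huu'
    have hr : f (1, 1, 1) ≠ 0 := fun h => hk (by
      have : v = u + u' := by
        simp only [f, one_smul] at h
        rw [add_assoc] at h
        exact w_eq h
      rw [this, mv_add, huk, hu'k])
    have hfinj : Function.Injective f := by
      intro c d h
      refine (by decide : ∀ a b : ZMod 2 × ZMod 2 × ZMod 2, a + b = 0 → a = b) _ _ ?_
      have h0 : f (c + d) = 0 := by rw [hfadd, h, w_self]
      generalize c + d = e at h0 ⊢
      obtain ⟨a, b, c⟩ := e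
      have k1 := congrArg (F.B v) h0
      have k2 := congrArg (F.B u) h0
      have k3 := congrArg (F.B u') h0
      have hB0 : ∀ w, F.B w 0 = 0 := fun w => by rw [F.B_comm, F.B_zero]
      simp only [f, F.B_add', F.B_smul', F.B_self, hB0, e1, e2, e3, F.B_comm u v, F.B_comm u' v,
        F.B_comm u' u, mul_zero, mul_one, zero_add, add_zero] at k1 k2 k3
      rcases z2_cases a with rfl | rfl <;> rcases z2_cases b with rfl | rfl <;>
        rcases z2_cases c with rfl | rfl <;>
        first | rfl | (exfalso; revert k1 k2 k3; decide) | exact absurd h0 hr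
    have hS : ∀ i, ∀ x, mv (t i) x = x → ∃ c, f c = x := by
      have hplane : ∀ i a b ca cb, f ca = a → f cb = b → mv (t i) a = a → mv (t i) b = b → a ≠ 0 → b ≠ 0 →
          a ≠ b → ∀ x, mv (t i) x = x → ∃ c, f c = x := by
        intro i a b ca cb ea eb ha hb ha0 hb0 hab x hx
        rcases hspan i a b x ha hb ha0 hb0 hab hx with rfl | rfl | rfl | rfl
        exacts [⟨0, by simp [f]⟩, ⟨ca, ea⟩, ⟨cb, eb⟩, ⟨ca + cb, by rw [hfadd, ea, eb]⟩]
      have fv : f (1, 0, 0) = v := by simp [f]
      have fu : f (0, 1, 0) = u := by simp [f]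
      have fu' : f (0, 0, 1) = u' := by simp [f]
      have hkS := hplane k u u' _ _ fu fu' huk hu'k hu0 hu'0 huu'
      intro i
      by_cases hiv : mv (t i) v = v
      · obtain rfl | hi0 := eq_or_ne i 0
        · exact hplane 0 v u _ _ fv fu hv₀ hu₀ hv0 hu0 hvu
        obtain ⟨w, hw0, hwi, hwk⟩ := hmeet i k (fun e => hk (e ▸ hiv))
        obtain ⟨cw, hcw⟩ := hkS w hwk
        exact hplane i v w _ _ fv hcw hiv hwi hv0 hw0 (fun e => hk (e ▸ hwk))
      · have hi0 : i ≠ 0 := fun e => hiv (e ▸ hv₀)
        have hi1 : i ≠ 1 := fun e => hiv (e ▸ hv₁)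
        obtain ⟨w, hw0, hw₀, hwi⟩ := hmeet 0 i hi0.symm
        obtain ⟨w', hw'0, hw'₁, hw'i⟩ := hmeet 1 i hi1.symm
        obtain ⟨cw, hcw⟩ := hplane 0 v u _ _ fv fu hv₀ hu₀ hv0 hu0 hvu w hw₀
        obtain ⟨cw', hcw'⟩ := hplane 1 v u' _ _ fv fu' hv₁ hu'₁ hv0 hu'0 hvu' w' hw'₁
        refine hplane i w w' _ _ hcw hcw' hwi hw'i hw0 hw'0 fun e => ?_
        rcases h01 w hw₀ (e ▸ hw'₁) with h | h
        · exact hw0 h
        · exact hiv (h ▸ hwi)
    let T : Fin 7 → Finset (ZMod 2 × ZMod 2 × ZMod 2) := fun i =>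
      Finset.univ.filter fun c => mv (t i) (f c) = f c
    have hT : ∀ i, T i ∈ (Finset.univ : Finset (ZMod 2 × ZMod 2 × ZMod 2)).powerset.filter fun T =>
        T.card = 4 ∧ (1, 1, 1) ∉ T ∧ Closed T := by
      intro i
      have hmT : ∀ c, c ∈ T i ↔ mv (t i) (f c) = f c := fun c =>
        ⟨fun h => (Finset.mem_filter.1 h).2, fun h => Finset.mem_filter.2 ⟨Finset.mem_univ _, h⟩⟩
      refine Finset.mem_filter.2 ⟨Finset.mem_powerset.2 (Finset.subset_univ _), ?_, fun h => ?_,
        fun a ha b hb => (hmT _).2 (by rw [hfadd, mv_add, (hmT a).1 ha, (hmT b).1 hb])⟩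
      · rw [← h4 i, ← Fintype.card_coe, ← Nat.card_eq_fintype_card]
        refine Nat.card_congr (Equiv.ofBijective (fun c => ⟨f c.1, (Finset.mem_filter.1 c.2).2⟩) ⟨?_, ?_⟩)
        · exact fun a b h => Subtype.ext (hfinj (congrArg Subtype.val h))
        · rintro ⟨x, hx⟩
          obtain ⟨c, rfl⟩ := hS i x hx
          exact ⟨⟨c, Finset.mem_filter.2 ⟨Finset.mem_univ _, hx⟩⟩, rfl⟩
      · replace h := (hmT _).1 h
        obtain ⟨-, -, hb1⟩ := hself i _ h hr
        obtain ⟨⟨a, b, c⟩, hc⟩ := hS i (t i (f (1, 1, 1))) (hself i _ h hr).1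
        rw [← hc] at hb1
        simp only [f, F.B_add', F.B_add, F.B_smul', F.B_smul, F.B_self, e1, e2, e3, F.B_comm u v,
          F.B_comm u' v, F.B_comm u' u, one_mul, mul_zero, mul_one, zero_add, add_zero] at hb1
        revert hb1; clear hc; revert a b c; decide
    have hTinj : Function.Injective T := by
      intro i j h
      by_contra hij
      obtain ⟨p, hp, hpj⟩ := hdist i j hij
      obtain ⟨c, rfl⟩ := hS i p hp
      have : c ∈ T i := Finset.mem_filter.2 ⟨Finset.mem_univ _, hp⟩
      rw [h] at this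
      exact hpj (Finset.mem_filter.1 this).2
    have := Finset.card_le_card_of_injOn (s := Finset.univ) T (fun i _ => hT i) hTinj.injOn
    rw [Finset.card_univ, Fintype.card_fin] at this
    exact absurd (this.trans plane_count) (by norm_num)
  -- the basis
  let w1 : Fin 7 → W := fun i => t i (t i v)
  have hw2 : ∀ i, t i v = v + w1 i := fun i => by
    simp only [w1]
    rw [mv_sq (hv i)]
    calc t i v = t i v + (v + v) := by rw [w_self, add_zero]
      _ = v + (t i v + v) := by abel
  have hBv : ∀ i, F.B v (w1 i) = 1 := fun i => by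
    show F.B v (t i (t i v)) = 1
    rw [mv_sq (hv i), F.B_add', F.B_self, (hself i v (hv i) hv0).2.2, add_zero]
  have hw1 : ∀ i, mv (t i) (w1 i) = w1 i := fun i => by
    simp only [w1]; rw [mv_comm (fun _ => rfl), mv_comm (fun _ => rfl), hv i]
  have hw1v : ∀ i, t i (w1 i) = v := fun i => h3 i v
  have hmix : ∀ i j, i ≠ j → F.B (t i v) (w1 j) = 0 ∧ F.B (w1 i) (w1 j) = 1 := by
    intro i j hij
    have hx : ∀ i x, t i x = t i (mv (t i) x) + (x + mv (t i) x) := fun i x => by
      conv_rhs => rw [← mv_fix (h3 i) (show mv (t i) (x + mv (t i) x) = 0 by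
        rw [mv_add, mv_idem (h3 i), w_self]), ← map_add, add_comm, w_cancel]
    have h := congrArg (fun σ => φ σ v) (show a9 i * a9 j = (a9 j * a9 j) * (a9 i * a9 i) by
      calc a9 i * a9 j = a9 i * a9 j * (a9 i * a9 j) * ((a9 j)⁻¹ * (a9 i)⁻¹) := by group
        _ = (a9 j * a9 j) * (a9 i * a9 i) := by
          rw [a9_pair i j hij, one_mul, inv_eq_of_mul_eq_one_right (by
            rw [← mul_assoc]; exact a9_cube j), inv_eq_of_mul_eq_one_right (by
            rw [← mul_assoc]; exact a9_cube i)])
    simp only [happ] at h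
    change t i (t j v) = t j (t j (w1 i)) at h
    have e1 : t i (t j v) = v + t j v + F.B (t i v) (t j v) • w1 i := by
      rw [hx i, hcoord i v (t j v) (hv i) hv0, (hself j v (hv j) hv0).2.2, one_smul, map_add, map_smul]
      rcases z2_cases (F.B (t i v) (t j v)) with e | e <;> rw [e] <;>
        simp only [zero_smul, one_smul, zero_add, add_zero]
      · calc t i (t i v) + (t j v + t i v) = t i (t i v) + t i v + t j v := by abel
          _ = v + t j v := by rw [show t i (t i v) + t i v = v from hv i]
      · calc t i v + t i (t i v) + (t j v + (v + t i v))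
            = v + t j v + t i (t i v) + (t i v + t i v) := by abel
          _ = v + t j v + w1 i := by rw [w_self, add_zero]
    have e2 : t j (t j (w1 i)) = v + w1 i + t j v + F.B (t j v) (w1 i) • t j v := by
      rw [hx j (w1 i), map_add, hx j (t j (mv (t j) (w1 i)))]
      rw [mv_comm (fun _ => rfl), mv_idem (h3 j), w_self, add_zero,
        mv_fix (h3 j) (show mv (t j) (w1 i + mv (t j) (w1 i)) = 0 by rw [mv_add, mv_idem (h3 j), w_self]),
        hcoord j v (w1 i) (hv j) hv0, hBv, one_smul, map_add, map_add, map_smul, map_smul, h3 j]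
      rcases z2_cases (F.B (t j v) (w1 i)) with e | e <;> rw [e] <;>
        simp only [zero_smul, one_smul, zero_add, add_zero]
      · abel
      · rw [mv_sq (hv j)]
        calc t j v + v + v + (w1 i + (v + t j v))
            = v + w1 i + (t j v + t j v) + (v + v) := by abel
          _ = v + w1 i + t j v + t j v := by rw [w_self (t j v), w_self v, add_zero, add_zero, w_cancel]
    rw [e1, e2] at h
    have hne : w1 i ≠ t j v := fun e => by
      have h1 : mv (t j) (w1 i) = w1 i := by rw [e, (hself j v (hv j) hv0).1]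
      obtain ⟨p, hp, hpj⟩ := hdist i j hij
      rcases hspan i v (w1 i) p (hv i) (hw1 i) hv0
        (fun e' => hv0 (by rw [← hw1v i, e', map_zero]))
        (fun e' => one_ne_zero ((hBv i).symm.trans (e' ▸ F.B_self v))) hp with rfl | rfl | rfl | rfl
      · exact hpj (by simp [mv])
      · exact hpj (hv j)
      · exact hpj h1
      · exact hpj (by rw [mv_add, hv j, h1])
    have hsum : F.B (t i v) (t j v) = 1 + F.B (t j v) (w1 i) := by
      rw [hw2 i, F.B_add, (hself j v (hv j) hv0).2.2, F.B_comm (w1 i)]
    rw [hsum] at h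
    have hε : F.B (t j v) (w1 i) = 0 := by
      refine (z2_cases _).resolve_right fun e => hne ?_
      rw [e, z2_self, zero_smul, add_zero, one_smul] at h
      refine (w_eq ?_)
      have h' := congrArg (· + (v + t j v)) h
      simp only [w_self] at h'
      rw [h']
      calc w1 i + t j v = w1 i + t j v + ((v + v) + (t j v + t j v)) := by rw [w_self, w_self, add_zero, add_zero]
        _ = v + w1 i + t j v + t j v + (v + t j v) := by abel
    rw [hε, add_zero] at hsum
    rw [hw2 j, F.B_add', F.B_comm (t i v) v, (hself i v (hv i) hv0).2.2] at hsum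
    have h0 : F.B (t i v) (w1 j) = 0 := add_eq_left.1 hsum
    refine ⟨h0, ?_⟩
    rw [hw2 i, F.B_add, hBv] at h0
    exact ((by decide : ∀ a b : ZMod 2, a + b = 0 → a = b) _ _ h0).symm
  let us : Fin 8 → W := Fin.cons v w1
  obtain ⟨hu1, hu2, hu3⟩ := usA_code
  have hgram : ∀ k l, k ≠ l → F.B (us k) (us l) = 1 := by
    intro k
    refine Fin.cases ?_ (fun i => ?_) k <;> intro l <;> refine Fin.cases ?_ (fun j => ?_) l <;>
      intro hkl <;> simp only [us, Fin.cons_zero, Fin.cons_succ]
    · exact absurd rfl hkl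
    · exact hBv j
    · rw [F.B_comm]; exact hBv i
    · exact (hmix i j fun e => hkl (by rw [e])).2
  have hqu : ∀ k, F.q (us k) = 1 := by
    intro k
    refine Fin.cases ?_ (fun i => ?_) k <;> simp only [us, Fin.cons_zero, Fin.cons_succ]
    · exact (hself 0 v (hv 0) hv0).2.1
    · exact (hself i _ (hw1 i) (fun e => hv0 (by rw [← hw1v i, e, map_zero]))).2.1
  let E : (Fin 8 → ZMod 2) →ₗ[ZMod 2] W := Fintype.linearCombination (ZMod 2) us
  let G : (Fin 8 → ZMod 2) →ₗ[ZMod 2] V := Fintype.linearCombination (ZMod 2) fun k => dc (usA.getD k.val 0)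
  have hBE : ∀ c k, F.B (E c) (us k) = (∑ l, c l) + c k := by
    intro c k
    simp only [E, Fintype.linearCombination_apply, Fin.sum_univ_eight, F.B_add, F.B_smul]
    have hB' : ∀ l, F.B (us l) (us k) = 1 + (if l = k then 1 else 0) := by
      intro l
      split_ifs with e
      · rw [e, F.B_self, z2_self]
      · rw [hgram l k e, add_zero]
    simp only [hB', mul_add, mul_one, mul_ite, mul_zero]
    fin_cases k <;> simp <;> ring
  have hBG : ∀ c k, Bp (G c) (dc (usA.getD k.val 0)) = (∑ l, c l) + c k := by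
    intro c k
    simp only [G, Fintype.linearCombination_apply, Fin.sum_univ_eight, Bp_add_left, Bp_smul_left]
    have hB' : ∀ l : Fin 8, Bp (dc (usA.getD l.val 0)) (dc (usA.getD k.val 0)) =
        1 + (if l = k then 1 else 0) := by
      intro l
      split_ifs with e
      · rw [e, Bp_self, z2_self]
      · rw [Bp_dc (hu1 l).1 (hu1 k).1, hu2 l k e, add_zero]; rfl
    simp only [hB', mul_add, mul_one, mul_ite, mul_zero]
    fin_cases k <;> simp <;> ring
  have hJ : ∀ c : Fin 8 → ZMod 2, (∀ k, (∑ l, c l) + c k = 0) → c = 0 := by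
    intro c hc
    have hk : ∀ k, c k = ∑ l, c l := fun k =>
      ((by decide : ∀ a b : ZMod 2, a + b = 0 → a = b) _ _ (hc k)).symm
    have hS : ∑ l, c l = 0 := by
      rw [Finset.sum_congr rfl fun l _ => hk l, Finset.sum_const, Finset.card_univ, Fintype.card_fin]
      exact (by decide : ∀ a : ZMod 2, (8 : ℕ) • a = 0) _
    exact funext fun k => (hk k).trans hS
  have hEinj : Function.Injective E := by
    rw [← LinearMap.ker_eq_bot, LinearMap.ker_eq_bot']
    exact fun c hc => hJ c fun k => by rw [← hBE, hc, F.B_zero]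
  have hGinj : Function.Injective G := by
    rw [← LinearMap.ker_eq_bot, LinearMap.ker_eq_bot']
    exact fun c hc => hJ c fun k => by rw [← hBG, hc, Bp_zero_left]
  have hEb : Function.Bijective E := hEinj.bijective_of_nat_card_le (by simp [hcard])
  have hGb : Function.Bijective G := hGinj.bijective_of_nat_card_le (by simp)
  let eE := LinearEquiv.ofBijective E hEb
  let eG := LinearEquiv.ofBijective G hGb
  have hqc : ∀ c, F.q (E c) = qP 4 (G c) := by
    have hBB : ∀ c k, F.B (E c) (us k) = Bp (G c) (dc (usA.getD k.val 0)) := fun c k => by rw [hBE, hBG]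
    have key : ∀ s : Finset (Fin 8), ∀ c : Fin 8 → ZMod 2,
        F.q (∑ k ∈ s, c k • us k) = qP 4 (∑ k ∈ s, c k • dc (usA.getD k.val 0)) := by
      intro s c
      induction s using Finset.induction with
      | empty =>
        rw [Finset.sum_empty, Finset.sum_empty, map_zero]
        have h0 := F.q_add 0 0
        rw [add_zero, F.B_zero, add_zero, z2_self] at h0
        exact h0
      | @insert a s ha ih =>
        rw [Finset.sum_insert ha, Finset.sum_insert ha, F.q_add, q_add, ih]
        have hsW : ∑ k ∈ s, c k • us k = ∑ k, (if k ∈ s then c k else 0) • us k := by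
          simp only [ite_smul, zero_smul, Finset.sum_ite_mem, Finset.univ_inter]
        have hsV : ∑ k ∈ s, c k • dc (usA.getD k.val 0) =
            ∑ k, (if k ∈ s then c k else 0) • dc (usA.getD k.val 0) := by
          simp only [ite_smul, zero_smul, Finset.sum_ite_mem, Finset.univ_inter]
        have hb : F.B (c a • us a) (∑ k ∈ s, c k • us k) =
            Bp (c a • dc (usA.getD a.val 0)) (∑ k ∈ s, c k • dc (usA.getD k.val 0)) := by
          rw [F.B_smul, Bp_smul_left, F.B_comm, Bp_comm (dc _), hsW, hsV]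
          have := hBB (fun k => if k ∈ s then c k else 0) a
          simp only [E, G, Fintype.linearCombination_apply] at this
          rw [this]
        have hqa : F.q (c a • us a) = qP 4 (c a • dc (usA.getD a.val 0)) := by
          rcases z2_cases (c a) with e | e <;> rw [e]
          · rw [zero_smul, zero_smul, map_zero]
            have h0 := F.q_add 0 0
            rw [add_zero, F.B_zero, add_zero, z2_self] at h0
            exact h0
          · rw [one_smul, one_smul, hqu, q_dc (hu1 a).1, (hu1 a).2]; rfl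
        rw [hqa, hb]
    intro c
    simp only [E, G, Fintype.linearCombination_apply]
    exact key Finset.univ c
  refine ⟨eE.symm.trans eG, fun w => ?_, fun i w => ?_⟩
  · obtain ⟨c, rfl⟩ := eE.surjective w
    simp only [LinearEquiv.trans_apply, LinearEquiv.symm_apply_apply]
    exact (hqc c).symm
  have hlap : ∀ (m : List ℕ) (x y : V), dc (lap m (cd (x + y)).val) = dc (lap m (cd x).val) + dc (lap m (cd y).val) := by
    intro m x y
    rw [← dc_xor, ← lap_xor]
    congr 2
    refine dc_inj (cd _).isLt (xor_lt (cd x).isLt (cd y).isLt) ?_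
    rw [dc_cd, dc_xor, dc_cd, dc_cd]
  have hLus : ∀ k : Fin 8, (eE.symm.trans eG) (us k) = dc (usA.getD k.val 0) := by
    intro k
    have e : us k = eE (Pi.single k 1) := by
      show us k = E (Pi.single k 1)
      simp [E, Fintype.linearCombination_apply, Pi.single_apply]
    rw [e, LinearEquiv.trans_apply, LinearEquiv.symm_apply_apply]
    show G (Pi.single k 1) = _
    simp [G, Fintype.linearCombination_apply, Pi.single_apply]
  set L := eE.symm.trans eG
  have hus : ∀ k : Fin 8, L (t i (us k)) = dc (lap (gen false i) (usA.getD k.val 0)) := by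
    intro k
    rw [hu3 i k]
    refine Fin.cases ?_ (fun j => ?_) k
    · rw [if_pos rfl, show us 0 = v from rfl, hw2, map_add, dc_xor, show w1 i = us i.succ from
        rfl, show v = us 0 from rfl, hLus, hLus]
      rfl
    · rw [if_neg (Fin.succ_ne_zero j), show us j.succ = w1 j from rfl]
      obtain rfl | hji := eq_or_ne i j
      · rw [if_pos (Fin.val_succ i), hw1v, show v = us 0 from rfl, hLus]
        rfl
      · rw [if_neg (fun e => hji (Fin.ext (by rw [Fin.val_succ] at e; omega)).symm), dc_xor]
        have e : t i (w1 j) = v + w1 j := by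
          have hx : t i (w1 j) = t i (mv (t i) (w1 j)) + (w1 j + mv (t i) (w1 j)) := by
            conv_rhs => rw [← mv_fix (h3 i) (show mv (t i) (w1 j + mv (t i) (w1 j)) = 0 by
              rw [mv_add, mv_idem (h3 i), w_self]), ← map_add, add_comm, w_cancel]
          rw [hx, hcoord i v _ (hv i) hv0, (hmix i j hji).1, hBv, zero_smul, one_smul, zero_add]
          calc t i (t i v) + (w1 j + t i v) = t i (t i v) + t i v + w1 j := by abel
            _ = v + w1 j := by rw [show t i (t i v) + t i v = v from hv i]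
        rw [e, map_add, show v = us 0 from rfl, show w1 j = us j.succ from rfl,
          hLus, hLus]
        rfl
  obtain ⟨c, rfl⟩ := hEb.2 w
  simp only [E, Fintype.linearCombination_apply, map_sum, map_smul]
  let D : V →+ V := AddMonoidHom.mk' (fun x => dc (lap (gen false i) (cd x).val)) (hlap _)
  show _ = D _
  rw [map_sum]
  refine Finset.sum_congr rfl fun k _ => ?_
  rcases z2_cases (c k) with e | e <;> rw [e]
  · rw [zero_smul, zero_smul, map_zero]
  · rw [one_smul, one_smul, hLus]
    show L (t i (us k)) = dc (lap (gen false i) (cd (dc (usA.getD k.val 0))).val)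
    rw [hus, show (cd (dc (usA.getD k.val 0))).val = usA.getD k.val 0 from
      congrArg Fin.val (cd_dc ⟨_, (hu1 k).1⟩)]

end Cfsg.Agent.ThLocal
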