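import Cfsg.Agent.ThLocal.Twist
import Cfsg.Agent.Carmichael.Bound

/-!
A central extension by two elements in which the lifts of products of two transpositions are
involutions splits.
-/

set_option autoImplicit false
set_option maxRecDepth 100000

open Equiv

namespace Cfsg.Agent.ThLocal

/-- Carmichael's generators as permutations. -/
def mgP (j : Fin 7) : Perm (Fin 9) :=
  if j.val = 0 then Equiv.swap 0 2 * Equiv.swap 0 1
  else Equiv.swap 0 1 * Equiv.swap ⟨j.val + 1, by omega⟩ ⟨(j.val + 2) % 9, Nat.mod_lt _ (by norm_num)⟩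

theorem mgP_even : ∀ j, Perm.sign (mgP j) = 1 := by decide +kernel

/-- Carmichael's generators. -/
def mg (j : Fin 7) : A9 := ⟨mgP j, Perm.mem_alternatingGroup.2 (mgP_even j)⟩

/-- The generators as a sequence. -/
def mgN (j : ℕ) : A9 := if h : j < 7 then mg ⟨j, h⟩ else 1

theorem mg_rels : mgN 0 * mgN 0 * mgN 0 = 1 ∧
    (∀ i : Fin 6, mgN i.val * mgN (i.val + 1) * (mgN i.val * mgN (i.val + 1)) *
      (mgN i.val * mgN (i.val + 1)) = 1) ∧
    (∀ j : Fin 7, j.val ≠ 0 → mgN j.val * mgN j.val = 1 ∧ mgN j.val ≠ 1 ∧ (fixS (mgN j.val)).card = 5) ∧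
    ∀ i j : Fin 7, i.val + 1 < j.val → mgN i.val * mgN j.val * (mgN i.val * mgN j.val) = 1 ∧
      mgN i.val * mgN j.val ≠ 1 ∧ (fixS (mgN i.val * mgN j.val)).card = 5 := by
  decide +kernel

/-- The three-cycles as words in these generators. -/
def mgW : List (List ℕ) := [[0], [0, 1, 0], [0, 1, 2, 1, 0], [0, 1, 2, 3, 2, 1, 0],
  [0, 1, 2, 3, 4, 3, 2, 1, 0], [0, 1, 2, 3, 4, 5, 4, 3, 2, 1, 0], [0, 1, 2, 3, 4, 5, 6, 5, 4, 3, 2, 1, 0]]

theorem mgW_spec : ∀ i : Fin 7, ((mgW.getD i.val []).map mgN).prod = a9 i ∧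
    ∀ k ∈ mgW.getD i.val [], k < 7 := by
  decide +kernel

theorem u1_of_fix {σ : A9} (h2 : σ * σ = 1) (h1 : σ ≠ 1) (h5 : (fixS σ).card = 5) : IsConj σ u1 :=
  (inv_class h2 h1).resolve_right fun h => by
    rw [fixS_conj h, fixS_u.2] at h5
    omega

variable {E : Type*} [Group E] [Finite E]

/-- Such an extension has a complement. -/
theorem split_central (π : E →* A9) (hs : Function.Surjective π) (e : E)
    (hker : ∀ x, π x = 1 ↔ x = 1 ∨ x = e) (he : e ≠ 1)
    (hinv : ∀ x, IsConj (π x) u1 → x * x = 1) :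
    ∃ M : Subgroup E, e ∉ M ∧ M.map π = ⊤ := by
  classical
  have hπe : π e = 1 := (hker e).2 (Or.inr rfl)
  have hee : e * e = 1 := by
    rcases (hker (e * e)).1 (by rw [map_mul, hπe, one_mul]) with h | h
    exacts [h, absurd (mul_eq_left.1 h) he]
  have hec : ∀ x, x * e = e * x := fun x => by
    rcases (hker (x * e * x⁻¹)).1 (by rw [map_mul, map_mul, hπe, mul_one, map_inv, mul_inv_cancel]) with h | h
    · exact absurd (conj_eq_one_iff.1 h) he
    · exact mul_inv_eq_iff_eq_mul.1 h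
  choose L hL using fun j => hs (mgN j)
  have hcube : ∀ x, x * e * (x * e) * (x * e) = x * x * x * e := fun x => by
    rw [show x * e * (x * e) = x * x * (e * e) from
        Commute.mul_mul_mul_comm (show Commute e x from (hec x).symm) x e, hee, mul_one, ← mul_assoc]
  have hcor : ∀ x, π x * π x * π x = 1 → ∃ y ∈ ({x, x * e} : Set E), y * y * y = 1 := fun x hx => by
    rcases (hker (x * x * x)).1 (by rw [map_mul, map_mul]; exact hx) with h | h
    · exact ⟨x, Or.inl rfl, h⟩
    · exact ⟨x * e, Or.inr rfl, by rw [hcube, h, hee]⟩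
  obtain ⟨f, hf, hf0, hfb⟩ : ∃ f : ℕ → E, (∀ j, π (f j) = mgN j) ∧ f 0 * f 0 * f 0 = 1 ∧
      ∀ j < 6, f j * f (j + 1) * (f j * f (j + 1)) * (f j * f (j + 1)) = 1 := by
    let y₀ : E := if L 0 * L 0 * L 0 = 1 then L 0 else L 0 * e
    let f : ℕ → E := fun n => Nat.rec y₀ (fun j p =>
      if p * L (j + 1) * (p * L (j + 1)) * (p * L (j + 1)) = 1 then L (j + 1) else L (j + 1) * e) n
    have hf : ∀ j, π (f j) = mgN j := by
      intro j
      cases j with
      | zero =>
        show π y₀ = _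
        by_cases h : L 0 * L 0 * L 0 = 1
        · simp only [y₀, if_pos h, hL]
        · simp only [y₀, if_neg h, map_mul, hL, hπe, mul_one]
      | succ j =>
        show π (if _ then _ else _) = _
        split_ifs
        · rw [hL]
        · rw [map_mul, hL, hπe, mul_one]
    refine ⟨f, hf, ?_, fun j hj => ?_⟩
    · show y₀ * y₀ * y₀ = 1
      by_cases h : L 0 * L 0 * L 0 = 1
      · simp only [y₀, if_pos h]; exact h
      · simp only [y₀, if_neg h]
        obtain ⟨y, hy, hyy⟩ := hcor (L 0) (by rw [hL]; exact mg_rels.1)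
        rcases hy with hy | hy
        · exact absurd (hy ▸ hyy) h
        · exact hy ▸ hyy
    · show f j * (if _ then _ else _) * (f j * (if _ then _ else _)) * (f j * (if _ then _ else _)) = 1
      split_ifs with h
      · exact h
      · rw [← mul_assoc (f j)]
        obtain ⟨y, hy, hyy⟩ := hcor (f j * L (j + 1)) (by
          rw [map_mul, hf, hL]; exact mg_rels.2.1 ⟨j, hj⟩)
        rcases hy with hy | hy
        · exact absurd (hy ▸ hyy) h
        · exact hy ▸ hyy
  have R : Carmichael.Rels f 7 := by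
    refine ⟨fun _ => by rw [pow_three, ← mul_assoc]; exact hf0, fun i h1 h7 => ?_, fun i h => ?_,
      fun i j hij h7 => ?_⟩
    · obtain ⟨a, b, c⟩ := mg_rels.2.2.1 ⟨i, h7⟩ (by show i ≠ 0; omega)
      rw [pow_two]
      exact hinv _ (hf i ▸ u1_of_fix a b c)
    · rw [pow_three, ← mul_assoc]; exact hfb i (by omega)
    · obtain ⟨a, b, c⟩ := mg_rels.2.2.2 ⟨i, by omega⟩ ⟨j, h7⟩ hij
      rw [pow_two]
      exact hinv _ (by rw [map_mul, hf, hf]; exact u1_of_fix a b c)
  obtain ⟨T, hT, hTe⟩ := Carmichael.closure_bound 7 R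
  set M := Subgroup.closure (f '' Set.Iio 7)
  have htop : M.map π = ⊤ := by
    rw [eq_top_iff, ← closure_a9, Subgroup.closure_le]
    rintro _ ⟨i, rfl⟩
    obtain ⟨he', hk⟩ := mgW_spec i
    rw [SetLike.mem_coe, ← he']
    refine Subgroup.list_prod_mem _ fun x hx => ?_
    obtain ⟨k, hk', rfl⟩ := List.mem_map.1 hx
    exact ⟨f k, Subgroup.subset_closure ⟨k, hk k hk', rfl⟩, hf k⟩
  refine ⟨M, fun hmem => ?_, htop⟩
  let g : ↥M →* A9 := π.comp M.subtype
  have hg : g.range = ⊤ := by rw [MonoidHom.range_comp, Subgroup.range_subtype, htop]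
  have hM := g.ker.card_mul_index
  rw [Subgroup.index_ker, hg, Subgroup.card_top, card_a9] at hM
  have h2 : 1 < Nat.card g.ker := by
    have : Nontrivial g.ker := ⟨⟨⟨⟨e, hmem⟩, MonoidHom.mem_ker.2 hπe⟩, 1,
      fun h => he (congrArg (fun x : g.ker => x.1.1) h)⟩⟩
    exact Finite.one_lt_card
  have h3 : Nat.card ↥M = T.card := by
    rw [← Nat.card_eq_finsetCard]
    exact Nat.card_congr (Equiv.setCongr hTe)
  have h4 : (7 + 2).factorial = 362880 := by decide
  rw [h4] at hT
  omega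

end Cfsg.Agent.ThLocal
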