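import Cfsg.Agent.ThLocal.Nine

/-!
On an eight-dimensional faithful module over the field with two elements a three-cycle of the
alternating group of degree nine either has no non-zero fixed vector or moves a plane.
-/

set_option autoImplicit false
set_option maxRecDepth 100000

open Equiv

namespace Cfsg.Agent.ThLocal

/-- The second of three disjoint three-cycles. -/
def cy : A9 := ⟨swap 3 5 * swap 3 4, Perm.mem_alternatingGroup.2 (by decide +kernel)⟩

/-- The third of three disjoint three-cycles. -/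
def cz : A9 := ⟨swap 6 8 * swap 6 7, Perm.mem_alternatingGroup.2 (by decide +kernel)⟩

/-- The element permuting the three cycles. -/
def cr : A9 := ⟨swap 0 6 * swap 0 3 * (swap 1 7 * swap 1 4) * (swap 2 8 * swap 2 5),
  Perm.mem_alternatingGroup.2 (by decide +kernel)⟩

/-- The element inverting the first two cycles. -/
def ixy : A9 := ⟨swap 0 1 * swap 3 4, Perm.mem_alternatingGroup.2 (by decide +kernel)⟩

/-- The element inverting the first and the last cycle. -/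
def ixz : A9 := ⟨swap 0 1 * swap 6 7, Perm.mem_alternatingGroup.2 (by decide +kernel)⟩

theorem cycles_code : (cy * cy * cy = 1 ∧ cz * cz * cz = 1) ∧
    (a9 0 * cy = cy * a9 0 ∧ a9 0 * cz = cz * a9 0 ∧ cy * cz = cz * cy) ∧
    (cr * a9 0 = cy * cr ∧ cr * cy = cz * cr ∧ cr * cz = a9 0 * cr) ∧
    (ixy * (a9 0 * a9 0) = a9 0 * ixy ∧ ixy * (cy * cy) = cy * ixy ∧ ixy * cz = cz * ixy) ∧
    (ixz * (a9 0 * a9 0) = a9 0 * ixz ∧ ixz * cy = cy * ixz ∧ ixz * (cz * cz) = cz * ixz) := by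
  simp only [Subtype.ext_iff]; decide +kernel

theorem a9_conj : ∀ i : Fin 7, ∃ g : A9, g * a9 0 * g⁻¹ = a9 i := by
  intro i
  obtain rfl | hi := eq_or_ne i 0
  · exact ⟨1, by group⟩
  have h : ∀ i : Fin 7, i ≠ 0 → ∃ e f : Fin 9, Perm.sign (swap 2 (⟨i.val + 2, by omega⟩ : Fin 9) * swap e f) = 1 ∧
      swap 2 (⟨i.val + 2, by omega⟩ : Fin 9) * swap e f * (a9 0 : Perm (Fin 9)) *
        (swap 2 (⟨i.val + 2, by omega⟩ : Fin 9) * swap e f)⁻¹ = (a9 i : Perm (Fin 9)) := by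
    decide +kernel
  obtain ⟨e, f, h1, h2⟩ := h i hi
  exact ⟨⟨_, Perm.mem_alternatingGroup.2 h1⟩, Subtype.ext h2⟩

section Ring

variable {W : Type*} [AddCommGroup W] [Module (ZMod 2) W]

theorem w_self (w : W) : w + w = 0 := by
  rw [← two_smul (ZMod 2) w, show (2 : ZMod 2) = 0 by decide, zero_smul]

theorem w_cancel (a b : W) : a + b + b = a := by rw [add_assoc, w_self, add_zero]

theorem w_eq {a b : W} (h : a + b = 0) : a = b := by rw [← w_cancel a b, h, zero_add]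

/-- The part moved by an element of order three. -/
def mv (x : W ≃ₗ[ZMod 2] W) (w : W) : W := x (x w) + x w

theorem mv_add (x : W ≃ₗ[ZMod 2] W) (a b : W) : mv x (a + b) = mv x a + mv x b := by
  simp only [mv, map_add]; abel

theorem mv_comm {x y : W ≃ₗ[ZMod 2] W} (h : ∀ w, x (y w) = y (x w)) (w : W) :
    mv x (y w) = y (mv x w) := by
  simp only [mv, h, map_add]

theorem mv_idem {x : W ≃ₗ[ZMod 2] W} (h : ∀ w, x (x (x w)) = w) (w : W) : mv x (mv x w) = mv x w := by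
  simp only [mv, map_add, h]
  calc x w + w + (w + x (x w)) = x (x w) + x w + (w + w) := by abel
    _ = x (x w) + x w := by rw [w_self, add_zero]

theorem mv_fix {x : W ≃ₗ[ZMod 2] W} (h : ∀ w, x (x (x w)) = w) {w : W} (hw : mv x w = 0) : x w = w :=
  x.injective (w_eq hw)

theorem mv_sq {x : W ≃ₗ[ZMod 2] W} {w : W} (hw : mv x w = w) : x (x w) = x w + w :=
  calc x (x w) = mv x w + x w := (w_cancel _ _).symm
    _ = x w + w := by rw [hw, add_comm]

theorem fpf_span {x : W ≃ₗ[ZMod 2] W} {a : W} (ha : mv x a = a) (h0 : a ≠ 0) :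
    Function.Injective fun p : ZMod 2 × ZMod 2 => p.1 • a + p.2 • x a := by
  have hne : x a ≠ a := fun e => h0 (by rw [← ha, mv, e, e, w_self])
  have hx0 : x a ≠ 0 := fun e => h0 (x.map_eq_zero_iff.1 e)
  have key : ∀ s t : ZMod 2, s • a + t • x a = 0 → s = 0 ∧ t = 0 := by
    intro s t
    rcases (by decide : ∀ s : ZMod 2, s = 0 ∨ s = 1) s with rfl | rfl <;>
      rcases (by decide : ∀ s : ZMod 2, s = 0 ∨ s = 1) t with rfl | rfl <;>
      simp only [zero_smul, one_smul, add_zero, zero_add] <;> intro h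
    · exact ⟨trivial, trivial⟩
    · exact absurd h hx0
    · exact absurd h h0
    · exact absurd (w_eq h).symm hne
  intro p q h
  replace h : p.1 • a + p.2 • x a = q.1 • a + q.2 • x a := h
  have h' := key (p.1 + q.1) (p.2 + q.2) (by
    rw [add_smul, add_smul, add_add_add_comm, h, w_self])
  exact Prod.ext ((by decide : ∀ a b : ZMod 2, a + b = 0 → a = b) _ _ h'.1)
    ((by decide : ∀ a b : ZMod 2, a + b = 0 → a = b) _ _ h'.2)

end Ring

variable {W : Type*} [AddCommGroup W] [Module (ZMod 2) W] [Finite W]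

/-- `mv` as an additive map. -/
def mvh (x : W ≃ₗ[ZMod 2] W) : W →+ W := AddMonoidHom.mk' (mv x) (mv_add x)

/-- The vectors moved fixed-point-freely. -/
def fx (x : W ≃ₗ[ZMod 2] W) : AddSubgroup W := (mvh x).eqLocus (AddMonoidHom.id W)

/-- The fixed vectors. -/
def kx (x : W ≃ₗ[ZMod 2] W) : AddSubgroup W := (mvh x).ker

/-- The vectors on which `y` differs from `x` by the scalar. -/
def rel (x y : W ≃ₗ[ZMod 2] W) (s : ZMod 2) : AddSubgroup W :=
  (y.toLinearMap.toAddMonoidHom).eqLocus (x.toLinearMap + s • LinearMap.id).toAddMonoidHom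

theorem mem_fx {x : W ≃ₗ[ZMod 2] W} {w : W} : w ∈ fx x ↔ mv x w = w := Iff.rfl

theorem mem_kx {x : W ≃ₗ[ZMod 2] W} {w : W} : w ∈ kx x ↔ mv x w = 0 := Iff.rfl

theorem mem_rel {x y : W ≃ₗ[ZMod 2] W} {s : ZMod 2} {w : W} :
    w ∈ rel x y s ↔ y w = x w + s • w := Iff.rfl

theorem fx_kx {x : W ≃ₗ[ZMod 2] W} {w : W} (h : w ∈ fx x) (h' : w ∈ kx x) : w = 0 :=
  (mem_fx.1 h).symm.trans (mem_kx.1 h')

theorem rel_rel {x y : W ≃ₗ[ZMod 2] W} {w : W} (h : w ∈ rel x y 0) (h' : w ∈ rel x y 1) : w = 0 := by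
  have e := (mem_rel.1 h).symm.trans (mem_rel.1 h')
  simpa using e

theorem card_sup {A B : AddSubgroup W} (h : ∀ w ∈ A, w ∈ B → w = 0) :
    Nat.card A * Nat.card B ≤ Nat.card ↥(A ⊔ B) := by
  rw [← Nat.card_prod]
  refine Nat.card_le_card_of_injective
    (fun p => (⟨(p.1 : W) + p.2, AddSubgroup.add_mem_sup p.1.2 p.2.2⟩ : ↥(A ⊔ B))) ?_
  rintro ⟨a, b⟩ ⟨a', b'⟩ e
  have e1 : (a : W) + b = a' + b' := congrArg Subtype.val e
  have e2 : (a : W) + a' = b + b' :=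
    calc (a : W) + a' = a + b + (b + a') := by rw [← add_assoc, w_cancel]
      _ = b' + b + (a' + a') := by rw [e1]; abel
      _ = b + b' := by rw [w_self, add_zero, add_comm]
  have h0 := h _ (add_mem a.2 a'.2) (e2 ▸ add_mem b.2 b'.2)
  exact Prod.ext (Subtype.ext (w_eq h0)) (Subtype.ext (w_eq (e2.symm.trans h0)))

theorem four_le {x : W ≃ₗ[ZMod 2] W} {S : AddSubgroup W} (hS : ∀ w ∈ S, x w ∈ S) {a : W}
    (haS : a ∈ S) (ha : a ∈ fx x) (h0 : a ≠ 0) : 4 ≤ Nat.card S := by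
  have hm : ∀ p : ZMod 2 × ZMod 2, p.1 • a + p.2 • x a ∈ S := fun p => by
    have : ∀ (c : ZMod 2) (w : W), w ∈ S → c • w ∈ S := fun c w hw => by
      rcases (by decide : ∀ s : ZMod 2, s = 0 ∨ s = 1) c with rfl | rfl
      · rw [zero_smul]; exact zero_mem _
      · rwa [one_smul]
    exact add_mem (this _ _ haS) (this _ _ (hS _ haS))
  have := Nat.card_le_card_of_injective (fun p => (⟨_, hm p⟩ : S))
    fun p q h => fpf_span ha h0 (congrArg Subtype.val h)
  simpa [Nat.card_prod] using this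

theorem map_card {g : W ≃ₗ[ZMod 2] W} (S : AddSubgroup W) :
    Nat.card ↥(S.map g.toLinearMap.toAddMonoidHom) = Nat.card S :=
  (Nat.card_congr (S.equivMapOfInjective _ g.injective).toEquiv).symm

theorem card_le_all (S : AddSubgroup W) : Nat.card S ≤ Nat.card W :=
  Nat.card_le_card_of_injective _ Subtype.val_injective

/-- The alternative. -/
theorem dichotomy (φ : A9 →* (W ≃ₗ[ZMod 2] W)) (hinj : Function.Injective φ) (hcard : Nat.card W = 256) :
    (∀ i w, mv (φ (a9 i)) w = w) ∨ ∀ i, Nat.card {w : W // mv (φ (a9 i)) w = w} = 4 := by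
  classical
  obtain ⟨⟨hy3, hz3⟩, ⟨hxy, hxz, hyz⟩, ⟨hr1, hr2, hr3⟩, ⟨h11, h12, h13⟩, h21, h22, h23⟩ := cycles_code
  set x := φ (a9 0)
  set y := φ cy
  set z := φ cz
  have happ : ∀ a b : A9, ∀ w, φ (a * b) w = φ a (φ b w) := fun a b w => by rw [map_mul]; rfl
  have hcube : ∀ a : A9, a * a * a = 1 → ∀ w, φ a (φ a (φ a w)) = w := fun a h w => by
    rw [← happ, ← happ, h, map_one]; rfl
  have hX := hcube _ (a9_cube 0)
  have hY := hcube _ hy3
  have hZ := hcube _ hz3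
  have cxy : ∀ w, x (y w) = y (x w) := fun w => by rw [← happ, hxy, happ]
  have cxz : ∀ w, x (z w) = z (x w) := fun w => by rw [← happ, hxz, happ]
  have cyz : ∀ w, y (z w) = z (y w) := fun w => by rw [← happ, hyz, happ]
  have mm : ∀ {a b : W ≃ₗ[ZMod 2] W}, (∀ w, a (b w) = b (a w)) → ∀ w, mv a (mv b w) = mv b (mv a w) := by
    intro a b h w
    show mv a (b (b w) + b w) = b (b (mv a w)) + b (mv a w)
    rw [mv_add, mv_comm h, mv_comm h]
  have inv : ∀ {a b : W ≃ₗ[ZMod 2] W}, (∀ w, a (b w) = b (a w)) →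
      (∀ w ∈ fx a, b w ∈ fx a) ∧ ∀ w ∈ kx a, b w ∈ kx a := by
    intro a b h
    exact ⟨fun w hw => by rw [mem_fx, mv_comm h, mem_fx.1 hw],
      fun w hw => by rw [mem_kx, mv_comm h, mem_kx.1 hw, map_zero]⟩
  -- transport along an element permuting or inverting the cycles
  have tr : ∀ {g a b : A9}, g * a = b * g → ∀ w, mv (φ b) (φ g w) = φ g (mv (φ a) w) := by
    intro g a b h w
    have e : ∀ u, φ b (φ g u) = φ g (φ a u) := fun u => by rw [← happ, ← h, happ]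
    simp only [mv, e, map_add]
  have tr' : ∀ {g a b : A9}, a * a * a = 1 → g * (a * a) = b * g →
      ∀ w, mv (φ b) (φ g w) = φ g (mv (φ a) w) := by
    intro g a b h3 h w
    rw [tr h]
    congr 1
    simp only [mv, happ, hcube a h3]
    exact add_comm _ _
  by_cases hc : ∃ w, w ≠ 0 ∧ mv x w = w ∧ mv y w = w ∧ mv z w = w
  · -- all three fixed-point-free on the whole space
    obtain ⟨w, hw0, hwx, hwy, hwz⟩ := hc
    set M := fx x ⊓ fx y ⊓ fx z with hM
    have hMx : ∀ w ∈ M, x w ∈ M := fun w ⟨⟨h1, h2⟩, h3⟩ =>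
      ⟨⟨(inv fun _ => rfl).1 w h1, (inv fun u => (cxy u).symm).1 w h2⟩, (inv fun u => (cxz u).symm).1 w h3⟩
    let A : ZMod 2 → ZMod 2 → AddSubgroup W := fun s t => M ⊓ rel x y s ⊓ rel x z t
    have hAx : ∀ s t, ∀ w ∈ A s t, x w ∈ A s t := by
      intro s t w ⟨⟨h1, h2⟩, h3⟩
      refine ⟨⟨hMx w h1, ?_⟩, ?_⟩
      · show _ ∈ rel _ _ _; rw [mem_rel, ← cxy, mem_rel.1 h2, map_add, map_smul]
      · show _ ∈ rel _ _ _; rw [mem_rel, ← cxz, mem_rel.1 h3, map_add, map_smul]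
    have hmxy : ∀ s t a, a ∈ A s t → φ ixy a ∈ A s (t + 1) := by
      rintro s t a ⟨⟨⟨⟨ax, ay⟩, az⟩, as⟩, at'⟩
      replace ax : _ ∈ fx _ := ax; rw [mem_fx] at ax; replace ay : _ ∈ fx _ := ay; rw [mem_fx] at ay; replace az : _ ∈ fx _ := az; rw [mem_fx] at az
      replace as : _ ∈ rel _ _ _ := as; rw [mem_rel] at as; replace at' : _ ∈ rel _ _ _ := at'; rw [mem_rel] at at'
      have ex : x (φ ixy a) = φ ixy (x (x a)) := by rw [← happ, ← h11, happ, happ]
      have ey : y (φ ixy a) = φ ixy (y (y a)) := by rw [← happ, ← h12, happ, happ]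
      have ez : z (φ ixy a) = φ ixy (z a) := by rw [← happ, ← h13, happ]
      refine ⟨⟨⟨⟨?_, ?_⟩, ?_⟩, ?_⟩, ?_⟩
      · show _ ∈ fx _; rw [mem_fx, tr' (a9_cube 0) h11, ax]
      · show _ ∈ fx _; rw [mem_fx, tr' hy3 h12, ay]
      · show _ ∈ fx _; rw [mem_fx, tr h13, az]
      · show _ ∈ rel _ _ _; rw [mem_rel, ex, ey, ← map_smul, ← map_add, mv_sq ax, mv_sq ay, as]
        congr 1; abel
      · show _ ∈ rel _ _ _; rw [mem_rel, ex, ez, ← map_smul, ← map_add, mv_sq ax, at', add_smul, one_smul]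
        congr 1
        rw [show x a + a + (t • a + a) = x a + t • a + (a + a) by abel, w_self, add_zero]
    have hmxz : ∀ s t a, a ∈ A s t → φ ixz a ∈ A (s + 1) t := by
      rintro s t a ⟨⟨⟨⟨ax, ay⟩, az⟩, as⟩, at'⟩
      replace ax : _ ∈ fx _ := ax; rw [mem_fx] at ax; replace ay : _ ∈ fx _ := ay; rw [mem_fx] at ay; replace az : _ ∈ fx _ := az; rw [mem_fx] at az
      replace as : _ ∈ rel _ _ _ := as; rw [mem_rel] at as; replace at' : _ ∈ rel _ _ _ := at'; rw [mem_rel] at at'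
      have ex : x (φ ixz a) = φ ixz (x (x a)) := by rw [← happ, ← h21, happ, happ]
      have ey : y (φ ixz a) = φ ixz (y a) := by rw [← happ, ← h22, happ]
      have ez : z (φ ixz a) = φ ixz (z (z a)) := by rw [← happ, ← h23, happ, happ]
      refine ⟨⟨⟨⟨?_, ?_⟩, ?_⟩, ?_⟩, ?_⟩
      · show _ ∈ fx _; rw [mem_fx, tr' (a9_cube 0) h21, ax]
      · show _ ∈ fx _; rw [mem_fx, tr h22, ay]
      · show _ ∈ fx _; rw [mem_fx, tr' hz3 h23, az]
      · show _ ∈ rel _ _ _; rw [mem_rel, ex, ey, ← map_smul, ← map_add, mv_sq ax, as, add_smul, one_smul]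
        congr 1
        rw [show x a + a + (s • a + a) = x a + s • a + (a + a) by abel, w_self, add_zero]
      · show _ ∈ rel _ _ _; rw [mem_rel, ex, ez, ← map_smul, ← map_add, mv_sq ax, mv_sq az, at']
        congr 1; abel
    have hsplit : ∀ {v : W ≃ₗ[ZMod 2] W}, (∀ w, x (v w) = v (x w)) → ∀ w ∈ fx x, w ∈ fx v →
        x w + v w ∈ rel x v 1 := by
      intro v h w hu hv
      rw [mem_rel, one_smul, map_add, map_add, h, mv_sq hu, mv_sq hv]
      calc v (x w) + (v w + w) = v (x w) + v w + w + (x w + x w) := by rw [w_self, add_zero]; abel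
        _ = x w + w + v (x w) + (x w + v w) := by abel
    obtain ⟨s₀, t₀, a, ha, ha0⟩ : ∃ s t, ∃ a ∈ A s t, a ≠ 0 := by
      obtain ⟨b, hb0, hbM, s, hs⟩ : ∃ b, b ≠ 0 ∧ b ∈ M ∧ ∃ s, b ∈ rel x y s := by
        by_cases h : x w + y w = 0
        · exact ⟨w, hw0, ⟨⟨hwx, hwy⟩, hwz⟩, 0, by
            rw [mem_rel, zero_smul, add_zero]; exact (w_eq h).symm⟩
        · have hy' : y w ∈ M := ⟨⟨(inv cxy).1 w hwx, (inv fun _ => rfl).1 w hwy⟩,
            (inv fun u => (cyz u).symm).1 w hwz⟩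
          exact ⟨_, h, add_mem (hMx w ⟨⟨hwx, hwy⟩, hwz⟩) hy', 1, hsplit cxy w hwx hwy⟩
      by_cases h : x b + z b = 0
      · exact ⟨s, 0, b, ⟨⟨hbM, hs⟩, by
          show _ ∈ rel _ _ _; rw [mem_rel, zero_smul, add_zero]; exact (w_eq h).symm⟩, hb0⟩
      · obtain ⟨⟨b1, b2⟩, b3⟩ := hbM
        have hz' : z b ∈ M := ⟨⟨(inv cxz).1 b b1, (inv cyz).1 b b2⟩, (inv fun _ => rfl).1 b b3⟩
        refine ⟨s, 1, _, ⟨⟨add_mem (hMx b ⟨⟨b1, b2⟩, b3⟩) hz', ?_⟩, hsplit cxz b b1 b3⟩, h⟩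
        rw [mem_rel] at hs
        show _ ∈ rel _ _ _; rw [mem_rel, map_add, map_add, ← cxy, cyz, hs, map_add, map_add, map_smul,
          map_smul, smul_add, cxz]
        abel
    have h4 : ∀ s t, 4 ≤ Nat.card ↥(A s t) := by
      have hex : ∀ s t b, b ∈ A s t → b ≠ 0 → 4 ≤ Nat.card ↥(A s t) := fun s t b hb hb0 =>
        four_le (hAx s t) hb hb.1.1.1.1 hb0
      intro s t
      rcases (by decide : ∀ s s₀ : ZMod 2, s = s₀ ∨ s = s₀ + 1) s s₀ with rfl | rfl <;>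
        rcases (by decide : ∀ s s₀ : ZMod 2, s = s₀ ∨ s = s₀ + 1) t t₀ with rfl | rfl
      exacts [hex _ _ a ha ha0, hex _ _ _ (hmxy _ _ a ha) fun e => ha0 ((φ _).map_eq_zero_iff.1 e),
        hex _ _ _ (hmxz _ _ a ha) fun e => ha0 ((φ _).map_eq_zero_iff.1 e),
        hex _ _ _ (hmxz _ _ _ (hmxy _ _ a ha))
          fun e => ha0 ((φ _).map_eq_zero_iff.1 ((φ _).map_eq_zero_iff.1 e))]
    have hY' : ∀ s, 16 ≤ Nat.card ↥(A s 0 ⊔ A s 1) := fun s =>
      (Nat.mul_le_mul (h4 s 0) (h4 s 1)).trans (card_sup fun w hw hw' => rel_rel hw.2 hw'.2)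
    have hle : ∀ s, A s 0 ⊔ A s 1 ≤ M ⊓ rel x y s := fun s => sup_le inf_le_left inf_le_left
    have h256 : 256 ≤ Nat.card ↥(A 0 0 ⊔ A 0 1 ⊔ (A 1 0 ⊔ A 1 1)) :=
      (Nat.mul_le_mul (hY' 0) (hY' 1)).trans
        (card_sup fun w hw hw' => rel_rel (hle 0 hw).2 (hle 1 hw').2)
    have htop : M = ⊤ := by
      refine eq_top_iff.2 (le_trans (le_of_eq ?_)
        (sup_le ((hle 0).trans inf_le_left) ((hle 1).trans inf_le_left)))
      exact (AddSubgroup.eq_top_of_le_card _ (by rwa [hcard])).symm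
    refine Or.inl fun i w => ?_
    obtain ⟨g, hg⟩ := a9_conj i
    have e : g * a9 0 = a9 i * g := by rw [← hg]; group
    have hx : ∀ w, mv x w = w := fun w => ((htop ▸ AddSubgroup.mem_top w : w ∈ M)).1.1
    have := tr e ((φ g).symm w)
    rwa [LinearEquiv.apply_symm_apply, hx, LinearEquiv.apply_symm_apply] at this
  push Not at hc
  set ρ := (φ cr).toLinearMap.toAddMonoidHom
  -- no vector is moved by exactly two of the cycles
  have hb : ∀ w, mv x w = w → mv y w = w → mv z w = 0 → w = 0 := by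
    intro w hwx hwy hwz
    by_contra hw0
    set D := fx x ⊓ fx y ⊓ kx z with hD
    let B : ZMod 2 → AddSubgroup W := fun s => D ⊓ rel x y s
    have hDx : ∀ w ∈ D, x w ∈ D := fun w ⟨⟨h1, h2⟩, h3⟩ =>
      ⟨⟨(inv fun _ => rfl).1 w h1, (inv fun u => (cxy u).symm).1 w h2⟩, (inv fun u => (cxz u).symm).2 w h3⟩
    have hBx : ∀ s, ∀ w ∈ B s, x w ∈ B s := fun s w ⟨h1, h2⟩ =>
      ⟨hDx w h1, by show _ ∈ rel _ _ _; rw [mem_rel, ← cxy, mem_rel.1 h2, map_add, map_smul]⟩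
    obtain ⟨s₀, a, ha, ha0⟩ : ∃ s, ∃ a ∈ B s, a ≠ 0 := by
      by_cases h : x w + y w = 0
      · exact ⟨0, w, ⟨⟨⟨hwx, hwy⟩, hwz⟩, by
          show _ ∈ rel _ _ _; rw [mem_rel, zero_smul, add_zero]; exact (w_eq h).symm⟩, hw0⟩
      · refine ⟨1, _, ⟨add_mem (hDx w ⟨⟨hwx, hwy⟩, hwz⟩) ⟨⟨(inv cxy).1 w hwx, (inv fun _ => rfl).1 w hwy⟩,
          (inv fun u => (cyz u).symm).2 w hwz⟩, ?_⟩, h⟩
        show _ ∈ rel _ _ _; rw [mem_rel, one_smul, map_add, map_add, ← cxy, mv_sq hwx, mv_sq hwy]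
        calc x (y w) + (y w + w) = x (y w) + y w + w + (x w + x w) := by rw [w_self, add_zero]; abel
          _ = x w + w + x (y w) + (x w + y w) := by abel
    have h4 : ∀ s, 4 ≤ Nat.card ↥(B s) := by
      intro s
      rcases (by decide : ∀ s s₀ : ZMod 2, s = s₀ ∨ s = s₀ + 1) s s₀ with rfl | rfl
      · exact four_le (hBx _) ha ha.1.1.1 ha0
      obtain ⟨⟨⟨ax, ay⟩, az⟩, as⟩ := ha
      replace ax : _ ∈ fx _ := ax; rw [mem_fx] at ax; replace ay : _ ∈ fx _ := ay; rw [mem_fx] at ay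
      replace az : _ ∈ kx _ := az; rw [mem_kx] at az
      replace as : _ ∈ rel _ _ _ := as; rw [mem_rel] at as
      have ex : x (φ ixz a) = φ ixz (x (x a)) := by rw [← happ, ← h21, happ, happ]
      have ey : y (φ ixz a) = φ ixz (y a) := by rw [← happ, ← h22, happ]
      have hm : φ ixz a ∈ B (s₀ + 1) := by
        refine ⟨⟨⟨?_, ?_⟩, ?_⟩, ?_⟩
        · show _ ∈ fx _; rw [mem_fx, tr' (a9_cube 0) h21, ax]
        · show _ ∈ fx _; rw [mem_fx, tr h22, ay]
        · show _ ∈ kx _; rw [mem_kx, tr' hz3 h23, az, map_zero]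
        · show _ ∈ rel _ _ _; rw [mem_rel, ex, ey, ← map_smul, ← map_add, mv_sq ax, as, add_smul, one_smul]
          congr 1
          rw [show x a + a + (s₀ • a + a) = x a + s₀ • a + (a + a) by abel, w_self, add_zero]
      exact four_le (hBx _) hm hm.1.1.1 fun e => ha0 ((φ _).map_eq_zero_iff.1 e)
    have h16 : 16 ≤ Nat.card D := ((Nat.mul_le_mul (h4 0) (h4 1)).trans
      (card_sup fun w hw hw' => rel_rel hw.2 hw'.2)).trans
        (Nat.card_le_card_of_injective _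
          (AddSubgroup.inclusion_injective (sup_le inf_le_left inf_le_left : B 0 ⊔ B 1 ≤ D)))
    have h2 : ∀ u ∈ D.map ρ, u ∈ fx y ∧ u ∈ kx x := by
      rintro _ ⟨u, ⟨⟨u1, u2⟩, u3⟩, rfl⟩
      exact ⟨by rw [mem_fx]; show mv y (φ cr u) = φ cr u; rw [tr hr1, mem_fx.1 u1],
        by rw [mem_kx]; show mv x (φ cr u) = 0; rw [tr hr3, mem_kx.1 u3, map_zero]⟩
    have h3 : ∀ u ∈ (D.map ρ).map ρ, u ∈ kx y := by
      rintro _ ⟨_, ⟨u, ⟨⟨u1, u2⟩, u3⟩, rfl⟩, rfl⟩
      rw [mem_kx]; show mv y (φ cr (φ cr u)) = 0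
      rw [tr hr1, tr hr3, mem_kx.1 u3, map_zero, map_zero]
    have := ((Nat.mul_le_mul_right _ (card_sup (A := D) (B := D.map ρ) fun u hu hu' =>
      fx_kx hu.1.1 (h2 u hu').2)).trans (card_sup (A := D ⊔ D.map ρ) (B := (D.map ρ).map ρ) fun u hu hu' =>
      fx_kx ((sup_le (inf_le_left.trans inf_le_right) (fun u hu => (h2 u hu).1) :
        D ⊔ D.map ρ ≤ fx y) hu) (h3 u hu'))).trans (card_le_all _)
    have hm : ∀ S : AddSubgroup W, Nat.card ↥(S.map ρ) = Nat.card S := map_card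
    simp only [hm, hcard] at this
    have := (Nat.mul_le_mul (Nat.mul_le_mul h16 h16) h16).trans this
    omega
  refine Or.inr fun i => ?_
  have hx : ∀ w, mv y (mv x w) = 0 := by
    intro w
    set u := mv y (mv x w)
    have ux : mv x u = u := by rw [show u = mv y (mv x w) from rfl, mm cxy, mv_idem hX]
    have uy : mv y u = u := mv_idem hY _
    have u0 : mv z u = 0 := by
      by_contra h
      refine hc _ h ?_ ?_ (mv_idem hZ _)
      · rw [mm cxz, ux]
      · rw [mm cyz, uy]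
    exact hb u ux uy u0
  have hx' : ∀ w, mv z (mv x w) = 0 := by
    intro w
    -- rotate the pair to the first one
    obtain ⟨v, rfl⟩ := (φ cr).surjective w
    obtain ⟨v, rfl⟩ := (φ cr).surjective v
    rw [tr hr3, tr hr2, tr hr2, tr hr1, show mv x (mv y v) = 0 from (mm cxy v).trans (hx v), map_zero,
      map_zero]
  have hxne : ∃ w, mv x w = w ∧ w ≠ 0 := by
    by_contra hno
    push Not at hno
    have hall : ∀ w, x w = w := fun w => mv_fix hX (hno _ (mv_idem hX w))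
    have : a9 0 = 1 := hinj (by rw [map_one]; exact LinearEquiv.ext hall)
    exact absurd this (by decide +kernel)
  have hcase : Nat.card (fx x) = 4 := by
    obtain ⟨w, hw, hw0⟩ := hxne
    have h4 : 4 ≤ Nat.card (fx x) := four_le ((inv fun _ => rfl).1) hw hw hw0
    have hfy : ∀ u ∈ fx x, u ∈ kx y ∧ u ∈ kx z := fun u hu =>
      ⟨by rw [mem_kx, ← mem_fx.1 hu]; exact hx _, by rw [mem_kx, ← mem_fx.1 hu]; exact hx' _⟩
    have h2 : ∀ u ∈ (fx x).map ρ, u ∈ fx y ∧ u ∈ kx z := by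
      rintro _ ⟨u, hu, rfl⟩
      exact ⟨by rw [mem_fx]; show mv y (φ cr u) = φ cr u; rw [tr hr1, mem_fx.1 hu],
        by rw [mem_kx]; show mv z (φ cr u) = 0; rw [tr hr2, mem_kx.1 (hfy u hu).1, map_zero]⟩
    have h3 : ∀ u ∈ ((fx x).map ρ).map ρ, u ∈ fx z := by
      rintro _ ⟨_, ⟨u, hu, rfl⟩, rfl⟩
      rw [mem_fx]; show mv z (φ cr (φ cr u)) = φ cr (φ cr u)
      rw [tr hr2, tr hr1, mem_fx.1 hu]
    have := ((Nat.mul_le_mul_right _ (card_sup (A := fx x) (B := (fx x).map ρ) fun u hu hu' =>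
      fx_kx (h2 u hu').1 (hfy u hu).1)).trans (card_sup (A := fx x ⊔ (fx x).map ρ)
      (B := ((fx x).map ρ).map ρ) fun u hu hu' => fx_kx (h3 u hu') ((sup_le (fun u hu => (hfy u hu).2)
        (fun u hu => (h2 u hu).2) : fx x ⊔ (fx x).map ρ ≤ kx z) hu))).trans (card_le_all _)
    have hm : ∀ S : AddSubgroup W, Nat.card ↥(S.map ρ) = Nat.card S := map_card
    simp only [hm, hcard] at this
    have hdvd : Nat.card (fx x) ∣ 2 ^ 8 := by
      have := (fx x).card_addSubgroup_dvd_card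
      rwa [hcard] at this
    obtain ⟨k, hk, e⟩ := (Nat.dvd_prime_pow Nat.prime_two).1 hdvd
    rw [e] at h4 this ⊢
    interval_cases k <;> simp_all
  obtain ⟨g, hg⟩ := a9_conj i
  have e : g * a9 0 = a9 i * g := by rw [← hg]; group
  refine hcase ▸ (Nat.card_congr ((φ g).toEquiv.subtypeEquiv fun w => ?_)).symm
  show mv x w = w ↔ mv (φ (a9 i)) (φ g w) = φ g w
  rw [tr e]
  exact ⟨fun h => congrArg _ h, fun h => (φ g).injective h⟩

end Cfsg.Agent.ThLocal
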