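import Cfsg.Agent.ThLocal.Image

/-!
No involution of the centraliser lies over a product of two transpositions.
-/

set_option autoImplicit false
set_option maxRecDepth 100000

open Cfsg Cfsg.Agent.ThreeTrans.OrthCohom Cfsg.Agent.Classical.Quad QuadraticMap Cfsg.Agent.LargeExtra
open Cfsg.Agent.CoOneType

namespace Cfsg.Agent.ThLocal

/-- The fixed points of a permutation. -/
def fixS (σ : A9) : Finset (Fin 9) := Finset.univ.filter fun a => (σ : Equiv.Perm (Fin 9)) a = a

theorem mem_fixS {σ : A9} {a : Fin 9} : a ∈ fixS σ ↔ (σ : Equiv.Perm (Fin 9)) a = a := by simp [fixS]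

theorem fixS_conj {σ τ : A9} (h : IsConj σ τ) : (fixS σ).card = (fixS τ).card := by
  obtain ⟨r, rfl⟩ := isConj_iff.1 h
  refine Finset.card_equiv (r : Equiv.Perm (Fin 9)) fun a => ?_
  rw [mem_fixS, mem_fixS]
  simp [Equiv.Perm.mul_apply]

theorem fixS_u : (fixS u1).card = 5 ∧ (fixS u2).card = 1 := by decide +kernel

/-- Three commuting products of four transpositions centralising a product of two. -/
theorem exists_u2_prod {f t t' : A9} (hf : IsConj f u1) (ht : IsConj t u2) (ht' : IsConj t' u2)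
    (htt : IsConj (t * t') u2) (hc : t * t' = t' * t) (hft : f * t = t * f) (hft' : f * t' = t' * f) :
    IsConj (f * t) u2 ∨ IsConj (f * t') u2 := by
  have hsq : ∀ {σ τ : A9}, IsConj σ τ → τ * τ = 1 → σ * σ = 1 := fun {σ τ} h e => by
    obtain ⟨r, rfl⟩ := isConj_iff.1 h
    rw [show r * σ * r⁻¹ * (r * σ * r⁻¹) = r * (σ * σ) * r⁻¹ by group] at e
    exact conj_eq_one_iff.1 e
  have hff := hsq hf u1_sq
  have htsq := hsq ht u2_sq
  have ht'sq := hsq ht' u2_sq
  have cf := (fixS_conj hf).trans fixS_u.1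
  have ct := (fixS_conj ht).trans fixS_u.2
  have ct' := (fixS_conj ht').trans fixS_u.2
  have ctt := (fixS_conj htt).trans fixS_u.2
  have key : ∀ s : A9, IsConj s u2 → s * s = 1 → f * s = s * f → ¬ IsConj (f * s) u2 →
      (fixS (f * s)).card = 5 := by
    intro s hs hss hfs hn
    have h2 : f * s * (f * s) = 1 := by
      rw [show f * s * (f * s) = f * (s * f) * s by group, ← hfs, ← mul_assoc f, hff, one_mul, hss]
    have h1 : f * s ≠ 1 := fun e => by
      have hfs' : f = s := (mul_eq_one_iff_eq_inv.1 e).trans (inv_eq_of_mul_eq_one_right hss)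
      have h' := (fixS_conj (hfs' ▸ hs : IsConj f u2)).trans fixS_u.2
      omega
    exact (fixS_conj ((inv_class h2 h1).resolve_right hn)).trans fixS_u.1
  by_contra hno
  rw [not_or] at hno
  have d1 := key t ht htsq hft hno.1
  have d2 := key t' ht' ht'sq hft' hno.2
  obtain ⟨o, ho⟩ := Finset.card_eq_one.1 ct
  have hot : (t : Equiv.Perm (Fin 9)) o = o := mem_fixS.1 (ho ▸ Finset.mem_singleton_self o)
  have huniq : ∀ a, (t : Equiv.Perm (Fin 9)) a = a → a = o := fun a h =>
    Finset.mem_singleton.1 (ho ▸ mem_fixS.2 h)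
  have hcomm : ∀ s : A9, s * t = t * s → (s : Equiv.Perm (Fin 9)) o = o := fun s hs => by
    refine huniq _ ?_
    have := congrArg (fun σ : A9 => (σ : Equiv.Perm (Fin 9)) o) hs
    simp [Equiv.Perm.mul_apply, hot] at this
    exact this.symm
  have hot' := hcomm t' hc.symm
  have hof := hcomm f hft
  have uniq' : ∀ {s : A9}, (fixS s).card = 1 → (s : Equiv.Perm (Fin 9)) o = o →
      ∀ a, (s : Equiv.Perm (Fin 9)) a = a → a = o := fun {s} h hso a ha => by
    obtain ⟨b, hb⟩ := Finset.card_eq_one.1 h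
    exact (Finset.mem_singleton.1 (hb ▸ mem_fixS.2 ha)).trans
      (Finset.mem_singleton.1 (hb ▸ mem_fixS.2 hso)).symm
  have dis1 : fixS f ∩ fixS (f * t) ⊆ {o} := fun a ha => by
    rw [Finset.mem_inter, mem_fixS, mem_fixS] at ha
    refine Finset.mem_singleton.2 (huniq a ?_)
    have h := ha.2
    rw [Subgroup.coe_mul, Equiv.Perm.mul_apply] at h
    exact (f : Equiv.Perm (Fin 9)).injective (h.trans ha.1.symm)
  have dis2 : fixS f ∩ fixS (f * t') ⊆ {o} := fun a ha => by
    rw [Finset.mem_inter, mem_fixS, mem_fixS] at ha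
    refine Finset.mem_singleton.2 (uniq' ct' hot' a ?_)
    have h := ha.2
    rw [Subgroup.coe_mul, Equiv.Perm.mul_apply] at h
    exact (f : Equiv.Perm (Fin 9)).injective (h.trans ha.1.symm)
  have dis3 : fixS (f * t) ∩ fixS (f * t') ⊆ {o} := fun a ha => by
    rw [Finset.mem_inter, mem_fixS, mem_fixS, Subgroup.coe_mul, Equiv.Perm.mul_apply, Subgroup.coe_mul,
      Equiv.Perm.mul_apply] at ha
    refine Finset.mem_singleton.2 (uniq' ctt ?_ a ?_)
    · rw [Subgroup.coe_mul, Equiv.Perm.mul_apply, hot', hot]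
    · rw [Subgroup.coe_mul, Equiv.Perm.mul_apply, ← (f : Equiv.Perm (Fin 9)).injective (ha.1.trans ha.2.symm),
        ← Equiv.Perm.mul_apply, ← Subgroup.coe_mul, htsq]
      rfl
  have h1 := Finset.card_union_add_card_inter (fixS f) (fixS (f * t))
  have h2 := Finset.card_union_add_card_inter (fixS f ∪ fixS (f * t)) (fixS (f * t'))
  have b1 := Finset.card_le_card dis1
  have b3 : ((fixS f ∪ fixS (f * t)) ∩ fixS (f * t')).card ≤ 1 := by
    refine (Finset.card_le_card (t := {o}) ?_).trans (by simp)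
    rw [Finset.union_inter_distrib_right]
    exact Finset.union_subset dis2 dis3
  have b4 := Finset.card_le_univ (fixS f ∪ fixS (f * t) ∪ fixS (f * t'))
  simp only [Finset.card_singleton, Fintype.card_fin] at b1 b4
  omega

theorem twist_code : (∀ u ∈ [1, 4, 32], u < 256 ∧ qn u = false ∧
    ∃ y : Fin 256, wap true [0, 1] y.val ^^^ y.val = u) ∧
    Bn 4 1 = false ∧ Bn 32 1 = false ∧ 4 ∉ W0L ∧ 32 ∉ W0L ∧ 36 ∉ W0L ∧ qn 36 = false := by
  decide +kernel

variable {G : Type*} [Group G] [Finite G] {z : G}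

namespace ThS.Pair

variable {S : ThS z} {x : G} (F : S.Pair x)
include F

/-- In the coordinates of `x` no involution over the first class goes to the second. -/
theorem no_u2_from {T : ThS x} (P : T.Pair z) {y : G} (hyz : y * z = z * y) (hyx : y * x = x * y)
    (hy2 : y * y = 1) (hy : IsConj (S.sig y) u1) : ¬ IsConj (T.sig y) u2 := by
  intro h
  obtain ⟨-, d, D, hyd, hzd⟩ := P.invol_u2 hyx hy2 h
  have hzd' := hzd z P hyz.symm
  obtain ⟨g, hg⟩ := P.conj
  obtain ⟨g', hg'⟩ := D.conj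
  have hz : g * g'⁻¹ * d * (g * g'⁻¹)⁻¹ = z := by rw [← hg, ← hg']; group
  have hdz : d ∈ oc z := by
    have h1 := D.sett.symm (g := g * g'⁻¹) (by rw [hz]; exact hzd')
    rwa [hz] at h1
  have hyn : y ∉ oc z := fun hm => by
    rw [(S.sig_one_iff hyz).2 hm] at hy
    exact u1_ne (isConj_one_right.1 hy)
  have hne : d ≠ z := fun e => hyn (e ▸ hyd)
  obtain ⟨g'', hg''⟩ := F.conj
  have D' : S.Pair d := ⟨hdz, ⟨g' * g'', by rw [← hg', ← hg'']; group⟩, hne⟩
  have h' := fixS_conj (hy.symm.trans (D'.sig_class hyd hyz hyn))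
  rw [fixS_u.1, fixS_u.2] at h'
  omega

end ThS.Pair

/-- No involution over a product of two transpositions. -/
theorem ThS.no_invol_u1 {S : ThS z} {x₀ : G} (F₀ : S.Pair x₀) {y : G} (hyz : y * z = z * y)
    (hy2 : y * y = 1) : ¬ IsConj (S.sig y) u1 := by
  intro hconj
  obtain ⟨c, hc, hcs⟩ := S.exists_sig_conj hyz hconj
  have hy2' : c * y * c⁻¹ * (c * y * c⁻¹) = 1 := by
    rw [show c * y * c⁻¹ * (c * y * c⁻¹) = c * (y * y) * c⁻¹ by group, hy2]; group
  have hyz' : c * y * c⁻¹ * z = z * (c * y * c⁻¹) :=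
    (Commute.mul_left (Commute.mul_left hc hyz) (Commute.inv_left hc)).eq
  clear hconj hyz hy2
  generalize c * y * c⁻¹ = y at hcs hy2' hyz'
  have hyz := hyz'
  have hy2 := hy2'
  have hsp := F₀.sp_true
  have hya : S.act y = S.ρ (wg [0, 1]) := by rw [u1_word]; exact S.act_sig hyz hcs
  have hyi : y⁻¹ = y := inv_eq_of_mul_eq_one_right hy2
  obtain ⟨hcode, hb4, hb32, hn4, hn32, hn36, hq36⟩ := twist_code
  -- singular elements commuting with `y`
  have hq : ∀ u ∈ [1, 4, 32], ∃ q, q ∈ oc z ∧ S.pr q = dc u ∧ q * y = y * q := by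
    intro u hu
    obtain ⟨hu256, hqu, v, hv⟩ := hcode u hu
    obtain ⟨b, hb, hbe⟩ := S.pr_surj (dc v.val)
    set q := b * y * b⁻¹ * y⁻¹
    have hq' : q = b * (y * b⁻¹ * y⁻¹) := by
      show b * y * b⁻¹ * y⁻¹ = _
      group
    have hqm : q ∈ oc z := hq' ▸ mul_mem hb (S.nrm hyz (inv_mem hb))
    have hqp : S.pr q = dc u := by
      rw [hq', S.pr_mul _ hb _ (S.nrm hyz (inv_mem hb)), S.act_spec y hyz _ (inv_mem hb), S.pr_inv hb,
        hbe, hya, S.ρ_wap _ _ v.isLt, hsp, ← dc_xor, Nat.xor_comm, hv]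
    refine ⟨q, hqm, hqp, ?_⟩
    have hqq : q * q = 1 := by rw [S.pr_sq q hqm, hqp, q_dc hu256, hqu]; exact zp_zero z
    have hqi : q⁻¹ = q := inv_eq_of_mul_eq_one_right hqq
    calc q * y = b * y * b⁻¹ := by simp [q]
      _ = y * q⁻¹ := by
        show _ = y * (b * y * b⁻¹ * y⁻¹)⁻¹
        simp only [mul_inv_rev, inv_inv, hyi, ← mul_assoc, hy2, one_mul]
      _ = y * q := by rw [hqi]
  obtain ⟨x, hx, hxp, hxy⟩ := hq 1 (by simp)
  obtain ⟨q, hqm, hqp, hqy⟩ := hq 4 (by simp)
  obtain ⟨r, hrm, hrp, hry⟩ := hq 32 (by simp)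
  have hsing : ∀ {a u}, a ∈ oc z → S.pr a = dc u → u < 256 → qn u = false → a * a = 1 :=
    fun {a u} ha e hu hqu => by rw [S.pr_sq a ha, e, q_dc hu, hqu]; exact zp_zero z
  have F : S.Pair x := F₀.conj_of_singular hx
    (by rw [hxp, ← dc_zero]; exact fun e => absurd (dc_inj (by norm_num) (by norm_num) e) (by norm_num))
    (by rw [hxp, q_dc (by norm_num)]; decide)
  obtain ⟨T, -, P⟩ := F.symm
  have hcx : ∀ {a u}, a ∈ oc z → S.pr a = dc u → u < 256 → Bn u 1 = false → a * x = x * a :=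
    fun {a u} ha e hu hB => (S.commute_iff ha hx).2 (by rw [e, hxp, Bp_dc hu (by norm_num), hB]; rfl)
  have hqx := hcx hqm hqp (by norm_num) hb4
  have hrx := hcx hrm hrp (by norm_num) hb32
  have hsig : ∀ {a u}, a ∈ oc z → S.pr a = dc u → u < 256 → u ∉ W0L → a * x = x * a →
      IsConj (T.sig a) u2 := fun {a u} ha e hu hW hax =>
    P.sig_class ha hax fun h => hW (cd_eq hu e ▸ (F.mem_W0 hxp ha).1 h)
  have tq := hsig hqm hqp (by norm_num) hn4 hqx
  have tr := hsig hrm hrp (by norm_num) hn32 hrx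
  have tqr : IsConj (T.sig (q * r)) u2 := hsig (mul_mem hqm hrm)
    (by rw [S.pr_mul q hqm r hrm, hqp, hrp, ← dc_xor]; rfl : S.pr (q * r) = dc 36) (by norm_num) hn36
    (Commute.mul_left hqx hrx).eq
  rw [T.sig_mul hqx hrx] at tqr
  have hyx : y * x = x * y := hxy.symm
  have hyu1 : IsConj (S.sig y) u1 := hcs ▸ IsConj.refl _
  have hyn : y ∉ oc z := fun hm => u1_ne (hcs.symm.trans ((S.sig_one_iff hyz).2 hm))
  have hno := F.no_u2_from P hyz hyx hy2 hyu1
  have hy1 : T.sig y ≠ 1 := fun e => by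
    have h' := fixS_conj (hyu1.symm.trans (F.sig_class ((T.sig_one_iff hyx).1 e) hyz hyn))
    rw [fixS_u.1, fixS_u.2] at h'
    omega
  have hf : IsConj (T.sig y) u1 := (inv_class (by
    rw [← T.sig_mul hyx hyx, hy2, T.sig_one_iff (Commute.one_left x).eq]; exact one_mem _) hy1).resolve_right hno
  have hqr : q * r = r * q := (S.commute_iff hqm hrm).2 (by
    rw [hqp, hrp, Bp_dc (by norm_num) (by norm_num)]; decide)
  have hprod : ∀ {a}, a ∈ oc z → a * y = y * a → a * a = 1 → a * x = x * a →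
      ¬ IsConj (T.sig y * T.sig a) u2 := by
    intro a ha hay haa hax h
    rw [← T.sig_mul hyx hax] at h
    have haz := S.comm ha
    refine F.no_u2_from P (Commute.mul_left hyz haz).eq (Commute.mul_left hyx hax).eq ?_ ?_ h
    · rw [show y * a * (y * a) = y * (a * y) * a by group, hay, ← mul_assoc y, hy2, one_mul, haa]
    · rw [S.sig_mul hyz haz, (S.sig_one_iff haz).2 ha, mul_one]; exact hyu1
  rcases exists_u2_prod hf tq tr tqr (by rw [← T.sig_mul hqx hrx, ← T.sig_mul hrx hqx, hqr])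
    (by rw [← T.sig_mul hyx hqx, ← T.sig_mul hqx hyx, hqy])
    (by rw [← T.sig_mul hyx hrx, ← T.sig_mul hrx hyx, hry]) with h | h
  · exact hprod hqm hqy (hsing hqm hqp (by norm_num) (by decide)) hqx h
  · exact hprod hrm hry (hsing hrm hrp (by norm_num) (by decide)) hrx h

end Cfsg.Agent.ThLocal
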